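import Groth.Agent.L13.FEtLeff.Main
import Groth.Agent.L18.LefExtend

/-!
# Formal covers and their presentations on an open neighbourhood
-/

set_option autoImplicit false
set_option linter.style.haveILetI false
set_option linter.unusedSectionVars false
set_option backward.isDefEq.respectTransparency false
set_option backward.isDefEq.respectTransparency.types false

universe u

open CategoryTheory CategoryTheory.Limits AlgebraicGeometry TopologicalSpace Opposite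
open Groth.L18.Frame (rs ro)
open Groth.L19.ProjBdl (IsBasisOn lc app_rs)
open Groth.L12.FinCov (mkHom)
open Groth.L06.FEtLef (pO)

noncomputable section

namespace Groth.L13.FEtLeff

section Generic

variable {X U P P' Q Q' : Scheme.{u}}

/-- Bases of a restriction are bases of the module. -/
theorem isBasisOn_image (j : U ⟶ X) [IsOpenImmersion j] {M : X.Modules} {W : U.Opens} {n : ℕ}
    {c : Fin n → Γ(M, j ''ᵁ W)} (hc : IsBasisOn (M.restrict j) W c) : IsBasisOn M (j ''ᵁ W) c := by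
  intro V h
  obtain ⟨V, rfl⟩ : ∃ V' : U.Opens, j ''ᵁ V' = V := ⟨j ⁻¹ᵁ V, by
    rw [Scheme.Hom.image_preimage_eq_opensRange_inf, inf_eq_right]
    exact (h.trans (j.image_mono le_top)).trans (Scheme.Hom.image_top_eq_opensRange j).le⟩
  have hV : V ≤ W := (j.preimage_image_eq V).ge.trans ((j.preimage_mono h).trans (j.preimage_image_eq W).le)
  let ee := (j.appIso V).commRingCatIsoToRingEquiv
  refine (Function.Bijective.of_comp_iff _
    (Equiv.piCongrRight fun _ : Fin n => ee.symm.toEquiv).bijective).1 ?_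
  refine Eq.mp (congrArg Function.Bijective ?_) (hc V hV)
  funext r
  refine Finset.sum_congr rfl fun i _ => ?_
  rfl

theorem res_pre {j : U ⟶ X} [IsOpenImmersion j] {r : P ⟶ X} {r' : P ⟶ U} (h : r' ≫ j = r) (W : U.Opens) :
    r' ⁻¹ᵁ W ≤ r ⁻¹ᵁ (j ''ᵁ W) := by
  subst h
  rw [Scheme.Hom.comp_preimage, j.preimage_image_eq]

/-- A morphism to functions on a scheme over `X`, on an open through which it factors. -/
def resHom (j : U ⟶ X) [IsOpenImmersion j] {r : P ⟶ X} {r' : P ⟶ U} (h : r' ≫ j = r) {F : X.Modules}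
    (v : F ⟶ (Scheme.Modules.pushforward r).obj (Coh.structureModule P)) :
    F.restrict j ⟶ (Scheme.Modules.pushforward r').obj (Coh.structureModule P) :=
  mkHom (M := F.restrict j) (N := (Scheme.Modules.pushforward r').obj (Coh.structureModule P))
    (fun W x => rf P (res_pre h W) (show Γ(P, r ⁻¹ᵁ (j ''ᵁ W)) from v.app (j ''ᵁ W) x))
    (fun W x y => (congrArg (rf P (res_pre h W)) (map_add (v.app (j ''ᵁ W)).hom x y)).trans
      (map_add (P.presheaf.map (homOfLE (res_pre h W)).op).hom _ _))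
    (fun W a x => by
      refine (congrArg (rf P (res_pre h W)) (v.app_smul ((j.appIso W).inv a) x)).trans ?_
      refine (map_mul (P.presheaf.map (homOfLE (res_pre h W)).op).hom
        (r.app (j ''ᵁ W) ((j.appIso W).inv a)) _).trans ?_
      refine congrArg (· * _) ?_
      show _ = r'.app W a
      rw [IsOpenImmersion.app_eq_appIso_inv_app_of_comp_eq r' j r h.symm W]
      rfl)
    (fun W W' hW x => by
      refine (congrArg (rf P (res_pre h W')) (app_rs v (j.image_mono hW) x)).trans ?_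
      show (P.presheaf.map _ ≫ P.presheaf.map _) _ = (P.presheaf.map _ ≫ P.presheaf.map _) _
      rw [← Functor.map_comp, ← Functor.map_comp]
      rfl)

theorem resHom_app (j : U ⟶ X) [IsOpenImmersion j] {r : P ⟶ X} {r' : P ⟶ U} (h : r' ≫ j = r) {F : X.Modules}
    (v : F ⟶ (Scheme.Modules.pushforward r).obj (Coh.structureModule P)) (W : U.Opens) (x : Γ(F, j ''ᵁ W)) :
    (resHom j h v).app W x = rf P (res_pre h W) (show Γ(P, r ⁻¹ᵁ (j ''ᵁ W)) from v.app (j ''ᵁ W) x) := rfl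

theorem resHom_comm (j : U ⟶ X) [IsOpenImmersion j] (t : P ⟶ P') {r₀ : P ⟶ X} {r₀' : P ⟶ U} (h₀ : r₀' ≫ j = r₀)
    {r₁ : P' ⟶ X} {r₁' : P' ⟶ U} (h₁ : r₁' ≫ j = r₁) {F : X.Modules}
    (v₀ : F ⟶ (Scheme.Modules.pushforward r₀).obj (Coh.structureModule P))
    (v₁ : F ⟶ (Scheme.Modules.pushforward r₁).obj (Coh.structureModule P'))
    (W : U.Opens) (e' : r₀' ⁻¹ᵁ W ≤ t ⁻¹ᵁ (r₁' ⁻¹ᵁ W))
    (e : r₀ ⁻¹ᵁ (j ''ᵁ W) ≤ t ⁻¹ᵁ (r₁ ⁻¹ᵁ (j ''ᵁ W))) (x : Γ(F, j ''ᵁ W))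
    (hv : t.appLE _ _ e (show Γ(P', r₁ ⁻¹ᵁ (j ''ᵁ W)) from v₁.app (j ''ᵁ W) x) =
      (show Γ(P, r₀ ⁻¹ᵁ (j ''ᵁ W)) from v₀.app (j ''ᵁ W) x)) :
    t.appLE _ _ e' (show Γ(P', r₁' ⁻¹ᵁ W) from (resHom j h₁ v₁).app W x) =
      (show Γ(P, r₀' ⁻¹ᵁ W) from (resHom j h₀ v₀).app W x) :=
  (appLE_rf t (res_pre h₁ W) (res_pre h₀ W) e e' _).trans (congrArg (rf P (res_pre h₀ W)) hv)

/-- Frames on a cover move along an isomorphism of the base. -/
theorem isBasisOn_iso (τ : Q' ≅ Q) (p : P ⟶ Q) {O : Q.Opens} {O' : Q'.Opens} (hO : τ.inv ⁻¹ᵁ O' ≤ O) {m : ℕ}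
    {b : Fin m → Γ(pO p, O)} (hb : IsBasisOn (pO p) O b) :
    IsBasisOn (pO (p ≫ τ.inv)) O' fun k =>
      (show Γ(pO (p ≫ τ.inv), O') from rf P (show (p ≫ τ.inv) ⁻¹ᵁ O' ≤ p ⁻¹ᵁ O from p.preimage_mono hO)
        (show Γ(P, p ⁻¹ᵁ O) from b k)) := by
  intro V h
  have h₀ : τ.inv ⁻¹ᵁ V ≤ O := (τ.inv.preimage_mono h).trans hO
  have hb' : Function.Bijective fun c : Fin m → Γ(Q', V) => lc (pO p) b h₀ (fun k => τ.inv.app V (c k)) :=
    (hb _ h₀).comp (Equiv.piCongrRight fun _ : Fin m =>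
      Equiv.ofBijective _ (ConcreteCategory.bijective_of_isIso (τ.inv.app V))).bijective
  refine Eq.mp (congrArg Function.Bijective ?_) hb'
  funext c
  refine Finset.sum_congr rfl fun k _ => ?_
  refine congrArg (fun z : Γ(P, p ⁻¹ᵁ (τ.inv ⁻¹ᵁ V)) => (p.app (τ.inv ⁻¹ᵁ V) (τ.inv.app V (c k))) * z) ?_
  show P.presheaf.map _ _ = (P.presheaf.map _ ≫ P.presheaf.map _) _
  rw [← Functor.map_comp]
  rfl

end Generic

variable {X U : Scheme.{u}} {𝓙 : X.IdealSheafData} {𝓙' : U.IdealSheafData} (j : U ⟶ X) [IsOpenImmersion j]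
  (τ : ∀ n, lvl 𝓙' n ≅ lvl 𝓙 n) (hτ : ∀ n, (τ n).hom ≫ lι 𝓙 n = lι 𝓙' n ≫ j)

include hτ in
theorem tau_ltr (n : ℕ) : (τ n).inv ≫ ltr 𝓙' n = ltr 𝓙 n ≫ (τ (n + 1)).inv := by
  rw [← cancel_mono (lι 𝓙' (n + 1) ≫ j), Category.assoc, Category.assoc, ← Category.assoc (ltr 𝓙' n), ltr_ι,
    ← hτ n, ← hτ (n + 1), Iso.inv_hom_id_assoc, Iso.inv_hom_id_assoc, ltr_ι]

namespace Cover

variable (C : Cover 𝓙)

include hτ in
theorem res_sq (n : ℕ) : IsPullback (C.t n) (C.p n ≫ (τ n).inv) (C.p (n + 1) ≫ (τ (n + 1)).inv) (ltr 𝓙' n) :=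
  (C.sq n).paste_vert (IsPullback.of_vert_isIso ⟨(tau_ltr j τ hτ n).symm⟩)

/-- A system of covers on an open neighbourhood. -/
def res : Cover 𝓙' where
  R := C.R
  p n := C.p n ≫ (τ n).inv
  fin n := by infer_instance
  et n := by infer_instance
  t := C.t
  sq := C.res_sq j τ hτ

include hτ in
theorem res_r (n : ℕ) : (C.p n ≫ (τ n).inv) ≫ lι 𝓙' n ≫ j = C.p n ≫ lι 𝓙 n := by
  rw [← hτ n, Category.assoc, Iso.inv_hom_id_assoc]

end Cover

variable {C : Cover 𝓙} {F : X.Modules}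

/-- A presentation on an open neighbourhood. -/
def Pres.res (P : Pres C F) : Pres (C.res j τ hτ) (F.restrict j) where
  v n := resHom j (r := C.r n) (r' := (C.p n ≫ (τ n).inv) ≫ lι 𝓙' n)
    ((Category.assoc _ _ _).trans (C.res_r j τ hτ n)) (P.v n)
  v_t n := Groth.L12.FinCov.hom_ext fun W x =>
    resHom_comm j (C.t n) ((Category.assoc _ _ _).trans (C.res_r j τ hτ n))
      ((Category.assoc _ _ _).trans (C.res_r j τ hτ (n + 1))) (P.v n) (P.v (n + 1)) W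
      ((C.res j τ hτ).t_pre n W) (C.t_pre n (j ''ᵁ W)) x (P.vS_t n (j ''ᵁ W) x)
  v_frame n _ W _ he := by
    have hO : (τ n).inv ⁻¹ᵁ (lι 𝓙' n ⁻¹ᵁ W) ≤ lι 𝓙 n ⁻¹ᵁ (j ''ᵁ W) :=
      res_pre (j := j) (r := lι 𝓙 n) (r' := (τ n).inv ≫ lι 𝓙' n)
        (by rw [Category.assoc, ← hτ n, Iso.inv_hom_id_assoc]) W
    exact isBasisOn_iso (τ n) (C.p n) hO (P.v_frame n _ _ _ (isBasisOn_image j he))

/-- Covers of the closed subscheme extend to an open on which the algebraizing module is locally free. -/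
theorem exists_extension (𝓙 : X.IdealSheafData) (R : FEt.Cat 𝓙.subscheme)
    (hess : ∀ C : Cover 𝓙, ∃ (V : X.Opens) (F : X.Modules), (𝓙.support : Set X) ⊆ (V : Set X) ∧
      HomBij (𝓙.comap V.ι) ∧ FlatMod.IsFinLocFree (F.restrict V.ι) ∧ Nonempty (FSch.complMod 𝓙 F ≅ C.modSys)) :
    ∃ (V : X.Opens) (W : FEt.Cat (V : Scheme.{u})), (𝓙.support : Set X) ⊆ (V : Set X) ∧
      ∀ i : 𝓙.subscheme ⟶ (V : Scheme.{u}), i ≫ V.ι = 𝓙.subschemeι → Nonempty ((FEt.restrict i).obj W ≅ R) := by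
  obtain ⟨C, k, e, hk, he⟩ := exists_cover_of_subscheme 𝓙 R
  obtain ⟨V, F, hV, hD, hF, hiso⟩ := hess C
  obtain ⟨d⟩ := C.nonempty_datum hiso
  choose τ hτ using fun n => Groth.L18.LefExtend.exists_thickeningIso 𝓙 V hV n
  obtain ⟨W, g, q, hg, hg', hpb⟩ := (d.pres.res V.ι τ hτ).exists_cover hF hD
  refine ⟨V, MorphismProperty.Over.mk ⊤ g (show FEt.prop g from ⟨hg, hg'⟩), hV, fun i hi => ?_⟩
  have hl : lι (𝓙.comap V.ι) 0 = ((τ 0).hom ≫ k.hom) ≫ i := by
    rw [← cancel_mono V.ι, Category.assoc, hi, Category.assoc, hk, hτ]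
  have h : IsPullback (e.inv ≫ q) R.hom g i :=
    hpb.of_iso e (Iso.refl _) (τ 0 ≪≫ k) (Iso.refl _) (by simp)
      (by
        show (C.p 0 ≫ (τ 0).inv) ≫ (τ 0).hom ≫ k.hom = e.hom ≫ R.hom
        rw [Category.assoc, Iso.inv_hom_id_assoc, he])
      (by simp) (by simp only [Iso.refl_hom, Category.comp_id, Iso.trans_hom]; exact hl)
  exact ⟨MorphismProperty.Over.isoMk h.isoPullback.symm
    (by show h.isoPullback.inv ≫ R.hom = pullback.snd g i; exact h.isoPullback_inv_snd)⟩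

end Groth.L13.FEtLeff
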