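import Groth.Agent.L13.FEtLeff.Extend
import Groth.Agent.L13.FEtLeff.Restrict
import Groth.Agent.L13.Purity.Compl
import Groth.Agent.L16.PureQuot.Main
import Groth.Agent.L18.LocPicCI
import Groth.Agent.L18.ModSysAlgz

/-! Purity along quotients with the effective Lefschetz property, and along completion. -/

set_option autoImplicit false
set_option linter.style.haveILetI false
set_option backward.isDefEq.respectTransparency false
set_option backward.isDefEq.respectTransparency.types false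

universe u

open CategoryTheory CategoryTheory.Limits AlgebraicGeometry TopologicalSpace
open Groth.L16.PureQuot (restrictCompIso' isEquivalence_of_isIso)

noncomputable section

namespace Groth.L13.FEtLeff

/-- The restriction along a composite is the composite of restrictions, on objects. -/
def restrictFacIso {X Y Z : Scheme.{u}} {f : X ⟶ Y} {g : Y ⟶ Z} {h : X ⟶ Z} (e : f ≫ g = h) :
    FEt.restrict h ≅ FEt.restrict g ⋙ FEt.restrict f :=
  MorphismProperty.Over.pullbackCongr e.symm ≪≫ restrictCompIso' f g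

theorem essSurj_comp {X Y Z : Scheme.{u}} {f : X ⟶ Y} {g : Y ⟶ Z} {h : X ⟶ Z} (e : f ≫ g = h)
    (hf : (FEt.restrict f).EssSurj) (hg : (FEt.restrict g).EssSurj) : (FEt.restrict h).EssSurj :=
  ⟨fun V => by
    obtain ⟨W, ⟨a⟩⟩ := Functor.EssSurj.mem_essImage (F := FEt.restrict f) V
    obtain ⟨T, ⟨b⟩⟩ := Functor.EssSurj.mem_essImage (F := FEt.restrict g) W
    exact ⟨T, ⟨(restrictFacIso e).app T ≪≫ (FEt.restrict f).mapIso b ≪≫ a⟩⟩⟩

theorem essSurj_of_comp_right {X Y Z : Scheme.{u}} {f : X ⟶ Y} [IsIso f] {g : Y ⟶ Z} {h : X ⟶ Z} (e : f ≫ g = h)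
    (hh : (FEt.restrict h).EssSurj) : (FEt.restrict g).EssSurj :=
  haveI := isEquivalence_of_isIso f
  ⟨fun V => by
    obtain ⟨T, ⟨a⟩⟩ := Functor.EssSurj.mem_essImage (F := FEt.restrict h) ((FEt.restrict f).obj V)
    exact ⟨T, ⟨(FEt.restrict f).preimageIso (((restrictFacIso e).app T).symm ≪≫ a)⟩⟩⟩

/-- The inverse image of the punctured spectrum as a fibre product. -/
theorem exists_theta {A B : Type u} [CommRing A] [IsLocalRing A] [CommRing B] [IsLocalRing B]
    (q : Spec (CommRingCat.of B) ⟶ Spec (CommRingCat.of A))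
    (hpre : q ⁻¹ᵁ FEt.puncturedSpec A = FEt.puncturedSpec B) :
    ∃ θ : pullback (FEt.puncturedSpec A).ι q ⟶ (FEt.puncturedSpec B).toScheme,
      IsIso θ ∧ θ ≫ (FEt.puncturedSpec B).ι = pullback.snd (FEt.puncturedSpec A).ι q := by
  let U := FEt.puncturedSpec A
  let U₀ := FEt.puncturedSpec B
  let θ : pullback U.ι q ⟶ U₀.toScheme := IsOpenImmersion.lift U₀.ι (pullback.snd U.ι q) (by
    rintro _ ⟨z, rfl⟩
    rw [Scheme.Opens.range_ι]
    show pullback.snd U.ι q z ∈ FEt.puncturedSpec B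
    rw [← hpre]
    show q (pullback.snd U.ι q z) ∈ U
    rw [← Scheme.Hom.comp_apply, ← pullback.condition, Scheme.Hom.comp_apply]
    exact (pullback.fst U.ι q z).2)
  have hθ : θ ≫ U₀.ι = pullback.snd U.ι q := IsOpenImmersion.lift_fac _ _ _
  haveI : IsOpenImmersion (θ ≫ U₀.ι) := by rw [hθ]; infer_instance
  haveI : IsOpenImmersion θ := IsOpenImmersion.of_comp θ U₀.ι
  haveI : Surjective θ := ⟨fun w => by
    have hw : (U₀.ι w) ∈ Set.range (pullback.snd U.ι q) := by
      rw [IsOpenImmersion.range_pullbackSnd, Scheme.Opens.opensRange_ι]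
      show U₀.ι w ∈ q ⁻¹ᵁ U
      rw [hpre]
      exact w.2
    obtain ⟨z, hz⟩ := hw
    refine ⟨z, U₀.ι.isOpenEmbedding.injective ?_⟩
    rw [← Scheme.Hom.comp_apply, hθ, hz]⟩
  exact ⟨θ, (isIso_iff_isOpenImmersion_and_surjective θ).2 ⟨inferInstance, inferInstance⟩, hθ⟩

/-- Purity from the fibre product with a pure ring. -/
theorem purityHolds_of_essSurj_fst {A B : Type u} [CommRing A] [IsLocalRing A] [CommRing B] [IsLocalRing B]
    (q : Spec (CommRingCat.of B) ⟶ Spec (CommRingCat.of A))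
    (hpre : q ⁻¹ᵁ FEt.puncturedSpec A = FEt.puncturedSpec B)
    (hU : (FEt.restrict (pullback.fst (FEt.puncturedSpec A).ι q)).EssSurj) (hA : FEt.PurityHolds A) :
    FEt.PurityHolds B := by
  obtain ⟨θ, hiso, hθ⟩ := exists_theta q hpre
  haveI := hiso
  have h1 := essSurj_comp (pullback.condition (f := (FEt.puncturedSpec A).ι) (g := q)) hU hA
  rw [← hθ, Category.assoc] at h1
  have h2 := essSurj_of_comp_right (f := θ) rfl h1
  refine ⟨fun V => ?_⟩
  obtain ⟨T, ⟨a⟩⟩ := Functor.EssSurj.mem_essImage (F := FEt.restrict ((FEt.puncturedSpec B).ι ≫ q)) V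
  exact ⟨(FEt.restrict q).obj T, ⟨((restrictFacIso rfl).app T).symm ≪≫ a⟩⟩

/-- Purity descends from the completion. -/
theorem purityHolds_of_completion {A : Type u} [CommRing A] [IsNoetherianRing A] [IsLocalRing A]
    (h : FEt.PurityHolds (AdicCompletion (IsLocalRing.maximalIdeal A) A)) : FEt.PurityHolds A := by
  haveI := Groth.L01.AnalUnram.isNoetherianRing_completion A
  let Ah := AdicCompletion (IsLocalRing.maximalIdeal A) A
  let c : Spec (CommRingCat.of Ah) ⟶ Spec (CommRingCat.of A) := Spec.map (CommRingCat.ofHom (algebraMap A Ah))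
  have hpre : c ⁻¹ᵁ FEt.puncturedSpec A = FEt.puncturedSpec Ah := by
    have hmap : (IsLocalRing.maximalIdeal A).map (algebraMap A Ah) = IsLocalRing.maximalIdeal Ah :=
      Groth.L01.AnalUnram.completion_map_maximalIdeal A
    refine Groth.L18.LocPic.preimage_punctured _ (fun P hP => ?_) ?_
    · refine ((IsLocalRing.maximalIdeal.isMaximal Ah).eq_of_le P.2.ne_top ?_).symm
      exact hmap.symm.le.trans (Ideal.map_le_iff_le_comap.2 hP.ge)
    · refine ((IsLocalRing.maximalIdeal.isMaximal A).eq_of_le (Ideal.comap_ne_top _ (IsLocalRing.maximalIdeal.isMaximal Ah).ne_top) ?_).symm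
      rw [← hmap]
      exact Ideal.le_comap_map
  obtain ⟨θ, hiso, hθ⟩ := exists_theta c hpre
  haveI := hiso
  have h2 : (FEt.restrict (pullback.snd (FEt.puncturedSpec A).ι c)).EssSurj := by
    haveI := isEquivalence_of_isIso θ
    exact essSurj_comp hθ inferInstance h
  refine ⟨fun V => ?_⟩
  obtain ⟨Y', ⟨e⟩⟩ := Functor.EssSurj.mem_essImage (F := FEt.restrict (pullback.snd (FEt.puncturedSpec A).ι c))
    ((FEt.restrict (pullback.fst (FEt.puncturedSpec A).ι c)).obj V)
  exact Groth.L13.Purity.Compl.exists_extension A V Y' e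

/-- Extension from the open neighbourhoods gives essential surjectivity. -/
theorem essSurj_of_extension {X P : Scheme.{u}} (p : P ⟶ X) [IsClosedImmersion p]
    (hnbhd : ∀ R : FEt.Cat p.ker.subscheme, ∃ (V : X.Opens) (W : FEt.Cat (V : Scheme.{u})),
      (p.ker.support : Set X) ⊆ (V : Set X) ∧
      ∀ i : p.ker.subscheme ⟶ (V : Scheme.{u}), i ≫ V.ι = p.ker.subschemeι → Nonempty ((FEt.restrict i).obj W ≅ R))
    (hext : ∀ V : X.Opens, (p.ker.support : Set X) ⊆ (V : Set X) → (FEt.restrict V.ι).EssSurj) :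
    (FEt.restrict p).EssSurj := by
  have h1 : (FEt.restrict p.ker.subschemeι).EssSurj := ⟨fun R => by
    obtain ⟨V, W, hV, hi⟩ := hnbhd R
    have hr : Set.range p.ker.subschemeι ⊆ Set.range V.ι := by
      rw [Scheme.Opens.range_ι, Scheme.IdealSheafData.range_subschemeι]
      exact hV
    let i := IsOpenImmersion.lift V.ι p.ker.subschemeι hr
    obtain ⟨a⟩ := hi i (IsOpenImmersion.lift_fac _ _ _)
    haveI := hext V hV
    obtain ⟨T, ⟨b⟩⟩ := Functor.EssSurj.mem_essImage (F := FEt.restrict V.ι) W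
    exact ⟨T, ⟨(restrictFacIso (IsOpenImmersion.lift_fac V.ι p.ker.subschemeι hr)).app T ≪≫
      (FEt.restrict i).mapIso b ≪≫ a⟩⟩⟩
  haveI : IsIso p.toImage := inferInstance
  haveI := isEquivalence_of_isIso p.toImage
  exact essSurj_comp p.toImage_imageι inferInstance h1

/-- Algebraization with the Lefschetz property gives extension to neighbourhoods. -/
theorem exists_extension_of_leff {X : Scheme.{u}} (𝓘 : X.IdealSheafData) (hL : LefX.LeffCond X 𝓘)
    (R : FEt.Cat 𝓘.subscheme) : ∃ (V : X.Opens) (W : FEt.Cat (V : Scheme.{u})),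
      (𝓘.support : Set X) ⊆ (V : Set X) ∧
      ∀ i : 𝓘.subscheme ⟶ (V : Scheme.{u}), i ≫ V.ι = 𝓘.subschemeι → Nonempty ((FEt.restrict i).obj W ≅ R) := by
  refine exists_extension 𝓘 R fun C => ?_
  obtain ⟨U, E, hU, hE, ⟨e⟩⟩ := hL.2 C.modSys C.levelwiseFinLocFree_modSys
  refine ⟨U, (Scheme.Modules.pushforward U.ι).obj E, hU, fun D hD => hL.1 U hU D hD, ?_,
    ⟨eqToIso (Groth.L18.ModSysAlgz.completionMod_eq 𝓘 _).symm ≪≫ e⟩⟩
  intro x
  obtain ⟨V, k, hx, ⟨f⟩⟩ := hE x
  exact ⟨V, k, hx, ⟨(Scheme.Modules.restrictFunctor V.ι).mapIso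
    (asIso ((Scheme.Modules.restrictAdjunction U.ι).counit.app E)) ≪≫ f⟩⟩

/-- Restriction from the punctured spectrum to that of a quotient, given the effective Lefschetz property. -/
theorem essSurj_fst_of_leff {A : Type u} [CommRing A] [IsLocalRing A] [IsNoetherianRing A] (J : Ideal A)
    (hL : LefX.LeffCond (FEt.puncturedSpec A : Scheme.{u})
      ((Spec.map (CommRingCat.ofHom (Ideal.Quotient.mk J))).ker.comap (FEt.puncturedSpec A).ι))
    (hext : ∀ V : (FEt.puncturedSpec A : Scheme.{u}).Opens,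
      (((Spec.map (CommRingCat.ofHom (Ideal.Quotient.mk J))).ker.comap (FEt.puncturedSpec A).ι).support :
        Set (FEt.puncturedSpec A : Scheme.{u})) ⊆ (V : Set (FEt.puncturedSpec A : Scheme.{u})) →
      (FEt.restrict V.ι).EssSurj) :
    (FEt.restrict (pullback.fst (FEt.puncturedSpec A).ι (Spec.map (CommRingCat.ofHom (Ideal.Quotient.mk J))))).EssSurj := by
  haveI : IsClosedImmersion (Spec.map (CommRingCat.ofHom (Ideal.Quotient.mk J))) :=
    IsClosedImmersion.spec_of_surjective _ Ideal.Quotient.mk_surjective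
  rw [← Scheme.IdealSheafData.ker_fst_of_isClosedImmersion] at hL hext
  exact essSurj_of_extension _ (exists_extension_of_leff _ hL) hext

end Groth.L13.FEtLeff
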