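import Groth.Agent.L13.FEtLeff.LefSection
import Groth.Agent.L13.FEtLeff.Descend
import Groth.Agent.L19.FPExtend.Main
import Groth.Agent.L19.AmpleAffineLocus
import Groth.Agent.L22.EnrSev.H0
import Groth.Agent.S9489

/-! Lefschetz for finite etale covers along the zero scheme of a section of an ample module. -/

set_option autoImplicit false
set_option linter.style.haveILetI false
set_option backward.isDefEq.respectTransparency false
set_option backward.isDefEq.respectTransparency.types false

universe u

open CategoryTheory CategoryTheory.Limits AlgebraicGeometry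

noncomputable section

namespace Groth.L13.FEtLeff.LefHyper

variable (k : Type u) [Field k] {X : Scheme.{u}} (f : X ⟶ Spec (CommRingCat.of k)) [IsProper f]
  {L : X.Modules} (hL : CohB1.IsAmple L) (s : Coh.structureModule X ⟶ L)

theorem le_depth_of_closed {n : ℕ} {x : X} (hx : IsClosed ({x} : Set X))
    (h : (n : WithBot ℕ∞) < (LocCoh.depth (X.presheaf.stalk x) (X.presheaf.stalk x) : WithBot ℕ∞) +
      topologicalKrullDim ↥(closure ({x} : Set X))) :
    ((n + 1 : ℕ) : ℕ∞) ≤ LocCoh.depth (X.presheaf.stalk x) (X.presheaf.stalk x) := by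
  rw [hx.closure_eq] at h
  have h0 : topologicalKrullDim ↥({x} : Set X) ≤ 0 := by
    haveI : Subsingleton (TopologicalSpace.IrreducibleCloseds ↥({x} : Set X)) := ⟨fun a b => by
      refine TopologicalSpace.IrreducibleCloseds.ext ?_
      rw [Set.eq_univ_of_forall (s := (a : Set ↥({x} : Set X))) (fun z => by
          obtain ⟨w, hw⟩ := a.isIrreducible.1; exact (Subsingleton.elim z w).symm ▸ hw),
        Set.eq_univ_of_forall (s := (b : Set ↥({x} : Set X))) (fun z => by
          obtain ⟨w, hw⟩ := b.isIrreducible.1; exact (Subsingleton.elim z w).symm ▸ hw)]⟩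
    exact Order.krullDim_nonpos_of_subsingleton
  have h1 : (n : WithBot ℕ∞) < (LocCoh.depth (X.presheaf.stalk x) (X.presheaf.stalk x) : WithBot ℕ∞) :=
    lt_of_lt_of_le h ((add_le_add le_rfl h0).trans (by rw [add_zero]))
  have h2 : (n : ℕ∞) < LocCoh.depth (X.presheaf.stalk x) (X.presheaf.stalk x) := by exact_mod_cast h1
  rw [ENat.coe_add, ENat.coe_one]
  exact Order.add_one_le_of_lt h2

include f hL in
theorem isClosed_of_notMem (V : X.Opens) (hV : ((PicF2.zeroScheme L s).support : Set X) ⊆ V) (x : X)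
    (hx : x ∉ V) : IsClosed ({x} : Set X) := by
  letI : X.Over (Spec (CommRingCat.of k)) := ⟨f⟩
  haveI : IsProper (X ↘ Spec (CommRingCat.of k)) := ‹IsProper f›
  refine Groth.L22.EnrSev.isClosed_of_closure_subset_affine k
    (Groth.L19.AmpleAffine.isAffineOpen_genLocus f hL s) fun z hz => ?_
  by_contra hzG
  exact hx ((specializes_iff_mem_closure.2 hz).mem_open V.2
    (hV ((Groth.L22.ZeroScheme.support_zeroScheme hL.1 s).ge hzG)))

include f hL in
/-- The Lefschetz property along the zero scheme of a section of an ample module. -/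
theorem lefCond (hd : ∀ x : X, x ∉ (PicF2.zeroScheme L s).support →
      (1 : WithBot ℕ∞) < (LocCoh.depth (X.presheaf.stalk x) (X.presheaf.stalk x) : WithBot ℕ∞) +
        topologicalKrullDim ↥(closure ({x} : Set X))) :
    Lef.LefCond X (PicF2.zeroScheme L s) := by
  letI : X.Over (Spec (CommRingCat.of k)) := ⟨f⟩
  haveI : IsProper (X ↘ Spec (CommRingCat.of k)) := ‹IsProper f›
  haveI := Groth.L21.RR.isNoetherian_of_proper (X := X) k
  intro U hU D hD
  have hd2 : ∀ x : X, IsClosed ({x} : Set X) → x ∉ (PicF2.zeroScheme L s).support →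
      (2 : ℕ∞) ≤ LocCoh.depth (X.presheaf.stalk x) (X.presheaf.stalk x) := fun x hx hxs =>
    le_depth_of_closed (n := 1) hx (by exact_mod_cast hd x hxs)
  haveI : IsLocallyNoetherian (U : Scheme.{u}) := isLocallyNoetherian_of_isOpenImmersion U.ι
  haveI := Groth.L18.LefExtend.isIso_unitToPush_of_bijective U
    (Groth.L07.RefExtend.supportedOn_structureModule fun x hx =>
      hd2 x (isClosed_of_notMem k f hL s U hU x hx) fun h => hx (hU h))
  have hO : Coh.IsCoh (Coh.structureModule X) := Groth.L16.CohClosedPush.isCoh_structure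
  haveI : Coh.IsQCoh (Coh.structureModule X) := hO.1
  obtain ⟨G, -, e, hG, -⟩ := Groth.L19.FPExtend.exists_fp_extension (Coh.structureModule X) U
    (TopologicalSpace.NoetherianSpace.isCompact (U : Set X)) D
    (Groth.L15.Ref.isFP_of_isCoh (Groth.L16.NegPow.isCoh_of_isFinLocFree hD)) 0
  haveI := Groth.L05.Prufer.isQCoh_of_isFP hG
  have h := Groth.L18.LefExtend.homToFormalBijective_restrict (PicF2.zeroScheme L s) U hU
    (LefSection.homToFormalBijective_of_section k f hL s hd2 (G := G)
      ⟨inferInstance, Groth.L19.LimMod.isFT_of_isFP hG⟩)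
  refine ⟨fun φ ψ hφψ => (cancel_epi e.hom).1 (h.1 _ _ fun n => by simp only [Category.assoc, hφψ n]), fun y hy => ?_⟩
  obtain ⟨φ, hφ⟩ := h.2 (fun n => e.hom ≫ y n) fun n => by simp only [Category.assoc, hy n]
  exact ⟨e.inv ≫ φ, fun n => by rw [Category.assoc, hφ n, e.inv_hom_id_assoc]⟩

include f hL in
theorem fullyFaithful (hd : ∀ x : X, x ∉ (PicF2.zeroScheme L s).support →
      (1 : WithBot ℕ∞) < (LocCoh.depth (X.presheaf.stalk x) (X.presheaf.stalk x) : WithBot ℕ∞) +
        topologicalKrullDim ↥(closure ({x} : Set X)))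
    (V : X.Opens) (hV : ((PicF2.zeroScheme L s).support : Set X) ⊆ V) :
    (FEt.restrict (pullback.snd (PicF2.zeroScheme L s).subschemeι V.ι)).Full ∧
    (FEt.restrict (pullback.snd (PicF2.zeroScheme L s).subschemeι V.ι)).Faithful := by
  letI : X.Over (Spec (CommRingCat.of k)) := ⟨f⟩
  haveI : IsProper (X ↘ Spec (CommRingCat.of k)) := ‹IsProper f›
  haveI := Groth.L21.RR.isNoetherian_of_proper (X := X) k
  haveI : IsLocallyNoetherian (V : Scheme.{u}) := isLocallyNoetherian_of_isOpenImmersion V.ι
  haveI : CompactSpace (V : Scheme.{u}) :=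
    isCompact_iff_compactSpace.1 (TopologicalSpace.NoetherianSpace.isCompact (V : Set X))
  haveI : IsNoetherian (V : Scheme.{u}) := {}
  let I := PicF2.zeroScheme L s
  obtain ⟨h1, h2⟩ := Groth.Agent.S9489.result (V : Scheme.{u}) (I.comap V.ι)
    (Or.inr fun D hD => lefCond k f hL s hd V hV D hD)
  let e : pullback I.subschemeι V.ι ≅ (I.comap V.ι).subscheme :=
    pullbackSymmetry _ _ ≪≫ (I.comapIso V.ι).symm
  have he : e.hom ≫ (I.comap V.ι).subschemeι = pullback.snd I.subschemeι V.ι := by
    simp [e]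
  haveI := Groth.L16.PureQuot.isEquivalence_of_isIso e.hom
  haveI := h1
  haveI := h2
  exact ⟨Functor.Full.of_iso (Groth.L13.FEtLeff.restrictFacIso he).symm,
    Functor.Faithful.of_iso (Groth.L13.FEtLeff.restrictFacIso he).symm⟩

end Groth.L13.FEtLeff.LefHyper
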