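import Groth.Agent.L13.FEtLeff.CI
import Groth.Agent.L06.FEtLef.Full

/-! The equivalence of covers from the effective Lefschetz condition and purity. -/

set_option autoImplicit false
set_option linter.style.haveILetI false
set_option backward.isDefEq.respectTransparency.types false
set_option backward.isDefEq.respectTransparency false

universe u

open CategoryTheory CategoryTheory.Limits AlgebraicGeometry TopologicalSpace
open Groth.L16.PureQuot (isEquivalence_of_isIso)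

noncomputable section

namespace Groth.L13.FEtLeff

theorem exists_comap_iso {X : Scheme.{u}} (𝓘 : X.IdealSheafData) (U : X.Opens)
    (hU : (𝓘.support : Set X) ⊆ (U : Set X)) :
    ∃ σ : 𝓘.subscheme ≅ (𝓘.comap U.ι).subscheme, σ.hom ≫ (𝓘.comap U.ι).subschemeι ≫ U.ι = 𝓘.subschemeι := by
  obtain ⟨k, hk⟩ := exists_lvlZero 𝓘
  obtain ⟨k', hk'⟩ := exists_lvlZero (𝓘.comap U.ι)
  obtain ⟨τ, hτ⟩ := Groth.L18.LefExtend.exists_thickeningIso 𝓘 U hU 0
  refine ⟨k.symm ≪≫ τ.symm ≪≫ k', ?_⟩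
  simp only [Iso.trans_hom, Iso.symm_hom, Category.assoc]
  rw [Iso.inv_comp_eq, hk, Iso.inv_comp_eq, ← Category.assoc, hk']
  exact hτ.symm

theorem full_faithful_restrict_of_lefCond {X : Scheme.{u}} (𝓘 : X.IdealSheafData) (h : Lef.LefCond X 𝓘) :
    (FEt.restrict 𝓘.subschemeι).Full ∧ (FEt.restrict 𝓘.subschemeι).Faithful := by
  have hT : (𝓘.support : Set X) ⊆ ((⊤ : X.Opens) : Set X) := fun _ _ => trivial
  obtain ⟨σ, hσ⟩ := exists_comap_iso 𝓘 ⊤ hT
  obtain ⟨h1, h2⟩ := Groth.L06.FEtLef.full_faithful_restrict (𝓘.comap (⊤ : X.Opens).ι) (h ⊤ hT)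
  haveI := h1
  haveI := h2
  haveI : IsIso (⊤ : X.Opens).ι := X.topIso.isIso_hom
  haveI := isEquivalence_of_isIso σ.hom
  haveI := isEquivalence_of_isIso (⊤ : X.Opens).ι
  let φ : FEt.restrict 𝓘.subschemeι ≅ (FEt.restrict (⊤ : X.Opens).ι ⋙
      FEt.restrict (𝓘.comap (⊤ : X.Opens).ι).subschemeι) ⋙ FEt.restrict σ.hom :=
    restrictFacIso hσ ≪≫ Functor.isoWhiskerRight (restrictFacIso rfl) _
  exact ⟨Functor.Full.of_iso φ.symm, Functor.Faithful.of_iso φ.symm⟩

theorem isEquivalence_restrict_of_leff {X : Scheme.{u}} [IsLocallyNoetherian X] (𝓘 : X.IdealSheafData)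
    (h : LefX.LeffCond X 𝓘)
    (hpur : ∀ U : X.Opens, (𝓘.support : Set X) ⊆ (U : Set X) → ∀ x : X, x ∉ U →
      (2 : ℕ∞) ≤ LocCoh.depth (X.presheaf.stalk x) (X.presheaf.stalk x) ∧ FEt.PurityHolds (X.presheaf.stalk x)) :
    (FEt.restrict 𝓘.subschemeι).IsEquivalence := by
  obtain ⟨h1, h2⟩ := full_faithful_restrict_of_lefCond 𝓘 h.1
  haveI := h1
  haveI := h2
  haveI : (FEt.restrict 𝓘.subschemeι).EssSurj := ⟨fun R => by
    obtain ⟨V, W, hV, hi⟩ := exists_extension_of_leff 𝓘 h R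
    have hr : Set.range 𝓘.subschemeι ⊆ Set.range V.ι := by
      rw [Scheme.Opens.range_ι, Scheme.IdealSheafData.range_subschemeι]
      exact hV
    let i := IsOpenImmersion.lift V.ι 𝓘.subschemeι hr
    obtain ⟨a⟩ := hi i (IsOpenImmersion.lift_fac _ _ _)
    haveI := essSurj_restrict_of_depth_purity V (fun x hx => (hpur V hV x hx).1) fun x hx => (hpur V hV x hx).2
    obtain ⟨T, ⟨b⟩⟩ := Functor.EssSurj.mem_essImage (F := FEt.restrict V.ι) W
    exact ⟨T, ⟨(restrictFacIso (IsOpenImmersion.lift_fac V.ι 𝓘.subschemeι hr)).app T ≪≫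
      (FEt.restrict i).mapIso b ≪≫ a⟩⟩⟩
  exact { }

theorem two_le_depth_of_regular {A : Type u} [CommRing A] [IsRegularLocalRing A]
    (h : (2 : WithBot ℕ∞) ≤ ringKrullDim A) : (2 : ℕ∞) ≤ LocCoh.depth A A :=
  Groth.L18.LocPic.le_depth_of_le_dim (R := A) [] (by simp) (RingTheory.Sequence.IsWeaklyRegular.nil A A)
    (RingHom.id A) Function.surjective_id (by rw [Ideal.ofList_nil]; exact (RingHom.injective_iff_ker_eq_bot _).1 fun _ _ h => h)
    (k := 2) h

end Groth.L13.FEtLeff
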