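import Groth.Agent.L13.FEtLeff.Pres
import Groth.Agent.L04.FinLocFreeHom
import Groth.Agent.L18.RelSpecAlg
import Groth.Agent.L16.QCohSections

/-!
# The algebra structure on a module with a formal identification with functions on covers
-/

set_option autoImplicit false
set_option linter.style.haveILetI false
set_option linter.unusedSectionVars false
set_option backward.isDefEq.respectTransparency false
set_option backward.isDefEq.respectTransparency.types false

universe u

open CategoryTheory CategoryTheory.Limits AlgebraicGeometry TopologicalSpace Opposite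
open Groth.L18.Frame (rs ro rs_rs ro_ro rs_smul rs_self ro_self)
open Groth.L19.ProjBdl (app_rs)

noncomputable section

namespace Groth.L13.FEtLeff

variable {U : Scheme.{u}} {𝓙 : U.IdealSheafData} {C : Cover 𝓙} {E : U.Modules}

namespace Pres

variable (P : Pres C E) (hE : FlatMod.IsFinLocFree E) (hD : HomBij 𝓙)

/-- The formal multiplication. -/
theorem exists_mulY (n : ℕ) : ∃ y : CohB1.tensorMod E E ⟶ C.Bmod n,
    ∀ (W : U.Opens) (a b : Γ(E, W)), y.app W (tp E E W a b) = P.vS n W a * P.vS n W b := by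
  refine exists_hom_bil (P := C.Bmod n) (β := fun W a b => P.vS n W a * P.vS n W b)
    ⟨fun W a a' b => ?_, fun W a b b' => ?_, fun W r a b => ?_, fun W r a b => ?_, fun W V h a b => ?_⟩
  · show P.vS n W (a + a') * P.vS n W b = _
    rw [vS_add, add_mul]
  · show P.vS n W a * P.vS n W (b + b') = _
    rw [vS_add, mul_add]
  · show P.vS n W (r • a) * P.vS n W b = _
    rw [vS_smul, mul_assoc]
    rfl
  · show P.vS n W a * P.vS n W (r • b) = _
    rw [vS_smul, mul_left_comm]
    rfl
  · show P.vS n V (rs E h a) * P.vS n V (rs E h b) = rf _ _ (_ * _)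
    rw [vS_rs, vS_rs, ← map_mul]
    rfl

include hE hD in
theorem exists_mul : ∃ m : CohB1.tensorMod E E ⟶ E, ∀ n (W : U.Opens) (a b : Γ(E, W)),
    P.vS n W (m.app W (tp E E W a b)) = P.vS n W a * P.vS n W b := by
  choose y hy using fun n => P.exists_mulY n
  obtain ⟨m, hm⟩ := P.exists_lift hE hD (Groth.L29.DC.isFinLocFree_tensor hE hE) y fun n => bil_ext fun W a b => by
    refine (congrArg (C.tB n W) (hy (n + 1) W a b)).trans ?_
    rw [map_mul, vS_t, vS_t]
    exact (hy n W a b).symm
  exact ⟨m, fun n W a b => (congr($(congrArg (fun k => Scheme.Modules.Hom.app k W) (hm n)) _)).trans (hy n W a b)⟩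

/-- The multiplication. -/
def mulS (W : U.Opens) (a b : Γ(E, W)) : Γ(E, W) := (P.exists_mul hE hD).choose.app W (tp E E W a b)

theorem isBil_mulS : IsBil (P.mulS hE hD) := isBil_of_hom _

theorem vS_mulS (n : ℕ) (W : U.Opens) (a b : Γ(E, W)) :
    P.vS n W (P.mulS hE hD W a b) = P.vS n W a * P.vS n W b := (P.exists_mul hE hD).choose_spec n W a b

include hE hD in
theorem exists_one : ∃ φ : Coh.structureModule U ⟶ E, ∀ n, φ ≫ P.v n = ClSub.unitToPush (C.r n) :=
  P.exists_lift hE hD isFinLocFree_O (fun n => ClSub.unitToPush (C.r n)) fun n =>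
    Groth.L12.FinCov.hom_ext fun W a => C.tB_qB n W a

/-- The unit. -/
def oneS (W : U.Opens) : Γ(E, W) :=
  (P.exists_one hE hD).choose.app W (show Γ(Coh.structureModule U, W) from (1 : Γ(U, W)))

theorem vS_oneS (n : ℕ) (W : U.Opens) : P.vS n W (P.oneS hE hD W) = 1 :=
  (congr($(congrArg (fun k => Scheme.Modules.Hom.app k W) ((P.exists_one hE hD).choose_spec n)) _)).trans
    (map_one (C.qB n W))

theorem rs_oneS {W W' : U.Opens} (h : W' ≤ W) : rs E h (P.oneS hE hD W) = P.oneS hE hD W' := by
  rw [oneS, ← app_rs]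
  exact congrArg _ (map_one (U.presheaf.map (homOfLE h).op).hom)

include hE hD in
/-- Bilinear maps into `E` agreeing formally agree. -/
theorem bil_eq {M N : U.Modules} (hT : FlatMod.IsFinLocFree (CohB1.tensorMod M N))
    {φ ψ : ∀ W : U.Opens, Γ(M, W) → Γ(N, W) → Γ(E, W)} (hφ : IsBil φ) (hψ : IsBil ψ)
    (h : ∀ n W a b, P.vS n W (φ W a b) = P.vS n W (ψ W a b)) (W : U.Opens) (a : Γ(M, W)) (b : Γ(N, W)) :
    φ W a b = ψ W a b := by
  obtain ⟨f, hf⟩ := exists_hom_bil hφ
  obtain ⟨g, hg⟩ := exists_hom_bil hψ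
  have hfg : f = g := P.hom_ext_formal hE hD hT fun n => bil_ext fun W a b => by
    show P.vS n W (f.app W _) = P.vS n W (g.app W _)
    rw [hf, hg]
    exact h n W a b
  exact (hf W a b).symm.trans (hfg ▸ hg W a b)

theorem mulS_comm (W : U.Opens) (a b : Γ(E, W)) : P.mulS hE hD W a b = P.mulS hE hD W b a :=
  P.bil_eq hE hD (Groth.L29.DC.isFinLocFree_tensor hE hE) (P.isBil_mulS hE hD) (P.isBil_mulS hE hD).swap
    (fun n W a b => by rw [vS_mulS, vS_mulS, mul_comm]) W a b

theorem mulS_assoc (W : U.Opens) (a b c : Γ(E, W)) :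
    P.mulS hE hD W (P.mulS hE hD W a b) c = P.mulS hE hD W a (P.mulS hE hD W b c) := by
  have hm := P.isBil_mulS hE hD
  have h1 : IsTri (M := E) (N := E) (L := E) (P := E)
      fun W a b c => P.mulS hE hD W (P.mulS hE hD W a b) c := by
    refine ⟨fun W a a' b b' c r => ⟨?_, ?_, ?_, ?_⟩, fun W a b c c' r => ⟨?_, ?_⟩, fun W V h a b c => ?_⟩
    · simp only [hm.add_left]
    · simp only [hm.add_right, hm.add_left]
    · simp only [hm.smul_left]
    · simp only [hm.smul_right, hm.smul_left]
    · simp only [hm.add_right]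
    · simp only [hm.smul_right]
    · simp only [hm.res]
  have h2 : IsTri (M := E) (N := E) (L := E) (P := E)
      fun W a b c => P.mulS hE hD W a (P.mulS hE hD W b c) := by
    refine ⟨fun W a a' b b' c r => ⟨?_, ?_, ?_, ?_⟩, fun W a b c c' r => ⟨?_, ?_⟩, fun W V h a b c => ?_⟩
    · simp only [hm.add_left]
    · simp only [hm.add_left, hm.add_right]
    · simp only [hm.smul_left]
    · simp only [hm.smul_left, hm.smul_right]
    · simp only [hm.add_right]
    · simp only [hm.smul_right]
    · simp only [hm.res]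
  obtain ⟨f, hf⟩ := exists_hom_tri h1
  obtain ⟨g, hg⟩ := exists_hom_tri h2
  have hfg : f = g := P.hom_ext_formal hE hD
    (Groth.L29.DC.isFinLocFree_tensor (Groth.L29.DC.isFinLocFree_tensor hE hE) hE) fun n => tri_ext fun W a b c => by
      show P.vS n W (f.app W _) = P.vS n W (g.app W _)
      rw [hf, hg, vS_mulS, vS_mulS, vS_mulS, vS_mulS, mul_assoc]
  exact (hf W a b c).symm.trans (hfg ▸ hg W a b c)

theorem oneS_mulS (W : U.Opens) (a : Γ(E, W)) : P.mulS hE hD W (P.oneS hE hD W) a = a := by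
  have hm := P.isBil_mulS hE hD
  let f : E ⟶ E := Groth.L12.FinCov.mkHom (M := E) (N := E) (fun W a => P.mulS hE hD W (P.oneS hE hD W) a)
    (fun W a b => hm.add_right W _ a b) (fun W r a => hm.smul_right W r _ a)
    (fun W V h a => by
      show P.mulS hE hD V (P.oneS hE hD V) (rs E h a) = rs E h (P.mulS hE hD W (P.oneS hE hD W) a)
      rw [← P.rs_oneS hE hD h]
      exact hm.res W V h _ a)
  have hf : f = 𝟙 E := P.hom_ext_formal hE hD hE fun n => Groth.L12.FinCov.hom_ext fun W a => by
    show P.vS n W (P.mulS hE hD W (P.oneS hE hD W) a) = P.vS n W a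
    rw [vS_mulS, vS_oneS, one_mul]
  exact congr($(congrArg (fun k => Scheme.Modules.Hom.app k W) hf) a)

/-- Sections of the algebra. -/
def ASec (_P : Pres C E) (_hE : FlatMod.IsFinLocFree E) (_hD : HomBij 𝓙) (W : U.Opens) : Type u := Γ(E, W)

/-- A section of `E` as a section of the algebra. -/
abbrev toA (W : U.Opens) (a : Γ(E, W)) : P.ASec hE hD W := a

instance instAddCommGroupASec (W : U.Opens) : AddCommGroup (P.ASec hE hD W) :=
  inferInstanceAs (AddCommGroup Γ(E, W))

instance instCommRingASec (W : U.Opens) : CommRing (P.ASec hE hD W) :=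
  { instAddCommGroupASec P hE hD W with
    mul := fun a b => P.mulS hE hD W a b
    one := P.oneS hE hD W
    mul_assoc := fun a b c => P.mulS_assoc hE hD W a b c
    mul_comm := fun a b => P.mulS_comm hE hD W a b
    one_mul := fun a => P.oneS_mulS hE hD W a
    mul_one := fun a => (P.mulS_comm hE hD W a _).trans (P.oneS_mulS hE hD W a)
    left_distrib := fun a b c => (P.isBil_mulS hE hD).add_right W a b c
    right_distrib := fun a b c => (P.isBil_mulS hE hD).add_left W a b c
    zero_mul := fun a => map_zero (AddMonoidHom.mk' (fun x : Γ(E, W) => P.mulS hE hD W x a)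
      fun x y => (P.isBil_mulS hE hD).add_left W x y a)
    mul_zero := fun a => map_zero (AddMonoidHom.mk' (fun x : Γ(E, W) => P.mulS hE hD W a x)
      fun x y => (P.isBil_mulS hE hD).add_right W a x y) }

/-- Restriction in the algebra. -/
def aRes {W W' : U.Opens} (h : W' ≤ W) : P.ASec hE hD W →+* P.ASec hE hD W' where
  toFun a := rs E h a
  map_one' := P.rs_oneS hE hD h
  map_mul' a b := ((P.isBil_mulS hE hD).res W W' h a b).symm
  map_zero' := map_zero (E.presheaf.map (homOfLE h).op).hom
  map_add' a b := map_add (E.presheaf.map (homOfLE h).op).hom a b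

theorem smul_one_mul (W : U.Opens) (r : Γ(U, W)) (a : Γ(E, W)) :
    P.mulS hE hD W (r • P.oneS hE hD W) a = r • a := by
  rw [(P.isBil_mulS hE hD).smul_left, oneS_mulS]

/-- The structure map. -/
def aStr (W : U.Opens) : Γ(U, W) →+* P.ASec hE hD W where
  toFun r := r • P.oneS hE hD W
  map_one' := one_smul Γ(U, W) (P.oneS hE hD W)
  map_mul' r r' := ((P.smul_one_mul hE hD W r (r' • P.oneS hE hD W)).trans (mul_smul r r' _).symm).symm
  map_zero' := zero_smul Γ(U, W) (P.oneS hE hD W)
  map_add' r r' := add_smul r r' (P.oneS hE hD W)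

theorem aStr_mul (W : U.Opens) (r : Γ(U, W)) (a : Γ(E, W)) :
    P.aStr hE hD W r * P.toA hE hD W a = P.toA hE hD W (r • a) :=
  P.smul_one_mul hE hD W r a

/-- The presheaf of rings. -/
def aPre : TopCat.Presheaf CommRingCat.{u} U.carrier where
  obj W := CommRingCat.of (P.ASec hE hD W.unop)
  map {W W'} i := CommRingCat.ofHom (P.aRes hE hD i.unop.le)
  map_id W := by
    refine CommRingCat.hom_ext (RingHom.ext fun a => ?_)
    exact rs_self E _ a
  map_comp {W W' W''} i j := by
    refine CommRingCat.hom_ext (RingHom.ext fun a => ?_)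
    exact (rs_rs E i.unop.le j.unop.le a).symm

theorem isSheaf_aPre : (P.aPre hE hD).IsSheaf := by
  rw [TopCat.Presheaf.isSheaf_iff_isSheaf_comp' (forget CommRingCat.{u}) (P.aPre hE hD),
    TopCat.Presheaf.isSheaf_iff_isSheafUniqueGluing]
  intro ι V sf hsf
  exact TopCat.Sheaf.existsUnique_gluing (⟨E.presheaf, E.isSheaf⟩ : TopCat.Sheaf Ab U.toTopCat) V
    (fun i => (show Γ(E, V i) from sf i)) hsf

/-- The structure morphism. -/
def aStrHom : U.presheaf ⟶ P.aPre hE hD where
  app W := CommRingCat.ofHom (P.aStr hE hD W.unop)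
  naturality W W' i := by
    refine CommRingCat.hom_ext (RingHom.ext fun r => ?_)
    show ro i.unop.le (show Γ(U, W.unop) from r) • P.oneS hE hD W'.unop =
      rs E i.unop.le ((show Γ(U, W.unop) from r) • P.oneS hE hD W.unop)
    rw [rs_smul, P.rs_oneS hE hD]

theorem isQC_aPre : RelSpec.IsQC (P.aPre hE hD) (P.aStrHom hE hD) := by
  intro W hW r
  haveI : Coh.IsQCoh E := Groth.L04.FinLocFreeHom.isQCoh_of_finLocFree hE
  let res : P.ASec hE hD W →+* P.ASec hE hD (U.basicOpen r) := P.aRes hE hD (U.basicOpen_le r)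
  let str := P.aStr hE hD W
  have hnat : ∀ a, res (str a) = P.aStr hE hD (U.basicOpen r) (ro (U.basicOpen_le r) a) := fun a => by
    show rs E _ (a • P.oneS hE hD W) = _
    rw [rs_smul, P.rs_oneS hE hD]
    rfl
  letI : Algebra ((P.aPre hE hD).obj (op W)) ((P.aPre hE hD).obj (op (U.basicOpen r))) := res.toAlgebra
  haveI := hW.isLocalization_basicOpen r
  have hu : IsUnit (res (str r)) := by
    rw [hnat]
    exact (IsLocalization.Away.algebraMap_isUnit (S := Γ(U, U.basicOpen r)) r).map _
  refine IsLocalization.Away.mk _ hu (fun z => ?_) (fun a b hab => ?_)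
  · revert z
    intro (z : P.ASec hE hD (U.basicOpen r))
    obtain ⟨n, t, ht⟩ := Groth.L16.QCohSect.exists_pow_smul_eq_res (M := E) hW r z
    refine ⟨n, t, ?_⟩
    show z * res (str r) ^ n = rs E _ t
    rw [ht, ← map_pow, ← map_pow, hnat, mul_comm]
    exact P.aStr_mul hE hD _ _ z
  · revert a b
    intro (a : P.ASec hE hD W) (b : P.ASec hE hD W) hab
    obtain ⟨n, hn⟩ := Groth.L16.QCohSect.exists_pow_smul_eq_zero (M := E) hW r
      (show Γ(E, W) from (a - b : P.ASec hE hD W)) (by
        show res (a - b) = 0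
        rw [map_sub, sub_eq_zero]
        exact hab)
    refine ⟨n, ?_⟩
    have hn' : str (r ^ n) * (a - b) = 0 := (P.aStr_mul hE hD W _ _).trans hn
    rw [mul_sub, sub_eq_zero, map_pow] at hn'
    exact hn'

/-- The quasi-coherent algebra on `E`. -/
def alg : RelSpec.QCAlg U where
  presheaf := P.aPre hE hD
  isSheaf := P.isSheaf_aPre hE hD
  str := P.aStrHom hE hD
  isQC := P.isQC_aPre hE hD

theorem smul_alg (W : U.Opens) (r : Γ(U, W)) (a : Γ(E, W)) :
    (r • (show Γ((P.alg hE hD).toModule, W) from a) : Γ((P.alg hE hD).toModule, W)) =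
      (show Γ((P.alg hE hD).toModule, W) from r • a) := P.aStr_mul hE hD W r a

/-- The module of the algebra is `E`. -/
def algIso : (P.alg hE hD).toModule ≅ E where
  hom := Groth.L12.FinCov.mkHom (M := (P.alg hE hD).toModule) (N := E) (fun _ a => a) (fun _ _ _ => rfl)
    (fun W r a => P.smul_alg hE hD W r a) (fun _ _ _ _ => rfl)
  inv := Groth.L12.FinCov.mkHom (M := E) (N := (P.alg hE hD).toModule) (fun _ a => a) (fun _ _ _ => rfl)
    (fun W r a => (P.smul_alg hE hD W r a).symm) (fun _ _ _ _ => rfl)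
  hom_inv_id := Groth.L12.FinCov.hom_ext fun _ _ => rfl
  inv_hom_id := Groth.L12.FinCov.hom_ext fun _ _ => rfl

include hE in
theorem isFinLocFree_alg : FlatMod.IsFinLocFree (P.alg hE hD).toModule := fun x => by
  obtain ⟨V, k, hx, ⟨e⟩⟩ := hE x
  exact ⟨V, k, hx, ⟨(Scheme.Modules.restrictFunctor V.ι).mapIso (P.algIso hE hD) ≪≫ e⟩⟩

end Pres

end Groth.L13.FEtLeff
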