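import Groth.Agent.L13.FEtLeff.Descend
import Groth.Agent.L18.GrFreePic
import Groth.Agent.L27.HenselPair
import Groth.Agent.S3378

/-! Purity from a quotient with free graded pieces. -/

set_option autoImplicit false
set_option linter.style.haveILetI false
set_option backward.isDefEq.respectTransparency.types false
set_option backward.isDefEq.respectTransparency false

universe u

open CategoryTheory CategoryTheory.Limits AlgebraicGeometry TopologicalSpace
open Groth.L16.PureQuot (isEquivalence_of_isIso)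

noncomputable section

namespace Groth.L13.FEtLeff

variable {A : Type u} [CommRing A] [IsLocalRing A] [IsNoetherianRing A]

/-- A cover of the punctured spectrum whose restriction to the reduction extends, in the complete case. -/
theorem exists_extension_of_grFree_complete (J : Ideal A) (hJ : J ≠ ⊤) [IsLocalRing (A ⧸ J)] [IsAdicComplete J A]
    (hd : (3 : ℕ∞) ≤ LocCoh.depth (A ⧸ J) (A ⧸ J))
    (hgr : ∀ n : ℕ, Module.Free (A ⧸ J) (↥(J ^ n) ⧸ (J • (⊤ : Submodule A ↥(J ^ n)))))
    (V : FEt.Cat (FEt.puncturedSpec A : Scheme.{u})) (T : FEt.Cat (Spec (CommRingCat.of (A ⧸ J))))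
    (h : Nonempty ((FEt.restrict (pullback.snd (FEt.puncturedSpec A).ι (Spec.map (CommRingCat.ofHom (Ideal.Quotient.mk J))))).obj T ≅
      (FEt.restrict (pullback.fst (FEt.puncturedSpec A).ι (Spec.map (CommRingCat.ofHom (Ideal.Quotient.mk J))))).obj V)) :
    ∃ Y : FEt.Cat (Spec (CommRingCat.of A)), Nonempty ((FEt.restrict (FEt.puncturedSpec A).ι).obj Y ≅ V) := by
  obtain ⟨a⟩ := h
  let q := Spec.map (CommRingCat.ofHom (Ideal.Quotient.mk J))
  let U := FEt.puncturedSpec A
  let p := pullback.fst U.ι q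
  haveI : IsClosedImmersion q := IsClosedImmersion.spec_of_surjective _ Ideal.Quotient.mk_surjective
  obtain ⟨⟨-, -, h1, h2⟩, -⟩ := Groth.Agent.S3378.result A J hJ hd hgr
  have hk : p.ker = q.ker.comap U.ι := Scheme.IdealSheafData.ker_fst_of_isClosedImmersion _ _
  have h12 : (FEt.restrict p).Full ∧ (FEt.restrict p).Faithful := by
    have h12' : (FEt.restrict p.ker.subschemeι).Full ∧ (FEt.restrict p.ker.subschemeι).Faithful := by
      rw [hk]; exact ⟨h1, h2⟩
    haveI := h12'.1
    haveI := h12'.2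
    haveI := isEquivalence_of_isIso p.toImage
    let φ : FEt.restrict p ≅ FEt.restrict p.imageι ⋙ FEt.restrict p.toImage := restrictFacIso p.toImage_imageι
    haveI : (FEt.restrict p.imageι).Full := h12'.1
    haveI : (FEt.restrict p.imageι).Faithful := h12'.2
    exact ⟨Functor.Full.of_iso φ.symm, Functor.Faithful.of_iso φ.symm⟩
  haveI := h12.1
  haveI := h12.2
  haveI : (FEt.restrict q).IsEquivalence := Groth.L27.HenselPair.isEquivalence_restrict J
  obtain ⟨Y, ⟨b⟩⟩ := Functor.EssSurj.mem_essImage (F := FEt.restrict q) T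
  exact ⟨Y, ⟨(FEt.restrict p).preimageIso (((restrictFacIso (rfl : p ≫ U.ι = _)).app Y).symm ≪≫
    (restrictFacIso (pullback.condition (f := U.ι) (g := q)).symm).app Y ≪≫
    (FEt.restrict (pullback.snd U.ι q)).mapIso b ≪≫ a)⟩⟩

theorem preimage_puncturedSpec_completion (A : Type u) [CommRing A] [IsLocalRing A] [IsNoetherianRing A] :
    Spec.map (CommRingCat.ofHom (algebraMap A (AdicCompletion (IsLocalRing.maximalIdeal A) A))) ⁻¹ᵁ FEt.puncturedSpec A =
      FEt.puncturedSpec (AdicCompletion (IsLocalRing.maximalIdeal A) A) := by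
  have hmap : (IsLocalRing.maximalIdeal A).map (algebraMap A (AdicCompletion (IsLocalRing.maximalIdeal A) A)) =
      IsLocalRing.maximalIdeal (AdicCompletion (IsLocalRing.maximalIdeal A) A) :=
    Groth.L01.AnalUnram.completion_map_maximalIdeal A
  refine Groth.L18.LocPic.preimage_punctured _ (fun P hP => ?_) ?_
  · refine ((IsLocalRing.maximalIdeal.isMaximal _).eq_of_le P.2.ne_top ?_).symm
    exact hmap.symm.le.trans (Ideal.map_le_iff_le_comap.2 hP.ge)
  · refine ((IsLocalRing.maximalIdeal.isMaximal A).eq_of_le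
      (Ideal.comap_ne_top _ (IsLocalRing.maximalIdeal.isMaximal _).ne_top) ?_).symm
    rw [← hmap]
    exact Ideal.le_comap_map

/-- Purity passes from the reduction to the ring when the graded pieces are free. -/
theorem purityHolds_of_grFree (J : Ideal A) (hJ : J ≠ ⊤) [IsLocalRing (A ⧸ J)]
    (hd : (3 : ℕ∞) ≤ LocCoh.depth (A ⧸ J) (A ⧸ J))
    (hgr : ∀ n : ℕ, Module.Free (A ⧸ J) (↥(J ^ n) ⧸ (J • (⊤ : Submodule A ↥(J ^ n)))))
    (h0 : FEt.PurityHolds (A ⧸ J)) : FEt.PurityHolds A := by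
  refine ⟨fun V => ?_⟩
  haveI := Groth.L01.AnalUnram.isNoetherianRing_completion A
  haveI := Groth.L01.CompletionExt.faithfullyFlat A
  let Ah := AdicCompletion (IsLocalRing.maximalIdeal A) A
  have hmap : (IsLocalRing.maximalIdeal A).map (algebraMap A Ah) = IsLocalRing.maximalIdeal Ah :=
    Groth.L01.AnalUnram.completion_map_maximalIdeal A
  haveI : IsLocalHom (algebraMap A Ah) :=
    ((IsLocalRing.local_hom_TFAE (algebraMap A Ah)).out 2 0).1 hmap.le
  haveI : IsAdicComplete (IsLocalRing.maximalIdeal Ah) Ah := by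
    rw [← hmap]
    exact AdicCompletion.isAdicComplete_self _ (IsNoetherian.noetherian _)
  let Jh := J.map (algebraMap A Ah)
  have hJh : Jh ≤ IsLocalRing.maximalIdeal Ah := (Ideal.map_mono (IsLocalRing.le_maximalIdeal hJ)).trans hmap.le
  haveI := Groth.L18.GrFreePic.isAdicComplete_of_le (IsLocalRing.maximalIdeal Ah) Jh hJh
  have hJh' : Jh ≠ ⊤ := ne_top_of_le_ne_top (IsLocalRing.maximalIdeal.isMaximal Ah).ne_top hJh
  haveI : IsLocalRing (Ah ⧸ Jh) := Groth.L01.isLocalRing_quotient hJh'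
  let U := FEt.puncturedSpec A
  let U' := FEt.puncturedSpec Ah
  let c : Spec (CommRingCat.of Ah) ⟶ Spec (CommRingCat.of A) := Spec.map (CommRingCat.ofHom (algebraMap A Ah))
  let q := Spec.map (CommRingCat.ofHom (Ideal.Quotient.mk J))
  let qh := Spec.map (CommRingCat.ofHom (Ideal.Quotient.mk Jh))
  let σ := Spec.map (CommRingCat.ofHom (Ideal.quotientMap Jh (algebraMap A Ah) Ideal.le_comap_map))
  have hσ : σ ≫ q = qh ≫ c := by
    show Spec.map _ ≫ Spec.map _ = Spec.map _ ≫ Spec.map _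
    rw [← Spec.map_comp, ← Spec.map_comp]
    congr 1
  obtain ⟨θ, hθi, hθ⟩ := exists_theta c (preimage_puncturedSpec_completion A)
  haveI := hθi
  obtain ⟨a, ha, hθa⟩ : ∃ a : (U' : Scheme.{u}) ⟶ (U : Scheme.{u}),
      a ≫ U.ι = U'.ι ≫ c ∧ θ ≫ a = pullback.fst U.ι c := by
    refine ⟨inv θ ≫ pullback.fst U.ι c, ?_, IsIso.hom_inv_id_assoc θ _⟩
    rw [Category.assoc, pullback.condition, ← hθ, Category.assoc, IsIso.inv_hom_id_assoc]
  let w : pullback U'.ι qh ⟶ pullback U.ι q := pullback.lift (pullback.fst U'.ι qh ≫ a) (pullback.snd U'.ι qh ≫ σ)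
    (by rw [Category.assoc, Category.assoc, ha, hσ, pullback.condition_assoc])
  -- the reduction extends
  haveI : IsLocalHom (Ideal.Quotient.mk J) := IsLocalHom.of_surjective _ Ideal.Quotient.mk_surjective
  obtain ⟨θ₀, hθ₀i, hθ₀⟩ := exists_theta q (Groth.L18.GrFreeFEt.preimage_quot J)
  haveI := hθ₀i
  obtain ⟨T, ⟨e₀⟩⟩ := Functor.EssSurj.mem_essImage (F := FEt.restrict (pullback.snd U.ι q))
    (self := essSurj_comp hθ₀ (haveI := isEquivalence_of_isIso θ₀; inferInstance) h0)
    ((FEt.restrict (pullback.fst U.ι q)).obj V)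
  obtain ⟨Yh, ⟨eh⟩⟩ := exists_extension_of_grFree_complete Jh hJh' (Groth.L18.GrFreePic.le_depth_quot_map (B := Ah) J hd)
    (fun n => Groth.L18.GrFreePic.free_gr_map (B := Ah) J n (hgr n)) ((FEt.restrict a).obj V) ((FEt.restrict σ).obj T)
    ⟨((restrictFacIso (rfl : pullback.snd U'.ι qh ≫ σ = _)).app T).symm ≪≫
      (restrictFacIso (pullback.lift_snd _ _ _ : w ≫ pullback.snd U.ι q = pullback.snd U'.ι qh ≫ σ)).app T ≪≫
      (FEt.restrict w).mapIso e₀ ≪≫
      ((restrictFacIso (pullback.lift_fst _ _ _ : w ≫ pullback.fst U.ι q = pullback.fst U'.ι qh ≫ a)).app V).symm ≪≫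
      (restrictFacIso (rfl : pullback.fst U'.ι qh ≫ a = _)).app V⟩
  refine Groth.L13.Purity.Compl.exists_extension A V Yh ?_
  exact (restrictFacIso hθ).app Yh ≪≫ (FEt.restrict θ).mapIso eh ≪≫
    ((restrictFacIso hθa).app V).symm

end Groth.L13.FEtLeff
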