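import Groth.Agent.L13.FEtLeff.Leff
import Groth.Agent.L13.FEtLeff.GrFree
import Groth.Agent.L18.PicLefFibre
import Groth.Agent.L19.DivisorDifference
import Groth.Agent.L22.ZeroScheme
import Groth.Agent.L07.PrimaryDecomp
import Groth.Agent.S3361

/-! Covers along an ample divisor. -/

set_option autoImplicit false
set_option linter.style.haveILetI false
set_option maxSynthPendingDepth 3
set_option backward.isDefEq.respectTransparency.types false
set_option backward.isDefEq.respectTransparency false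

universe u

open CategoryTheory CategoryTheory.Limits AlgebraicGeometry TopologicalSpace

noncomputable section

namespace Groth.L13.FEtLeff

open Groth.L19.DivisorDifference (IsReg)

theorem isReg_of_mono {X : Scheme.{u}} {L : X.Modules} (s : Coh.structureModule X ⟶ L) [Mono s] : IsReg s := by
  intro W hW e c he hc
  rw [mem_nonZeroDivisors_iff_right]
  intro a ha
  refine Groth.L07.PrimaryDecomp.app_injective s W (?_ : s.app W a = s.app W (0 : Γ(X, W)))
  rw [Groth.L18.GenLoc.app_eq, Groth.L18.GenLoc.app_eq, ← hc, smul_smul, smul_smul, ha, zero_mul]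

variable {A : Type u} [CommRing A] [IsNoetherianRing A] {X : Scheme.{u}}

/-- The closed fibre ring of a point. -/
theorem exists_fibre_equiv (f : X ⟶ Spec (CommRingCat.of A)) (x : X) :
    letI := (f.stalkMap x).hom.toAlgebra
    Nonempty ((X.presheaf.stalk x ⧸ (IsLocalRing.maximalIdeal ((Spec (CommRingCat.of A)).presheaf.stalk (f x))).map
      (algebraMap _ (X.presheaf.stalk x))) ≃+* ↑(CInt.fiberStalk f x)) :=
  Groth.L07.CIScheme.exists_fiberStalkEquiv f (f x) (f.asFiber x) x (f.fiberι_asFiber x)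

theorem purityHolds_stalk (f : X ⟶ Spec (CommRingCat.of A)) [LocallyOfFiniteType f] [Flat f] (x : X)
    (hd : (3 : ℕ∞) ≤ LocCoh.depth ↑(CInt.fiberStalk f x) ↑(CInt.fiberStalk f x))
    (hp : FEt.PurityHolds ↑(CInt.fiberStalk f x)) : FEt.PurityHolds (X.presheaf.stalk x) := by
  haveI : IsLocallyNoetherian X := LocallyOfFiniteType.isLocallyNoetherian f
  let B := X.presheaf.stalk x
  let A₀ := (Spec (CommRingCat.of A)).presheaf.stalk (f x)
  letI : Algebra A₀ B := (f.stalkMap x).hom.toAlgebra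
  haveI : IsLocalHom (algebraMap A₀ B) := inferInstanceAs (IsLocalHom (f.stalkMap x).hom)
  haveI : Module.Flat A₀ B := Flat.stalkMap f x
  obtain ⟨e⟩ := exists_fibre_equiv f x
  let J := (IsLocalRing.maximalIdeal A₀).map (algebraMap A₀ B)
  let e' : B ⧸ J ≃+* ↑(CInt.fiberStalk f x) := e
  haveI : IsLocalRing (B ⧸ J) := e'.symm.isLocalRing
  have hd₁ : (3 : ℕ∞) ≤ LocCoh.depth (B ⧸ J) (B ⧸ J) := by
    refine le_trans hd (le_of_eq ?_)
    exact (L02.FibDepth.Semi.depth_eq
      { φ := e'.toRingHom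
        surj := e'.surjective
        e := e'.toAddEquiv
        map_smul := fun r m => map_mul e' r m }).symm
  refine purityHolds_of_grFree J (ne_top_of_le_ne_top (IsLocalRing.maximalIdeal.isMaximal B).ne_top
    (IsLocalRing.map_maximalIdeal_le _)) hd₁
    (fun n => Groth.L18.GrFreePic.free_gr_map (B := B) (IsLocalRing.maximalIdeal A₀) n ?_)
    (purityHolds_of_ringEquiv e'.symm hp)
  letI : Field (A₀ ⧸ IsLocalRing.maximalIdeal A₀) := Ideal.Quotient.field _
  exact Module.Free.of_divisionRing (A₀ ⧸ IsLocalRing.maximalIdeal A₀) _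

theorem purityHolds_of_isPurePair {R : Type u} [CommRing R] [IsLocalRing R]
    (h : SGA2.IsPurePair (Spec (CommRingCat.of R)) (FEt.puncturedSpec R)) : FEt.PurityHolds R := by
  let U := FEt.puncturedSpec R
  let X := Spec (CommRingCat.of R)
  haveI := h ⊤
  haveI : IsIso (⊤ : X.Opens).ι := X.topIso.isIso_hom
  haveI := Groth.L16.PureQuot.isEquivalence_of_isIso (⊤ : X.Opens).ι
  haveI : IsIso (X.homOfLE (show U ≤ ⊤ ⊓ U from le_inf le_top le_rfl)) :=
    ⟨X.homOfLE inf_le_right, by simp, by simp⟩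
  haveI := Groth.L16.PureQuot.isEquivalence_of_isIso (X.homOfLE (show U ≤ ⊤ ⊓ U from le_inf le_top le_rfl))
  exact essSurj_comp (h := U.ι)
    (show X.homOfLE (show U ≤ ⊤ ⊓ U from le_inf le_top le_rfl) ≫ (X.homOfLE (inf_le_left : ⊤ ⊓ U ≤ ⊤) ≫ (⊤ : X.Opens).ι) = U.ι by simp)
    inferInstance (essSurj_comp rfl inferInstance inferInstance)

/-- Covers of a flat projective scheme and of a relative ample divisor. -/
theorem isEquivalence_restrict_of_ample (f : X ⟶ Spec (CommRingCat.of A)) [IsProper f] [Flat f]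
    (𝓘 : X.IdealSheafData) (L : X.Modules) (hL : ClSub.IsInverseOf L (ClSub.idealMod 𝓘)) (hamp : CohB1.IsAmple L)
    [Flat (𝓘.subschemeι ≫ f)]
    (hd2 : ∀ x : X, IsClosed ({f.asFiber x} : Set ↥(f.fiber (f.base x))) →
      (2 : ℕ∞) ≤ LocCoh.depth ↑(CInt.fiberStalk f x) ↑(CInt.fiberStalk f x))
    (hd3 : ∀ x : X, IsClosed ({f.asFiber x} : Set ↥(f.fiber (f.base x))) → x ∈ (𝓘.support : Set X) →
      (3 : ℕ∞) ≤ LocCoh.depth ↑(CInt.fiberStalk f x) ↑(CInt.fiberStalk f x))
    (hp : ∀ x : X, IsClosed ({f.asFiber x} : Set ↥(f.fiber (f.base x))) → x ∉ (𝓘.support : Set X) →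
      FEt.PurityHolds (X.presheaf.stalk x)) :
    (FEt.restrict 𝓘.subschemeι).IsEquivalence := by
  letI : X.Over (Spec (CommRingCat.of A)) := ⟨f⟩
  haveI : IsProper (X ↘ Spec (CommRingCat.of A)) := inferInstanceAs (IsProper f)
  haveI : Flat (X ↘ Spec (CommRingCat.of A)) := inferInstanceAs (Flat f)
  haveI : Flat (𝓘.subschemeι ≫ (X ↘ Spec (CommRingCat.of A))) := inferInstanceAs (Flat (𝓘.subschemeι ≫ f))
  haveI : IsLocallyNoetherian X := LocallyOfFiniteType.isLocallyNoetherian f
  obtain ⟨i⟩ := id hL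
  have hI : PicF.IsInvertible (ClSub.idealMod 𝓘) := Groth.L22.EnrSev.isInvertible_of_inverse hamp.1 i
  have hrange : ∀ y : 𝓘.subscheme, 𝓘.subschemeι y ∈ (𝓘.support : Set X) := fun y => by
    rw [← Scheme.IdealSheafData.range_subschemeι]
    exact ⟨y, rfl⟩
  have hLeff : LefX.LeffCond X 𝓘 := Groth.Agent.S3361.result A X 𝓘 L hL hamp
    (fun y hy => Groth.L18.PicLefFibre.depth_divisor f 𝓘 hI (n := 2) y
      (hd3 _ (Groth.L18.PicLefFibre.isClosed_asFiber_push 𝓘.subschemeι f y hy) (hrange y)))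
    hd2
  refine isEquivalence_restrict_of_leff 𝓘 hLeff fun U hU x hx => ?_
  have hZY : Disjoint ((U : Set X)ᶜ) (𝓘.support : Set X) := Set.disjoint_left.2 fun z hz hz' => hz (hU hz')
  have hc := Groth.L06.AmpleDisj.isClosed_asFiber f 𝓘 L hL hamp _ U.2.isClosed_compl hZY x hx
  exact ⟨Groth.L06.AmpleDisj.le_depth f x 2 (hd2 x hc), hp x hc fun h => hx (hU h)⟩

theorem isClosed_of_asFiber {S : Scheme.{u}} (f : X ⟶ S) (x : X) (hs : IsClosed ({f x} : Set S))
    (h : IsClosed ({f.asFiber x} : Set ↥(f.fiber (f x)))) : IsClosed ({x} : Set X) := by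
  have hr : IsClosed (Set.range (f.fiberι (f x))) := by
    rw [f.range_fiberι]
    exact hs.preimage f.continuous
  have hce : Topology.IsClosedEmbedding (f.fiberι (f x)) := ⟨(f.fiberι (f x)).isEmbedding, hr⟩
  have := hce.isClosedMap _ h
  rwa [Set.image_singleton, f.fiberι_asFiber] at this

/-- Over a field the fibre ring is the stalk. -/
theorem depth_fiberStalk_field {k : Type u} [Field k] (f : X ⟶ Spec (CommRingCat.of k)) [LocallyOfFiniteType f]
    (x : X) : LocCoh.depth ↑(CInt.fiberStalk f x) ↑(CInt.fiberStalk f x) =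
      LocCoh.depth (X.presheaf.stalk x) (X.presheaf.stalk x) := by
  haveI : IsLocallyNoetherian X := LocallyOfFiniteType.isLocallyNoetherian f
  let A₀ := (Spec (CommRingCat.of k)).presheaf.stalk (f x)
  let B := X.presheaf.stalk x
  letI : Algebra A₀ B := (f.stalkMap x).hom.toAlgebra
  obtain ⟨e⟩ := exists_fibre_equiv f x
  have hA : IsField A₀ := by
    let p : PrimeSpectrum k := f x
    letI : Algebra k A₀ := StructureSheaf.stalkAlgebra k p
    have hloc : IsLocalization.AtPrime A₀ p.asIdeal := StructureSheaf.IsLocalization.to_stalk k p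
    have hu : p.asIdeal.primeCompl ≤ IsUnit.submonoid k := fun a ha =>
      isUnit_iff_ne_zero.2 fun h => ha (h ▸ p.asIdeal.zero_mem)
    exact ((IsLocalization.atUnits k p.asIdeal.primeCompl hu (S := A₀)).toRingEquiv.symm.toMulEquiv).isField
      (Field.toIsField k)
  have hm : (IsLocalRing.maximalIdeal A₀).map (algebraMap A₀ B) = ⊥ := by
    rw [IsLocalRing.isField_iff_maximalIdeal_eq.1 hA, Ideal.map_bot]
  let e' : B ≃+* ↑(CInt.fiberStalk f x) :=
    ((RingEquiv.quotientBot B).symm.trans (Ideal.quotEquivOfEq hm.symm)).trans e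
  exact (L02.FibDepth.Semi.depth_eq
      { φ := e'.toRingHom
        surj := e'.surjective
        e := e'.toAddEquiv
        map_smul := fun r m => map_mul e' r m }).symm

end Groth.L13.FEtLeff
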