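import Groth.Agent.L16.HomSh.FreeFrames
import Groth.Agent.L12.DefoSh.Conn
import Groth.Agent.L29.DCoh.TensorPerfect
import Groth.Prelude.Def_SecTwist

/-!
# Morphisms out of tensor products from bilinear and trilinear families
-/

set_option autoImplicit false
set_option linter.style.haveILetI false
set_option backward.isDefEq.respectTransparency false
set_option backward.isDefEq.respectTransparency.types false

universe u

open CategoryTheory CategoryTheory.Limits AlgebraicGeometry TopologicalSpace Opposite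

noncomputable section

namespace Groth.L13.FEtLeff

open Groth.L18.Frame (rs ro rs_rs ro_ro rs_smul rs_self ro_self)
open Groth.L16.HomSh (Sec ev sec_ext secEquiv)

variable {X : Scheme.{u}} {M N L P : X.Modules}

/-- A pure tensor. -/
abbrev tp (M N : X.Modules) (U : X.Opens) (a : Γ(M, U)) (b : Γ(N, U)) : Γ(CohB1.tensorMod M N, U) :=
  SecTwist.tmul M N U a b

theorem tp_rs {U V : X.Opens} (h : V ≤ U) (a : Γ(M, U)) (b : Γ(N, U)) :
    rs (CohB1.tensorMod M N) h (tp M N U a b) = tp M N V (rs M h a) (rs N h b) :=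
  SecTwist.map_tmul M N (homOfLE h) a b

/-- A bilinear natural family. -/
structure IsBil (β : ∀ U : X.Opens, Γ(M, U) → Γ(N, U) → Γ(P, U)) : Prop where
  add_left : ∀ U a a' b, β U (a + a') b = β U a b + β U a' b
  add_right : ∀ U a b b', β U a (b + b') = β U a b + β U a b'
  smul_left : ∀ (U : X.Opens) (r : Γ(X, U)) a b, β U (r • a) b = r • β U a b
  smul_right : ∀ (U : X.Opens) (r : Γ(X, U)) a b, β U a (r • b) = r • β U a b
  res : ∀ (U V : X.Opens) (h : V ≤ U) a b, β V (rs M h a) (rs N h b) = rs P h (β U a b)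

/-- A bilinear family gives a morphism out of the tensor product. -/
theorem exists_hom_bil {β : ∀ U : X.Opens, Γ(M, U) → Γ(N, U) → Γ(P, U)} (hβ : IsBil β) :
    ∃ φ : CohB1.tensorMod M N ⟶ P, ∀ U a b, φ.app U (tp M N U a b) = β U a b := by
  let Q : CohB1.PMod X := CohB1.tensorPre M N
  let comp : ∀ U : (Opens X)ᵒᵖ, Q.obj U ⟶ (CohB1.toPMod P).obj U := fun U =>
    ModuleCat.ofHom (Y := ((CohB1.toPMod P).obj U : Type u))
      (TensorProduct.lift (R := X.sheaf.obj.obj U) (M := (CohB1.toPMod M).obj U) (N := (CohB1.toPMod N).obj U)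
        (P₂ := ((CohB1.toPMod P).obj U : Type u))
      (LinearMap.mk₂ (X.sheaf.obj.obj U)
        (fun (a : (CohB1.toPMod M).obj U) (b : (CohB1.toPMod N).obj U) =>
          (show ((CohB1.toPMod P).obj U : Type u) from β U.unop a b))
        (fun a a' b => hβ.add_left U.unop a a' b) (fun r a b => hβ.smul_left U.unop r a b)
        (fun a b b' => hβ.add_right U.unop a b b') (fun r a b => hβ.smul_right U.unop r a b)))
  let φ : Q ⟶ CohB1.toPMod P :=
    { app := comp
      naturality := fun {U V} i => by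
        refine ModuleCat.hom_ext (LinearMap.ext fun z => ?_)
        induction z using TensorProduct.induction_on with
        | zero => simp only [map_zero]
        | tmul a b => exact hβ.res U.unop V.unop i.unop.le a b
        | add z w hz hw => simp only [map_add, hz, hw] }
  let ψ := ((PresheafOfModules.sheafificationAdjunction (𝟙 X.ringCatSheaf.obj)).homEquiv
    (show X.PresheafOfModules from Q) P).symm φ
  refine ⟨ψ, fun U a b => ?_⟩
  have h1 := Equiv.apply_symm_apply ((PresheafOfModules.sheafificationAdjunction (𝟙 X.ringCatSheaf.obj)).homEquiv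
    (show X.PresheafOfModules from Q) P) φ
  rw [Adjunction.homEquiv_unit] at h1
  exact congr(($h1).app (op U) ((a : (CohB1.toPMod M).obj (op U)) ⊗ₜ[X.sheaf.obj.obj (op U)]
    (b : (CohB1.toPMod N).obj (op U))))

/-- Morphisms out of a tensor product agree if they agree on pure tensors. -/
theorem bil_ext {φ ψ : CohB1.tensorMod M N ⟶ P}
    (h : ∀ U a b, φ.app U (tp M N U a b) = ψ.app U (tp M N U a b)) : φ = ψ :=
  Groth.L12.DefoSh.tensor_ext h

/-- A morphism out of a tensor product is a bilinear family. -/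
theorem isBil_of_hom (φ : CohB1.tensorMod M N ⟶ P) : IsBil fun U a b => φ.app U (tp M N U a b) where
  add_left U a a' b := (congrArg (φ.app U) (Groth.L12.FinCov.tmul_add_left M N U a a' b)).trans (map_add _ _ _)
  add_right U a b b' := (congrArg (φ.app U) (Groth.L12.FinCov.tmul_add_right M N U a b b')).trans (map_add _ _ _)
  smul_left U r a b := (congrArg (φ.app U) (Groth.L12.FinCov.tmul_smul_left M N U r a b)).trans
    (Scheme.Modules.Hom.app_smul φ r _)
  smul_right U r a b := (congrArg (φ.app U) (Groth.L12.FinCov.tmul_smul_right M N U r a b)).trans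
    (Scheme.Modules.Hom.app_smul φ r _)
  res U V h a b := by
    show φ.app V (tp M N V (rs M h a) (rs N h b)) = rs P h (φ.app U (tp M N U a b))
    rw [← tp_rs]
    exact Groth.L19.ProjBdl.app_rs φ h _

theorem IsBil.swap {β : ∀ U : X.Opens, Γ(M, U) → Γ(N, U) → Γ(P, U)} (hβ : IsBil β) :
    IsBil fun U b a => β U a b where
  add_left U b b' a := hβ.add_right U a b b'
  add_right U b a a' := hβ.add_left U a a' b
  smul_left U r b a := hβ.smul_right U r a b
  smul_right U r b a := hβ.smul_left U r a b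
  res U V h b a := hβ.res U V h a b

/-- Currying. -/
theorem exists_curry {β : ∀ U : X.Opens, Γ(M, U) → Γ(N, U) → Γ(P, U)} (hβ : IsBil β) :
    ∃ φ : M ⟶ Groth.L16.HomSh.homMod N P, ∀ (U : X.Opens) (a : Γ(M, U)) (W : X.Opens) (h : W ≤ U) (b : Γ(N, W)),
      ev (secEquiv U (φ.app U a)) h b = β W (rs M h a) b := by
  let fam : ∀ U : X.Opens, Γ(M, U) → Sec N P U := fun U a =>
    ⟨fun W => AddMonoidHom.mk' (β W.1 (rs M W.2 a)) (hβ.add_right W.1 _),
      fun W W' h h' b => by
        show rs P h' (β W (rs M h a) b) = β W' (rs M _ a) (rs N h' b)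
        rw [← hβ.res W W' h', rs_rs],
      fun W h r b => hβ.smul_right W r _ b⟩
  refine ⟨Groth.L12.FinCov.mkHom (M := M) (N := Groth.L16.HomSh.homMod N P) (fun U a => fam U a) (fun U a a' => ?_)
    (fun U r a => ?_) (fun U V h a => ?_), fun U a W h b => rfl⟩
  · exact sec_ext fun W h b => (congrArg (fun z => β W z b) (map_add _ a a')).trans (hβ.add_left W _ _ b)
  · exact sec_ext fun W h b => (congrArg (fun z => β W z b) (rs_smul M h r a)).trans (hβ.smul_left W _ _ b)
  · exact sec_ext fun W hW b => congrArg (fun z => β W z b) (rs_rs M h hW a)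

/-- A morphism into the sheaf of homomorphisms is a bilinear family. -/
theorem isBil_uncurry (φ : M ⟶ Groth.L16.HomSh.homMod N P) :
    IsBil fun U a b => ev (secEquiv U (φ.app U a)) le_rfl b where
  add_left U a a' b := congrArg (fun s => ev (secEquiv U s) le_rfl b) (map_add (φ.app U).hom a a')
  add_right U a b b' := map_add _ b b'
  smul_left U r a b := by
    refine (congrArg (fun s => ev (secEquiv U s) le_rfl b) (Scheme.Modules.Hom.app_smul φ r a)).trans ?_
    rw [map_smul, Groth.L16.HomSh.ev_smulSec, ro_self]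
  smul_right U r a b := Groth.L16.HomSh.ev_smul _ _ r b
  res U V h a b := by
    rw [Groth.L16.HomSh.ev_rs]
    exact congrArg (fun s => ev (secEquiv V s) le_rfl (rs N h b)) (Groth.L19.ProjBdl.app_rs φ h a)

/-- A trilinear natural family. -/
structure IsTri (t : ∀ U : X.Opens, Γ(M, U) → Γ(N, U) → Γ(L, U) → Γ(P, U)) : Prop where
  bil₁₂ : ∀ (U : X.Opens) (a a' : Γ(M, U)) (b b' : Γ(N, U)) (c : Γ(L, U)) (r : Γ(X, U)),
    t U (a + a') b c = t U a b c + t U a' b c ∧ t U a (b + b') c = t U a b c + t U a b' c ∧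
      t U (r • a) b c = r • t U a b c ∧ t U a (r • b) c = r • t U a b c
  bil₃ : ∀ (U : X.Opens) (a : Γ(M, U)) (b : Γ(N, U)) (c c' : Γ(L, U)) (r : Γ(X, U)),
    t U a b (c + c') = t U a b c + t U a b c' ∧ t U a b (r • c) = r • t U a b c
  res : ∀ (U V : X.Opens) (h : V ≤ U) a b c, t V (rs M h a) (rs N h b) (rs L h c) = rs P h (t U a b c)

/-- A trilinear family gives a morphism out of the triple tensor product. -/
theorem exists_hom_tri {t : ∀ U : X.Opens, Γ(M, U) → Γ(N, U) → Γ(L, U) → Γ(P, U)} (ht : IsTri t) :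
    ∃ φ : CohB1.tensorMod (CohB1.tensorMod M N) L ⟶ P, ∀ U a b c,
      φ.app U (tp _ L U (tp M N U a b) c) = t U a b c := by
  let T := CohB1.tensorMod M N
  let fam : ∀ U : X.Opens, Γ(M, U) → Γ(N, U) → Sec L P U := fun U a b =>
    ⟨fun W => AddMonoidHom.mk' (t W.1 (rs M W.2 a) (rs N W.2 b)) fun c c' => (ht.bil₃ W.1 _ _ c c' 0).1,
      fun W W' h h' c => by
        show rs P h' (t W (rs M h a) (rs N h b) c) = t W' (rs M _ a) (rs N _ b) (rs L h' c)
        rw [← ht.res W W' h', rs_rs, rs_rs],
      fun W h r c => (ht.bil₃ W _ _ c c r).2⟩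
  have hbil : IsBil (P := Groth.L16.HomSh.homMod L P) fun U a b => fam U a b := by
    refine ⟨fun U a a' b => ?_, fun U a b b' => ?_, fun U r a b => ?_, fun U r a b => ?_, fun U V h a b => ?_⟩
    · exact sec_ext fun W h c => (congrArg (fun z => t W z _ c) (map_add _ a a')).trans
        (ht.bil₁₂ W _ _ (rs N h b) (rs N h b) c 0).1
    · exact sec_ext fun W h c => (congrArg (fun z => t W _ z c) (map_add _ b b')).trans
        (ht.bil₁₂ W (rs M h a) (rs M h a) _ _ c 0).2.1
    · exact sec_ext fun W h c => (congrArg (fun z => t W z _ c) (rs_smul M h r a)).trans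
        (ht.bil₁₂ W _ (rs M h a) (rs N h b) (rs N h b) c _).2.2.1
    · exact sec_ext fun W h c => (congrArg (fun z => t W _ z c) (rs_smul N h r b)).trans
        (ht.bil₁₂ W (rs M h a) (rs M h a) _ (rs N h b) c _).2.2.2
    · exact sec_ext fun W hW c => congrArg₂ (fun z z' => t W z z' c) (rs_rs M h hW a) (rs_rs N h hW b)
  obtain ⟨α, hα⟩ := exists_hom_bil hbil
  obtain ⟨φ, hφ⟩ := exists_hom_bil (isBil_uncurry α)
  refine ⟨φ, fun U a b c => ?_⟩
  rw [hφ, hα]
  exact congrArg₂ (fun z z' => t U z z' c) (rs_self M _ a) (rs_self N _ b)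

/-- Morphisms out of a triple tensor product agree if they agree on pure tensors. -/
theorem tri_ext {φ ψ : CohB1.tensorMod (CohB1.tensorMod M N) L ⟶ P}
    (h : ∀ U a b c, φ.app U (tp _ L U (tp M N U a b) c) = ψ.app U (tp _ L U (tp M N U a b) c)) : φ = ψ := by
  obtain ⟨α, hα⟩ := exists_curry (isBil_of_hom φ)
  obtain ⟨γ, hγ⟩ := exists_curry (isBil_of_hom ψ)
  have hαγ : α = γ := bil_ext fun U a b => sec_ext fun W hW c => by
    refine (hα U (tp M N U a b) W hW c).trans (Eq.trans ?_ (hγ U (tp M N U a b) W hW c).symm)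
    rw [tp_rs]
    exact h W _ _ c
  refine bil_ext fun U z c => ?_
  have h1 := hα U z U le_rfl c
  rw [hαγ, hγ U z U le_rfl c, rs_self] at h1
  exact h1.symm

end Groth.L13.FEtLeff
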