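import Groth.Agent.L13.FEtLeff.Descend
import Groth.Agent.L18.LocPicCI
import Groth.Agent.S5199
import Groth.Prelude.Def_SGA2
import Groth.Prelude.Def_Pi1
import Groth.Agent.S0247
import Mathlib.RingTheory.Ideal.KrullsHeightTheorem

/-! Purity for complete intersections of dimension at least three. -/

set_option autoImplicit false
set_option linter.style.haveILetI false
set_option linter.unusedSectionVars false
set_option backward.isDefEq.respectTransparency.types false
set_option backward.isDefEq.respectTransparency false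

universe u

open CategoryTheory CategoryTheory.Limits AlgebraicGeometry Opposite TopologicalSpace
open IsLocalRing RingTheory.Sequence
open Groth.L18.LocPic (dim_depth le_depth_of_le_dim add_natCast_cancel split_last isLocalRing_quot)

noncomputable section

namespace Groth.L13.FEtLeff

theorem nonempty_stalkEquiv {A : Type u} [CommRing A] (U : (Spec (CommRingCat.of A)).Opens)
    (x : (U : Scheme.{u})) :
    Nonempty (Localization.AtPrime (show PrimeSpectrum A from x.1).asIdeal ≃+* (U : Scheme.{u}).presheaf.stalk x) := by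
  let p : PrimeSpectrum A := x.1
  let y : Spec (CommRingCat.of A) := x.1
  letI : Algebra A ((Spec (CommRingCat.of A)).presheaf.stalk y) := StructureSheaf.stalkAlgebra A y
  haveI : IsLocalization.AtPrime ((Spec (CommRingCat.of A)).presheaf.stalk y) p.asIdeal :=
    StructureSheaf.IsLocalization.to_stalk A y
  exact ⟨(IsLocalization.algEquiv p.asIdeal.primeCompl (Localization.AtPrime p.asIdeal)
    ((Spec (CommRingCat.of A)).presheaf.stalk y)).toRingEquiv.trans (U.stalkIso x).symm.commRingCatIsoToRingEquiv⟩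

/-- A prime outside a neighbourhood of `V(f)` in the punctured spectrum has one dimensional quotient. -/
theorem ringKrullDim_quot_eq_one {A : Type u} [CommRing A] [IsLocalRing A] [IsNoetherianRing A] {f : A}
    (hf : f ∈ maximalIdeal A) (p : PrimeSpectrum A) (hp : p.asIdeal ≠ maximalIdeal A) (hfp : f ∉ p.asIdeal)
    (h : ∀ r : PrimeSpectrum A, p ≤ r → f ∈ r.asIdeal → r.asIdeal = maximalIdeal A) :
    ringKrullDim (A ⧸ p.asIdeal) = 1 := by
  haveI : Nontrivial (A ⧸ p.asIdeal) := Ideal.Quotient.nontrivial_iff.2 p.2.ne_top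
  haveI : IsLocalRing (A ⧸ p.asIdeal) := Groth.L01.isLocalRing_quotient p.2.ne_top
  let D := A ⧸ p.asIdeal
  let fD : D := Ideal.Quotient.mk _ f
  have hmap : (maximalIdeal A).map (Ideal.Quotient.mk p.asIdeal) = maximalIdeal D :=
    IsLocalRing.map_maximalIdeal_of_surjective _ Ideal.Quotient.mk_surjective
  have hmin : maximalIdeal D ∈ (Ideal.span {fD}).minimalPrimes := by
    refine ⟨⟨inferInstance, (Ideal.span_singleton_le_iff_mem _).2 (hmap ▸ Ideal.mem_map_of_mem _ hf)⟩, fun Q hQ _ => ?_⟩
    obtain ⟨hQp, hQf⟩ := hQ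
    haveI := hQp
    have hr := h ⟨Q.comap (Ideal.Quotient.mk _), inferInstance⟩
      (show p.asIdeal ≤ Q.comap _ from fun a ha => by
        rw [Ideal.mem_comap, Ideal.Quotient.eq_zero_iff_mem.2 ha]; exact zero_mem _)
      (show Ideal.Quotient.mk p.asIdeal f ∈ Q from (Ideal.span_singleton_le_iff_mem _).1 hQf)
    refine le_of_eq ?_
    rw [← Ideal.map_comap_of_surjective _ Ideal.Quotient.mk_surjective Q]
    exact (hmap.symm).trans (congrArg _ hr.symm)
  have h1 : ringKrullDim D ≤ 1 := by
    rw [← IsLocalRing.maximalIdeal_height_eq_ringKrullDim]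
    exact WithBot.coe_le_coe.2 (Ideal.height_le_one_of_isPrincipal_of_mem_minimalPrimes _ _ hmin)
  refine le_antisymm h1 ?_
  rw [← IsLocalRing.maximalIdeal_height_eq_ringKrullDim]
  refine WithBot.coe_le_coe.2 (Order.one_le_iff_pos.2 (pos_iff_ne_zero.2 fun h0 => ?_))
  have hb : maximalIdeal D ∈ minimalPrimes D := Ideal.height_eq_zero_iff.1 h0
  have : maximalIdeal D = ⊥ := by
    rw [IsDomain.minimalPrimes_eq_singleton_bot] at hb
    exact hb
  refine hfp (Ideal.Quotient.eq_zero_iff_mem.1 ?_)
  have hmem : fD ∈ maximalIdeal D := hmap ▸ Ideal.mem_map_of_mem _ hf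
  rw [this] at hmem
  exact hmem

/-- Purity passes to a hyperplane section with the Lefschetz property. -/
theorem purityHolds_hyperplane {A B : Type u} [CommRing A] [IsLocalRing A] [CommRing B] [IsLocalRing B]
    [IsNoetherianRing B] (f : B) (hf : f ∈ maximalIdeal B) [IsLocalRing (B ⧸ Ideal.span {f})]
    (ψ : B ⧸ Ideal.span {f} ≃+* A)
    (hL : LefX.LeffCond (FEt.puncturedSpec B : Scheme.{u})
      ((Spec.map (CommRingCat.ofHom (Ideal.Quotient.mk (Ideal.span {f})))).ker.comap (FEt.puncturedSpec B).ι))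
    (hp : ∀ p : PrimeSpectrum B, f ∉ p.asIdeal → ringKrullDim (B ⧸ p.asIdeal) = 1 →
      (2 : ℕ∞) ≤ LocCoh.depth (Localization.AtPrime p.asIdeal) (Localization.AtPrime p.asIdeal) ∧
        FEt.PurityHolds (Localization.AtPrime p.asIdeal))
    (hB : FEt.PurityHolds B) : FEt.PurityHolds A := by
  refine purityHolds_of_ringEquiv ψ ?_
  let J : Ideal B := Ideal.span {f}
  let U := FEt.puncturedSpec B
  let q := Spec.map (CommRingCat.ofHom (Ideal.Quotient.mk J))
  haveI : IsClosedImmersion q := IsClosedImmersion.spec_of_surjective _ Ideal.Quotient.mk_surjective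
  haveI : IsLocallyNoetherian (U : Scheme.{u}) := isLocallyNoetherian_of_isOpenImmersion U.ι
  refine purityHolds_of_essSurj_fst q ?_ (essSurj_fst_of_leff J hL fun V hV => ?_) hB
  · refine Groth.L18.LocPic.preimage_punctured (Ideal.Quotient.mk J) (fun P hP => ?_)
      (Groth.L18.LocPic.comap_maximal_of_surjective _ Ideal.Quotient.mk_surjective)
    rw [← Ideal.map_comap_of_surjective _ Ideal.Quotient.mk_surjective P.asIdeal, hP,
      IsLocalRing.map_maximalIdeal_of_surjective _ Ideal.Quotient.mk_surjective]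
  · have key : ∀ x : (U : Scheme.{u}), x ∉ V → f ∉ (show PrimeSpectrum B from x.1).asIdeal := fun x hx hfx => by
      refine hx (hV ?_)
      rw [Scheme.IdealSheafData.support_comap, Closeds.coe_preimage, Set.mem_preimage, Scheme.Hom.support_ker]
      refine subset_closure ?_
      have hcl : (show PrimeSpectrum B from x.1) ∈ Set.range (PrimeSpectrum.comap (Ideal.Quotient.mk J)) := by
        rw [range_comap_of_surjective _ _ Ideal.Quotient.mk_surjective, Ideal.mk_ker]
        exact (Ideal.span_singleton_le_iff_mem _).2 hfx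
      exact hcl
    have hpts : ∀ x : (U : Scheme.{u}), x ∉ V →
        (2 : ℕ∞) ≤ LocCoh.depth ((U : Scheme.{u}).presheaf.stalk x) ((U : Scheme.{u}).presheaf.stalk x) ∧
          FEt.PurityHolds ((U : Scheme.{u}).presheaf.stalk x) := fun x hx => by
      let p : PrimeSpectrum B := x.1
      have hp1 : ringKrullDim (B ⧸ p.asIdeal) = 1 := by
        refine ringKrullDim_quot_eq_one hf p (fun h => x.2 (PrimeSpectrum.ext h)) (key x hx) fun r hpr hfr => ?_
        by_contra hne
        have hrU : r ∈ U := fun h => hne (congrArg PrimeSpectrum.asIdeal h)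
        refine key ⟨r, hrU⟩ (fun hrV => hx ?_) hfr
        have hs : (⟨p, x.2⟩ : (U : Scheme.{u})) ⤳ ⟨r, hrU⟩ :=
          (subtype_specializes_iff _ _).2 ((PrimeSpectrum.le_iff_specializes p r).1 hpr)
        exact hs.mem_open V.2 hrV
      obtain ⟨e⟩ := nonempty_stalkEquiv U x
      obtain ⟨h1, h2⟩ := hp p (key x hx) hp1
      exact ⟨h1.trans (Groth.L06.FlatFibre.depth_eq_of_ringEquiv e).ge, purityHolds_of_ringEquiv e h2⟩
    exact essSurj_restrict_of_depth_purity V (fun x hx => (hpts x hx).1) fun x hx => (hpts x hx).2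

/-- Localizations of complete intersections. -/
theorem ci_localization {R B : Type u} [CommRing R] [IsRegularLocalRing R] [CommRing B] [IsLocalRing B]
    [IsNoetherianRing B] (rs : List R) (hm : ∀ x ∈ rs, x ∈ maximalIdeal R) (hreg : IsWeaklyRegular R rs)
    (π : R →+* B) (hπ : Function.Surjective π) (hker : RingHom.ker π = Ideal.ofList rs) (q : Ideal B) [q.IsPrime] :
    ∃ (R' : Type u) (_ : CommRing R') (_ : IsRegularLocalRing R') (rs' : List R')
      (g : R' →+* Localization.AtPrime q),
      rs'.length = rs.length ∧ (∀ x ∈ rs', x ∈ maximalIdeal R') ∧ IsWeaklyRegular R' rs' ∧ Function.Surjective g ∧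
      RingHom.ker g = Ideal.ofList rs' ∧
      ∀ k : ℕ, ringKrullDim (B ⧸ q) = 1 → ((k + 1 : ℕ) : WithBot ℕ∞) ≤ ringKrullDim B →
        (k : WithBot ℕ∞) ≤ ringKrullDim (Localization.AtPrime q) := by
  let Q := q.comap π
  haveI : IsRegularLocalRing (Localization.AtPrime Q) := Groth.Agent.S0564.result R Q
  let g : Localization.AtPrime Q →+* Localization.AtPrime q := Localization.localRingHom Q q π rfl
  have hg : Function.Surjective g := by
    intro z
    obtain ⟨a, ⟨s, hs⟩, rfl⟩ := IsLocalization.exists_mk'_eq q.primeCompl z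
    obtain ⟨a, rfl⟩ := hπ a
    obtain ⟨s, rfl⟩ := hπ s
    exact ⟨IsLocalization.mk' _ a (⟨s, hs⟩ : Q.primeCompl), Localization.localRingHom_mk' Q q π rfl a ⟨s, hs⟩⟩
  have hgker : RingHom.ker g = Ideal.ofList (rs.map (algebraMap R (Localization.AtPrime Q))) := by
    rw [← Ideal.map_ofList]
    refine le_antisymm (fun z hz => ?_) (Ideal.map_le_iff_le_comap.mpr fun x hx => ?_)
    · obtain ⟨c, ⟨s, hs⟩, rfl⟩ := IsLocalization.exists_mk'_eq Q.primeCompl z
      rw [RingHom.mem_ker, Localization.localRingHom_mk', IsLocalization.mk'_eq_zero_iff] at hz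
      obtain ⟨⟨t, ht⟩, htc⟩ := hz
      obtain ⟨t, rfl⟩ := hπ t
      rw [IsLocalization.mk'_mem_map_algebraMap_iff Q.primeCompl]
      refine ⟨t, ht, ?_⟩
      rw [← hker, RingHom.mem_ker, map_mul]
      exact htc
    · have h0 : π x = 0 := by rw [← RingHom.mem_ker, hker]; exact hx
      rw [Ideal.mem_comap, RingHom.mem_ker, Localization.localRingHom_to_map, h0, map_zero]
  have hmem : ∀ x ∈ rs, x ∈ Q := fun x hx => by
    show π x ∈ q
    rw [show π x = 0 by
      rw [← RingHom.mem_ker, hker]
      exact Ideal.subset_span (s := {y | y ∈ rs}) hx]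
    exact zero_mem _
  have hmQ : ∀ x ∈ rs.map (algebraMap R (Localization.AtPrime Q)), x ∈ maximalIdeal (Localization.AtPrime Q) :=
    fun x hx => by
      obtain ⟨y, hy, rfl⟩ := List.mem_map.1 hx
      exact (IsLocalization.AtPrime.to_map_mem_maximal_iff _ Q y).2 (hmem y hy)
  have hregQ : IsWeaklyRegular (Localization.AtPrime Q) (rs.map (algebraMap R (Localization.AtPrime Q))) :=
    hreg.of_flat
  haveI : IsNoetherianRing (Localization.AtPrime q) :=
    IsLocalization.isNoetherianRing q.primeCompl _ inferInstance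
  refine ⟨_, inferInstance, inferInstance, _, g, List.length_map _, hmQ, hregQ, hg, hgker, fun k hone hk => ?_⟩
  obtain ⟨hdq, -⟩ := dim_depth rs.length _ (List.length_map _) hmQ hregQ g hg hgker
  obtain ⟨hd1, -⟩ := dim_depth rs.length rs rfl hm hreg π hπ hker
  have hcat := Groth.L04.height_add_ringKrullDim_quotient (R := R) Q
  rw [← IsLocalization.AtPrime.ringKrullDim_eq_height Q (Localization.AtPrime Q), ← hdq, ← hd1] at hcat
  have e : (R ⧸ Q) ≃+* B ⧸ q := RingEquiv.ofBijective (Ideal.quotientMap q π le_rfl)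
    ⟨Ideal.quotientMap_injective, Ideal.quotientMap_surjective hπ⟩
  rw [ringKrullDim_eq_of_ringEquiv e, hone] at hcat
  revert hcat hk
  generalize ringKrullDim (Localization.AtPrime q) = a
  generalize ringKrullDim B = b
  intro hb h
  rw [← add_assoc] at h
  have h' : 1 + a = b := add_natCast_cancel h
  subst h'
  cases a with
  | bot => simp at hb
  | coe a =>
    refine WithBot.coe_le_coe.2 ?_
    have h5 : ((k + 1 : ℕ) : ℕ∞) ≤ 1 + a := WithBot.coe_le_coe.1 hb
    cases a with
    | top => exact le_top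
    | coe a =>
      have h5' : k + 1 ≤ 1 + a := by exact_mod_cast h5
      exact_mod_cast (by omega : k ≤ a)

/-- Purity of complete intersections, by induction on the number of equations. -/
theorem purityHolds_ci : ∀ (r : ℕ) (R : Type u) [CommRing R] [IsRegularLocalRing R] (A : Type u) [CommRing A]
    [IsLocalRing A] [IsNoetherianRing A] (rs : List R), rs.length = r → (∀ x ∈ rs, x ∈ maximalIdeal R) →
    IsWeaklyRegular R rs → ∀ (π : R →+* A), Function.Surjective π → RingHom.ker π = Ideal.ofList rs →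
    (3 : WithBot ℕ∞) ≤ ringKrullDim A → FEt.PurityHolds A
  | 0, R, _, _, A, _, _, _, rs, hn, _, _, π, hπ, hker, hdim => by
    rw [List.length_eq_zero_iff] at hn
    subst hn
    rw [Ideal.ofList_nil] at hker
    let e := RingEquiv.ofBijective π ⟨(RingHom.injective_iff_ker_eq_bot π).2 hker, hπ⟩
    refine purityHolds_of_ringEquiv e (Groth.Agent.S0247.result R ?_)
    rw [ringKrullDim_eq_of_ringEquiv e]
    exact le_trans (by norm_num) hdim
  | r + 1, R, _, _, A, _, _, _, rs, hn, hm, hreg, π, hπ, hker, hdim => by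
    classical
    haveI := Groth.L01.AnalUnram.isNoetherianRing_completion R
    haveI := Groth.L01.AnalUnram.isNoetherianRing_completion A
    haveI := Groth.L01.CompletionExt.faithfullyFlat R
    let Rh := AdicCompletion (maximalIdeal R) R
    let Ah := AdicCompletion (maximalIdeal A) A
    haveI : IsRegularLocalRing Rh := (Groth.L01.CompletionReg.isRegularLocalRing_iff_completion (A := R)).1 inferInstance
    obtain ⟨E⟩ := Groth.L07.RegQuot.exists_completionQuotEquiv π hπ
    let π' : Rh →+* Ah := E.toRingHom.comp (Ideal.Quotient.mk _)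
    have hπ' : Function.Surjective π' := E.surjective.comp Ideal.Quotient.mk_surjective
    have hker' : RingHom.ker π' = Ideal.ofList (rs.map (algebraMap R Rh)) := by
      rw [← RingHom.comap_ker, (RingHom.injective_iff_ker_eq_bot E.toRingHom).1 E.injective,
        ← RingHom.ker_eq_comap_bot, Ideal.mk_ker, hker, Ideal.map_ofList]
    have hm' : ∀ x ∈ rs.map (algebraMap R Rh), x ∈ maximalIdeal Rh := fun x hx => by
      obtain ⟨y, hy, rfl⟩ := List.mem_map.1 hx
      rw [← Groth.L01.AnalUnram.completion_map_maximalIdeal]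
      exact Ideal.mem_map_of_mem _ (hm y hy)
    have hreg' : IsWeaklyRegular Rh (rs.map (algebraMap R Rh)) := hreg.of_flat
    have hdim' : (3 : WithBot ℕ∞) ≤ ringKrullDim Ah := by
      rwa [Groth.L01.CompletionReg.ringKrullDim_completion]
    refine purityHolds_of_completion ?_
    haveI : IsAdicComplete (maximalIdeal Rh) Rh := by
      rw [← Groth.L01.AnalUnram.completion_map_maximalIdeal]
      exact AdicCompletion.isAdicComplete_self _ (IsNoetherian.noetherian _)
    clear_value π'
    generalize hgen : rs.map (algebraMap R Rh) = rs' at hker' hm' hreg'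
    have hn' : rs'.length = r + 1 := by rw [← hgen, List.length_map, hn]
    obtain rfl | ⟨rs₀, f, rfl⟩ := List.eq_nil_or_concat rs'
    · simp at hn'
    rw [List.concat_eq_append] at hn' hm' hreg' hker'
    haveI := isLocalRing_quot rs₀ fun x hx => hm' x (List.mem_append_left _ hx)
    haveI : IsNoetherianRing (Rh ⧸ Ideal.ofList rs₀) := inferInstance
    obtain ⟨φ, hφ, hk, hf, hfreg, hrs₀⟩ := split_last rs₀ f hm' hreg' π' hπ' hker'
    let B := Rh ⧸ Ideal.ofList rs₀
    let f' : B := Ideal.Quotient.mk (Ideal.ofList rs₀) f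
    let mkB : Rh →+* B := Ideal.Quotient.mk (Ideal.ofList rs₀)
    have hmkB : RingHom.ker mkB = Ideal.ofList rs₀ := Ideal.mk_ker
    have hlen : rs₀.length = r := by simpa using hn'
    have hm₀ : ∀ x ∈ rs₀, x ∈ maximalIdeal Rh := fun x hx => hm' x (List.mem_append_left _ hx)
    obtain ⟨hd1, -⟩ := dim_depth r rs₀ hlen hm₀ hrs₀ mkB Ideal.Quotient.mk_surjective hmkB
    obtain ⟨hd2, -⟩ := dim_depth (r + 1) (rs₀ ++ [f]) (by simp [hlen]) hm' hreg' π' hπ' hker'
    have hdimB : (4 : WithBot ℕ∞) ≤ ringKrullDim B := by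
      have h : ringKrullDim B + r = ringKrullDim Ah + (r + 1 : ℕ) := hd1.trans hd2.symm
      revert h hdim'
      generalize ringKrullDim B = b
      generalize ringKrullDim Ah = a
      intro h4 h
      rw [Nat.cast_add, Nat.cast_one, add_comm (r : WithBot ℕ∞), ← add_assoc] at h
      have hb : b = a + 1 := add_natCast_cancel h
      rw [hb]
      exact le_trans (by norm_num) (add_le_add_left h4 1)
    haveI : IsAdicComplete (maximalIdeal B) B := Groth.L01.NagataComplete.isAdicComplete_quotient _
    haveI := Groth.L18.LocPic.isAdicComplete_span (maximalIdeal B) hf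
    let ψ : B ⧸ Ideal.span {f'} ≃+* Ah :=
      (Ideal.quotEquivOfEq hk.symm).trans (RingHom.quotientKerEquivOfSurjective hφ)
    haveI : IsLocalRing (B ⧸ Ideal.span {f'}) := ψ.symm.isLocalRing
    have hloc : ∀ (p : Ideal B) [p.IsPrime], ringKrullDim (B ⧸ p) = 1 →
        (3 : ℕ∞) ≤ LocCoh.depth (Localization.AtPrime p) (Localization.AtPrime p) ∧
          FEt.PurityHolds (Localization.AtPrime p) := fun p _ hp1 => by
      obtain ⟨R', _, _, rs₁, g, hl, hm₁, hreg₁, hg, hgker, hdimp⟩ :=
        ci_localization rs₀ hm₀ hrs₀ mkB Ideal.Quotient.mk_surjective hmkB p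
      haveI : IsNoetherianRing (Localization.AtPrime p) :=
        IsLocalization.isNoetherianRing p.primeCompl _ inferInstance
      have h3 : (3 : WithBot ℕ∞) ≤ ringKrullDim (Localization.AtPrime p) :=
        hdimp 3 hp1 (by exact_mod_cast hdimB)
      exact ⟨le_depth_of_le_dim rs₁ hm₁ hreg₁ g hg hgker (k := 3) h3,
        purityHolds_ci r R' _ rs₁ (hl.trans hlen) hm₁ hreg₁ g hg hgker h3⟩
    refine purityHolds_hyperplane f' hf ψ ?_ (fun p _ hp1 => ?_) ?_
    · exact Groth.Agent.S5199.result B ⟨Rh, _, inferInstance, mkB, Ideal.Quotient.mk_surjective⟩ f' hf hfreg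
        (fun p _ hp1 => le_trans (by norm_num) (hloc p hp1).1) fun p _ _ hp1 => (hloc p hp1).1
    · exact ⟨le_trans (by norm_num) (hloc p.asIdeal hp1).1, (hloc p.asIdeal hp1).2⟩
    · exact purityHolds_ci r Rh B rs₀ hlen hm₀ hrs₀ mkB Ideal.Quotient.mk_surjective hmkB
        (le_trans (by norm_num) hdimB)

/-- Purity of absolute complete intersections. -/
theorem purityHolds_absCI {A : Type u} [CommRing A] [IsLocalRing A] [IsNoetherianRing A]
    (h : SGA2.IsAbsCompleteIntersection A) (hdim : (3 : WithBot ℕ∞) ≤ ringKrullDim A) :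
    (2 : ℕ∞) ≤ LocCoh.depth A A ∧ FEt.PurityHolds A := by
  obtain ⟨B, _, _, rs, hm, hreg, ⟨e⟩⟩ := h
  let π : B →+* A := e.symm.toRingHom.comp (Ideal.Quotient.mk (Ideal.span {r | r ∈ rs}))
  have hπ : Function.Surjective π := e.symm.surjective.comp Ideal.Quotient.mk_surjective
  have hk : RingHom.ker π = Ideal.ofList rs := by
    ext b
    exact (map_eq_zero_iff _ e.symm.injective).trans Ideal.Quotient.eq_zero_iff_mem
  exact ⟨le_depth_of_le_dim rs hm hreg.toIsWeaklyRegular π hπ hk (k := 2) (le_trans (by norm_num) hdim),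
    purityHolds_ci rs.length B A rs rfl hm hreg.toIsWeaklyRegular π hπ hk hdim⟩

/-- Purity of complete intersections in the sense of completions. -/
theorem purityHolds_ci_completion {A : Type u} [CommRing A] [IsLocalRing A] [IsNoetherianRing A]
    (h : Pi1.IsCompleteIntersection A) (hdim : (3 : WithBot ℕ∞) ≤ ringKrullDim A) : FEt.PurityHolds A := by
  obtain ⟨B, _, _, rs, hm, hreg, ⟨e⟩⟩ := h
  haveI := Groth.L01.AnalUnram.isNoetherianRing_completion A
  refine purityHolds_of_completion (purityHolds_absCI ⟨B, _, inferInstance, rs, hm, hreg, ⟨e⟩⟩ ?_).2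
  rwa [Groth.L01.CompletionReg.ringKrullDim_completion]

end Groth.L13.FEtLeff
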