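import Groth.Agent.L13.FEtLeff.VDimConn
import Groth.Agent.L27.EtaleLift
import Groth.Prelude.Def_SGA2
import Groth.Agent.L27.EtLocal.StalkProps
import Mathlib.RingTheory.Regular.Flat

/-! Absolute complete intersections ascend along etale maps. -/

set_option autoImplicit false
set_option maxSynthPendingDepth 3
set_option linter.style.haveILetI false
set_option backward.isDefEq.respectTransparency.types false

universe u

open IsLocalRing TensorProduct CategoryTheory AlgebraicGeometry

noncomputable section

namespace Groth.L13.FEtLeff.CIEtale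

theorem absCI_of_ringEquiv {A A' : Type u} [CommRing A] [IsLocalRing A] [CommRing A'] [IsLocalRing A']
    (e : A ≃+* A') (h : SGA2.IsAbsCompleteIntersection A) : SGA2.IsAbsCompleteIntersection A' := by
  obtain ⟨B, _, _, rs, hm, hreg, ⟨e'⟩⟩ := h
  exact ⟨B, _, inferInstance, rs, hm, hreg, ⟨e.symm.trans e'⟩⟩

/-- Localisations of etale algebras over absolute complete intersections, at primes over the closed point. -/
theorem absCI_of_etale {A : Type u} [CommRing A] [IsLocalRing A] (h : SGA2.IsAbsCompleteIntersection A)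
    (D : Type u) [CommRing D] [Algebra A D] [Algebra.Etale A D] (P : Ideal D) [P.IsPrime]
    (hP : P.comap (algebraMap A D) = maximalIdeal A) :
    SGA2.IsAbsCompleteIntersection (Localization.AtPrime P) := by
  obtain ⟨B, _, _, rs, hm, hreg, ⟨e⟩⟩ := h
  let I : Ideal B := Ideal.span {r | r ∈ rs}
  letI : Algebra (B ⧸ I) A := e.symm.toRingHom.toAlgebra
  letI : Algebra (B ⧸ I) D := ((algebraMap A D).comp e.symm.toRingHom).toAlgebra
  haveI : IsScalarTower (B ⧸ I) A D := .of_algebraMap_eq' rfl
  let e' : (B ⧸ I) ≃ₐ[B ⧸ I] A := AlgEquiv.ofRingEquiv (f := e.symm) fun _ => rfl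
  haveI : Algebra.Etale (B ⧸ I) A := Algebra.Etale.of_equiv e'
  haveI : Algebra.Etale (B ⧸ I) D := Algebra.Etale.comp _ A D
  obtain ⟨S', _, _, _, ⟨θ⟩⟩ := Groth.L27.EtaleLift.exists_lift B I D
  let π : S' →+* D := θ.toRingHom.comp Algebra.TensorProduct.includeRight.toRingHom
  have hπ : Function.Surjective π := θ.surjective.comp fun z => by
    induction z using TensorProduct.induction_on with
    | zero => exact ⟨0, map_zero _⟩
    | add a b ha hb =>
      obtain ⟨u, hu⟩ := ha
      obtain ⟨v, hv⟩ := hb
      exact ⟨u + v, by rw [map_add, hu, hv]⟩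
    | tmul r c =>
      obtain ⟨r, rfl⟩ := Ideal.Quotient.mk_surjective r
      exact ⟨r • c, by
        show (1 : B ⧸ I) ⊗ₜ[B] (r • c) = _
        rw [← TensorProduct.smul_tmul, Algebra.smul_def, mul_one]
        rfl⟩
  have hkerπ : RingHom.ker π = I.map (algebraMap B S') := by
    ext z
    have hz : π z = 0 ↔ (1 : B ⧸ I) ⊗ₜ[B] z = 0 := map_eq_zero_iff _ θ.injective
    let Q := Algebra.TensorProduct.quotIdealMapEquivQuotTensor S' I
    rw [RingHom.mem_ker, hz, ← Ideal.Quotient.eq_zero_iff_mem, ← map_eq_zero_iff _ Q.injective]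
    simp [Q]
  let n : Ideal S' := P.comap π
  have hπalg : π.comp (algebraMap B S') = (algebraMap (B ⧸ I) D).comp (Ideal.Quotient.mk I) := by
    ext z
    show θ ((1 : B ⧸ I) ⊗ₜ[B] algebraMap B S' z) = _
    rw [Algebra.algebraMap_eq_smul_one, ← TensorProduct.smul_tmul, Algebra.smul_def, mul_one]
    exact θ.commutes (algebraMap B _ z)
  haveI : IsRegularRing B := Groth.L04.LC.isRegularRing_of_regularLocal B
  haveI hn : n.IsPrime := Ideal.IsPrime.comap π
  obtain ⟨hreg', -⟩ := Groth.L21.Smooth.regular_localization_of_etale B S' n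
  let R'' := Localization.AtPrime n
  haveI : IsRegularLocalRing R'' := hreg'
  let q : R'' →+* Localization.AtPrime P := Localization.localRingHom n P π rfl
  have hq : Function.Surjective q := RingHom.surjective_localRingHom_of_surjective π hπ P
  let rs' : List R'' := rs.map (algebraMap B R'')
  have hkq : RingHom.ker q = Ideal.span {r | r ∈ rs'} := by
    have h := IsLocalization.ker_map (S := R'') (Localization.AtPrime P) π
      (M := n.primeCompl) (T := P.primeCompl)
      (by exact Submonoid.map_comap_eq_of_surjective hπ P.primeCompl)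
    refine h.trans ?_
    rw [hkerπ, Ideal.map_map, ← IsScalarTower.algebraMap_eq B S' R'', Ideal.map_span]
    congr 1
    ext z
    simp [rs']
  have hm' : ∀ r ∈ rs', r ∈ maximalIdeal R'' := fun r hr =>
    IsLocalRing.le_maximalIdeal (RingHom.ker_ne_top q) (hkq.ge (Ideal.subset_span hr))
  haveI : Module.Flat B R'' := Module.Flat.trans B S' R''
  refine ⟨R'', _, inferInstance, rs', hm', ?_, ⟨?_⟩⟩
  · have hw := hreg.toIsWeaklyRegular.of_flat (S := R'')
    refine ⟨hw, fun he => (maximalIdeal.isMaximal R'').ne_top (top_le_iff.1 ?_)⟩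
    rw [he, Ideal.smul_eq_mul, Ideal.mul_top, Ideal.ofList, Ideal.span_le]
    exact hm'
  · exact (RingHom.quotientKerEquivOfSurjective hq).symm.trans (Ideal.quotEquivOfEq hkq)

/-- The stalks of a scheme etale over one with absolute complete intersection stalks. -/
theorem absCI_stalk {X Y : Scheme.{u}} (f : X ⟶ Y) [Etale f] (x : X)
    (h : SGA2.IsAbsCompleteIntersection (Y.presheaf.stalk (f x))) :
    SGA2.IsAbsCompleteIntersection (X.presheaf.stalk x) := by
  obtain ⟨_, ⟨U, hU, rfl⟩, hyU, -⟩ :=
    Y.isBasis_affineOpens.exists_subset_of_mem_open (Set.mem_univ (f x)) isOpen_univ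
  obtain ⟨_, ⟨V, hV, rfl⟩, hxV, e⟩ :=
    X.isBasis_affineOpens.exists_subset_of_mem_open (show x ∈ (f ⁻¹ᵁ U : Set X) from hyU) (f ⁻¹ᵁ U).2
  let C := Γ(Y, U)
  let D := Γ(X, V)
  letI : Algebra C D := (f.appLE U V e).hom.toAlgebra
  haveI : Algebra.Etale C D := RingHom.etale_algebraMap.1
    (HasRingHomProperty.appLE (P := @Etale) f inferInstance ⟨U, hU⟩ ⟨V, hV⟩ e)
  let p := (hU.primeIdealOf ⟨f x, hyU⟩).asIdeal
  let q := (hV.primeIdealOf ⟨x, hxV⟩).asIdeal
  letI := X.presheaf.algebra_section_stalk ⟨x, hxV⟩
  letI := Y.presheaf.algebra_section_stalk ⟨f x, hyU⟩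
  haveI := hV.isLocalization_stalk ⟨x, hxV⟩
  haveI := hU.isLocalization_stalk ⟨f x, hyU⟩
  have hqp : q.comap (algebraMap C D) = p := by
    show (hV.primeIdealOf ⟨x, hxV⟩).asIdeal.comap (f.appLE U V e).hom = _
    exact congrArg PrimeSpectrum.asIdeal (IsAffineOpen.comap_primeIdealOf_appLE (f := f) U hU V hV e hxV)
  let A := Localization.AtPrime p
  have hA : SGA2.IsAbsCompleteIntersection A :=
    absCI_of_ringEquiv (IsLocalization.algEquiv p.primeCompl (Y.presheaf.stalk (f x)) A).toRingEquiv h
  let M := Algebra.algebraMapSubmonoid D p.primeCompl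
  let DS := Localization M
  letI : Algebra A DS := (IsLocalization.map (T := M) DS (algebraMap C D) p.primeCompl.le_comap_map :
    A →+* DS).toAlgebra
  haveI : IsScalarTower C A DS := IsScalarTower.of_algebraMap_eq fun c => by
    rw [RingHom.algebraMap_toAlgebra, IsLocalization.map_eq, ← IsScalarTower.algebraMap_apply]
  haveI : Algebra.IsPushout C A D DS := (Algebra.isPushout_of_isLocalization p.primeCompl A D DS).symm
  haveI : Algebra.Etale A DS :=
    Algebra.Etale.of_equiv (Algebra.IsPushout.equiv C A D DS)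
  have hdisj : Disjoint (M : Set D) q := by
    rw [Set.disjoint_left]
    rintro _ ⟨c, hc, rfl⟩ hcq
    exact hc (hqp.le hcq)
  let P : Ideal DS := q.map (algebraMap D DS)
  haveI hPp : P.IsPrime := IsLocalization.isPrime_of_isPrime_disjoint M DS q inferInstance hdisj
  have hPq : P.comap (algebraMap D DS) = q := IsLocalization.comap_map_of_isPrime_disjoint M DS inferInstance hdisj
  have hP : P.comap (algebraMap A DS) = maximalIdeal A := by
    rw [← IsLocalization.map_comap p.primeCompl A (P.comap (algebraMap A DS)),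
      ← IsLocalization.map_comap p.primeCompl A (maximalIdeal A)]
    congr 1
    show Ideal.comap (algebraMap C A) (Ideal.comap (algebraMap A DS) P) = Ideal.comap (algebraMap C A) (maximalIdeal A)
    rw [Ideal.comap_comap, ← IsScalarTower.algebraMap_eq, IsScalarTower.algebraMap_eq C D DS,
      ← Ideal.comap_comap, hPq, hqp]
    exact (IsLocalization.AtPrime.under_maximalIdeal A p).symm
  have hci := absCI_of_etale hA DS P hP
  haveI : IsLocalization.AtPrime (Localization.AtPrime P) q := by
    have := IsLocalization.isLocalization_isLocalization_atPrime_isLocalization M (Localization.AtPrime P) P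
    have hM : (Ideal.comap (algebraMap D DS) P).primeCompl = q.primeCompl := by
      ext z
      exact not_congr (SetLike.ext_iff.1 hPq z)
    show IsLocalization q.primeCompl _
    rw [← hM]
    exact this
  exact absCI_of_ringEquiv (IsLocalization.algEquiv q.primeCompl (Localization.AtPrime P) (X.presheaf.stalk x)).toRingEquiv hci

end Groth.L13.FEtLeff.CIEtale
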