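import Groth.Agent.L04.SupportSh.Components
import Groth.Agent.L27.SGA1.FEtFaithful
import Mathlib.AlgebraicGeometry.Morphisms.FlatRank
import Mathlib.AlgebraicGeometry.Morphisms.FlatMono
import Mathlib.AlgebraicGeometry.Noetherian

/-! Restriction to a closed subscheme is fully faithful when connected finite etale covers stay connected. -/

set_option autoImplicit false
set_option linter.style.haveILetI false
set_option backward.isDefEq.respectTransparency.types false

universe u

open CategoryTheory CategoryTheory.Limits AlgebraicGeometry TopologicalSpace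

noncomputable section

namespace Groth.L13.FEtLeff.ConnCrit

/-- Connected finite etale schemes over `X` have connected preimage in `Y`. -/
def KeepsConnected {X Y : Scheme.{u}} (i : Y ⟶ X) : Prop :=
  ∀ (R : Scheme.{u}) (r : R ⟶ X), IsFinite r → Etale r → ConnectedSpace R → ConnectedSpace ↥(pullback r i)

variable {X Y : Scheme.{u}} {i : Y ⟶ X}

theorem keepsConnected_fst (H : KeepsConnected i) {V : Scheme.{u}} (v : V ⟶ X) [IsFinite v] [Etale v] :
    KeepsConnected (pullback.fst v i) := by
  intro R r _ _ _
  haveI := H R (r ≫ v) inferInstance inferInstance inferInstance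
  let e : pullback r (pullback.fst v i) ≅ pullback (r ≫ v) i := pullbackRightPullbackFstIso v i r
  exact e.inv.surjective.connectedSpace e.inv.continuous

variable [AlgebraicGeometry.IsNoetherian X] (H : KeepsConnected i) {R : Scheme.{u}} (r : R ⟶ X) [IsFinite r] [Etale r]

include H in
theorem connected_component (x : R) :
    _root_.IsConnected ((pullback.fst r i) ⁻¹' connectedComponent x) := by
  haveI : IsLocallyNoetherian R := LocallyOfFiniteType.isLocallyNoetherian r
  let C : R.Opens := ⟨connectedComponent x, Groth.L04.SupportSh.isOpen_connectedComponent x⟩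
  haveI : IsClosedImmersion C.ι := IsClosedImmersion.of_isPreimmersion _ (by
    rw [Scheme.Opens.range_ι]; exact isClosed_connectedComponent)
  haveI : ConnectedSpace C.toScheme := isConnected_iff_connectedSpace.1 isConnected_connectedComponent
  haveI := H C.toScheme (C.ι ≫ r) inferInstance inferInstance inferInstance
  let k : pullback (C.ι ≫ r) i ⟶ pullback r i :=
    pullback.map (C.ι ≫ r) i r i C.ι (𝟙 _) (𝟙 _) (by rw [Category.comp_id]) (by simp)
  have hk : Set.range k = (pullback.fst r i) ⁻¹' connectedComponent x := by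
    rw [Scheme.Pullback.range_map, Scheme.Opens.range_ι]
    simp [C]
  exact hk ▸ isConnected_range k.continuous

include H in
theorem exists_lift {V : Set ↥(pullback r i)} (hV : IsClopen V) :
    ∃ D : Set R, IsClopen D ∧ (pullback.fst r i) ⁻¹' D = V := by
  haveI : IsLocallyNoetherian R := LocallyOfFiniteType.isLocallyNoetherian r
  let S : Set R := (pullback.fst r i) '' V
  refine ⟨{x | (connectedComponent x ∩ S).Nonempty}, ⟨⟨?_⟩, ?_⟩, ?_⟩
  · refine isOpen_iff_forall_mem_open.2 fun x hx => ⟨connectedComponent x, fun y hy hy' => hx ?_,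
      Groth.L04.SupportSh.isOpen_connectedComponent x, mem_connectedComponent⟩
    show (connectedComponent x ∩ S).Nonempty
    rwa [connectedComponent_eq hy]
  · refine isOpen_iff_forall_mem_open.2 fun x hx => ⟨connectedComponent x, fun y hy => ?_,
      Groth.L04.SupportSh.isOpen_connectedComponent x, mem_connectedComponent⟩
    show (connectedComponent y ∩ S).Nonempty
    rwa [← connectedComponent_eq hy]
  · ext z
    constructor
    · rintro ⟨_, hy, z', hz', rfl⟩
      exact (connected_component H r (pullback.fst r i z)).isPreconnected.subset_isClopen hV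
        ⟨z', hy, hz'⟩ mem_connectedComponent
    · exact fun hz => ⟨_, mem_connectedComponent, z, hz, rfl⟩

include H in
theorem clopen_eq_univ {D : Set X} (hD : IsClopen D) (hi : Set.range i ⊆ D) :
    D = Set.univ := by
  refine Set.eq_univ_of_forall fun x => ?_
  obtain ⟨z, hz⟩ := (connected_component H (𝟙 X) x).nonempty
  have hzD : pullback.fst (𝟙 X) i z ∈ D := hi ⟨pullback.snd (𝟙 X) i z, by
    rw [← Scheme.Hom.comp_apply, ← pullback.condition, Category.comp_id]⟩
  have := hD.connectedComponent_subset hzD
  rw [← connectedComponent_eq hz] at this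
  exact this mem_connectedComponent

include H in
theorem exists_section [IsClosedImmersion i] (u₀ : Y ⟶ pullback r i) (hu₀ : u₀ ≫ pullback.snd r i = 𝟙 Y) :
    ∃ u : X ⟶ R, u ≫ r = 𝟙 X ∧ i ≫ u = u₀ ≫ pullback.fst r i := by
  haveI : IsClosedImmersion u₀ := by
    haveI : IsClosedImmersion (u₀ ≫ pullback.snd r i) := by rw [hu₀]; infer_instance
    exact IsClosedImmersion.of_comp u₀ (pullback.snd r i)
  haveI : Etale (u₀ ≫ pullback.snd r i) := by rw [hu₀]; infer_instance
  haveI : Etale u₀ := Etale.of_comp u₀ (pullback.snd r i)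
  haveI : Mono u₀ := (SplitMono.mk _ hu₀).mono
  haveI : IsOpenImmersion u₀ := IsOpenImmersion.of_flat_of_mono u₀
  have hV : IsClopen (Set.range u₀) :=
    ⟨u₀.isClosedEmbedding.isClosed_range, u₀.isOpenEmbedding.isOpen_range⟩
  obtain ⟨D, hD, hDV⟩ := exists_lift H r hV
  let U : R.Opens := ⟨D, hD.2⟩
  haveI : IsClosedImmersion U.ι := IsClosedImmersion.of_isPreimmersion _ (by
    rw [Scheme.Opens.range_ι]; exact hD.1)
  let q : U.toScheme ⟶ X := U.ι ≫ r
  haveI : IsFinite q := inferInstanceAs (IsFinite (U.ι ≫ r))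
  haveI : Etale q := inferInstanceAs (Etale (U.ι ≫ r))
  have hw' : Set.range (u₀ ≫ pullback.fst r i) ⊆ Set.range U.ι := by
    rw [Scheme.Opens.range_ι]
    rintro _ ⟨x, rfl⟩
    rw [Scheme.Hom.comp_apply]
    exact hDV.ge ⟨x, rfl⟩
  let w : Y ⟶ U.toScheme := IsOpenImmersion.lift U.ι _ hw'
  have hw : w ≫ U.ι = u₀ ≫ pullback.fst r i := IsOpenImmersion.lift_fac _ _ _
  have hwq : w ≫ q = i := by
    simp only [q]
    rw [← Category.assoc, hw, Category.assoc, pullback.condition, ← Category.assoc, hu₀, Category.id_comp]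
  haveI : IsIso (pullback.snd q i) := by
    let t : Y ⟶ pullback q i := pullback.lift w (𝟙 Y) (by rw [Category.id_comp]; exact hwq)
    have ht : t ≫ pullback.snd q i = 𝟙 Y := pullback.lift_snd _ _ _
    haveI : Etale (t ≫ pullback.snd q i) := by rw [ht]; infer_instance
    haveI : Etale t := Etale.of_comp t (pullback.snd q i)
    haveI : Mono t := (SplitMono.mk _ ht).mono
    haveI : IsOpenImmersion t := IsOpenImmersion.of_flat_of_mono t
    let k : pullback q i ⟶ pullback r i :=
      pullback.map q i r i U.ι (𝟙 _) (𝟙 _) (by simp [q]) (by simp)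
    haveI : IsOpenImmersion k := inferInstance
    haveI : Surjective t := by
      refine ⟨fun z => ?_⟩
      have hz : k z ∈ (pullback.fst r i) ⁻¹' D := by
        show (k ≫ pullback.fst r i) z ∈ D
        rw [show k ≫ pullback.fst r i = pullback.fst q i ≫ U.ι from pullback.lift_fst _ _ _]
        exact (pullback.fst q i z).2
      rw [hDV] at hz
      obtain ⟨x, hx⟩ := hz
      refine ⟨x, k.isOpenEmbedding.injective ?_⟩
      rw [← hx, ← Scheme.Hom.comp_apply]
      refine congrArg (fun f : Y ⟶ pullback r i => f x) ?_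
      apply pullback.hom_ext
      · have h1 : k ≫ pullback.fst r i = pullback.fst q i ≫ U.ι := pullback.lift_fst _ _ _
        have h2 : t ≫ pullback.fst q i = w := pullback.lift_fst _ _ _
        rw [Category.assoc, h1, ← Category.assoc, h2, hw]
      · have h1 : k ≫ pullback.snd r i = pullback.snd q i ≫ 𝟙 Y := pullback.lift_snd _ _ _
        rw [Category.assoc, h1, Category.comp_id, ht, hu₀]
    haveI : Epi t.base := (TopCat.epi_iff_surjective _).mpr t.surjective
    haveI : IsIso t := IsOpenImmersion.isIso t
    haveI : IsIso (t ≫ pullback.snd q i) := by rw [ht]; infer_instance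
    exact IsIso.of_isIso_comp_left t (pullback.snd q i)
  haveI : IsIso q := by
    rw [Scheme.Hom.isIso_iff_finrank_eq]
    have hclop : IsClopen {s : X | q.finrank s = 1} :=
      ⟨(q.isLocallyConstant_finrank.isClosed_fiber 1), q.isLocallyConstant_finrank.isOpen_fiber 1⟩
    have hall := clopen_eq_univ H hclop (by
      rintro _ ⟨x, rfl⟩
      show q.finrank (i x) = 1
      rw [← Scheme.Hom.finrank_pullback_snd q i x]
      exact congrFun (Scheme.Hom.finrank_eq_one_of_isIso (pullback.snd q i)) x)
    funext s
    exact hall.ge (Set.mem_univ s)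
  refine ⟨inv q ≫ U.ι, ?_, ?_⟩
  · rw [Category.assoc, show U.ι ≫ r = q from rfl, IsIso.inv_hom_id]
  · have hiw : i ≫ inv q = w := by rw [IsIso.comp_inv_eq]; exact hwq.symm
    rw [← Category.assoc, hiw, hw]

end Groth.L13.FEtLeff.ConnCrit

namespace Groth.L13.FEtLeff.ConnCrit

variable {X Y : Scheme.{u}} [AlgebraicGeometry.IsNoetherian X] (i : Y ⟶ X) [IsClosedImmersion i]

theorem exists_hom (H : KeepsConnected i) {V U : Scheme.{u}} (v : V ⟶ X) (w : U ⟶ X) [IsFinite v] [Etale v]
    [IsFinite w] [Etale w] (ψ : pullback v i ⟶ pullback w i) (hψ : ψ ≫ pullback.snd w i = pullback.snd v i) :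
    ∃ a : V ⟶ U, a ≫ w = v ∧ pullback.fst v i ≫ a = ψ ≫ pullback.fst w i := by
  haveI : IsLocallyNoetherian V := LocallyOfFiniteType.isLocallyNoetherian v
  haveI : CompactSpace V := QuasiCompact.compactSpace_of_compactSpace v
  haveI : AlgebraicGeometry.IsNoetherian V := ⟨⟩
  let l : pullback v i ⟶ pullback v w :=
    pullback.lift (pullback.fst v i) (ψ ≫ pullback.fst w i) (by
      rw [Category.assoc, pullback.condition (f := w), pullback.condition (f := v), ← Category.assoc, hψ])
  let u₀ : pullback v i ⟶ pullback (pullback.fst v w) (pullback.fst v i) :=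
    pullback.lift l (𝟙 _) (by rw [Category.id_comp]; exact pullback.lift_fst _ _ _)
  obtain ⟨u, hu1, hu2⟩ := exists_section (keepsConnected_fst H v) (pullback.fst v w) u₀
    (pullback.lift_snd _ _ _)
  refine ⟨u ≫ pullback.snd v w, ?_, ?_⟩
  · rw [Category.assoc, ← pullback.condition, ← Category.assoc, hu1, Category.id_comp]
  · rw [← Category.assoc, hu2, show u₀ ≫ pullback.fst _ _ = l from pullback.lift_fst _ _ _]
    exact pullback.lift_snd _ _ _

theorem eq_univ_of_range_fst_subset (H : KeepsConnected i) {V : Scheme.{u}} (v : V ⟶ X) [IsFinite v] [Etale v]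
    {C : Set V} (hC : IsClopen C) (h : Set.range (pullback.fst v i) ⊆ C) : C = Set.univ := by
  haveI : IsLocallyNoetherian V := LocallyOfFiniteType.isLocallyNoetherian v
  haveI : CompactSpace V := QuasiCompact.compactSpace_of_compactSpace v
  haveI : AlgebraicGeometry.IsNoetherian V := ⟨⟩
  exact clopen_eq_univ (keepsConnected_fst H v) hC h

theorem fullyFaithful (H : KeepsConnected i) : (FEt.restrict i).Full ∧ (FEt.restrict i).Faithful := by
  refine ⟨⟨fun {V U} ψ => ?_⟩, ⟨fun {V U} a b h => ?_⟩⟩
  · obtain ⟨a, ha1, ha2⟩ := @exists_hom _ _ _ i _ H _ _ V.hom U.hom V.prop.1 V.prop.2 U.prop.1 U.prop.2 ψ.left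
      (MorphismProperty.Over.w ψ)
    exact ⟨MorphismProperty.Over.homMk a ha1,
      MorphismProperty.Over.Hom.ext (pullback.hom_ext ((pullback.lift_fst _ _ _).trans ha2)
        ((pullback.lift_snd _ _ _).trans (MorphismProperty.Over.w ψ).symm))⟩
  · obtain ⟨C, hC, hu, hr⟩ := Groth.L27.SGA1Conn.exists_clopen a b
    exact hu (@eq_univ_of_range_fst_subset _ _ _ i _ H _ V.hom V.prop.1 V.prop.2 _ hC
      (hr _ _ (Groth.L27.SGA1Conn.range_subset_of_map_eq i h)))

end Groth.L13.FEtLeff.ConnCrit
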