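import Groth.Agent.L06.FEtLef.Idem
import Groth.Agent.L18.LefFormal
import Groth.Prelude.Def_FSch2

/-!
# Finite étale systems over the thickenings of a closed subscheme: sections and traces
-/

set_option autoImplicit false
set_option linter.style.haveILetI false
set_option linter.unusedSectionVars false
set_option backward.isDefEq.respectTransparency false
set_option backward.isDefEq.respectTransparency.types false

universe u

open CategoryTheory CategoryTheory.Limits AlgebraicGeometry TopologicalSpace Opposite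
open Groth.L12.FinCov (IsBasisOn rM rO mkHom)
open Groth.L06.FEtLef (pO)

noncomputable section

namespace Groth.L13.FEtLeff

variable {U : Scheme.{u}}

/-- Restriction of functions. -/
abbrev rf (Y : Scheme.{u}) {V V' : Y.Opens} (h : V' ≤ V) (b : Γ(Y, V)) : Γ(Y, V') :=
  Y.presheaf.map (homOfLE h).op b

theorem rf_rf (Y : Scheme.{u}) {V V' V'' : Y.Opens} (h : V' ≤ V) (h' : V'' ≤ V') (b : Γ(Y, V)) :
    rf Y h' (rf Y h b) = rf Y (h'.trans h) b := by
  show (Y.presheaf.map _ ≫ Y.presheaf.map _) b = _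
  rw [← Functor.map_comp]; rfl

theorem app_rf {Y Y' : Scheme.{u}} (f : Y' ⟶ Y) {V V' : Y.Opens} (h : V' ≤ V) (b : Γ(Y, V)) :
    f.app V' (rf Y h b) = rf Y' (f.preimage_mono h) (f.app V b) :=
  congr($(f.naturality (homOfLE h).op) b)

theorem appLE_app {X Y Z : Scheme.{u}} (f : X ⟶ Y) (g : Y ⟶ Z) (h : X ⟶ Z) (e : f ≫ g = h) (W : Z.Opens)
    (e' : h ⁻¹ᵁ W ≤ f ⁻¹ᵁ (g ⁻¹ᵁ W)) (a : Γ(Z, W)) :
    f.appLE (g ⁻¹ᵁ W) (h ⁻¹ᵁ W) e' (g.app W a) = h.app W a := by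
  subst e
  show (g.app W ≫ f.appLE _ _ _) a = _
  rw [Scheme.Hom.app_eq_appLE, Scheme.Hom.appLE_comp_appLE, ← Scheme.Hom.app_eq_appLE]

theorem appLE_app_square {P P' Q Q' : Scheme.{u}} (t : P ⟶ P') (p : P ⟶ Q) (p' : P' ⟶ Q') (s : Q ⟶ Q')
    (w : t ≫ p' = p ≫ s) (V' : Q'.Opens) (V : Q.Opens) (e₁ : V ≤ s ⁻¹ᵁ V') (e₂ : p ⁻¹ᵁ V ≤ t ⁻¹ᵁ (p' ⁻¹ᵁ V'))
    (a : Γ(Q', V')) : t.appLE (p' ⁻¹ᵁ V') (p ⁻¹ᵁ V) e₂ (p'.app V' a) = p.app V (s.appLE V' V e₁ a) := by
  show (p'.app V' ≫ t.appLE _ _ _) a = (s.appLE V' V e₁ ≫ p.app V) a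
  rw [Scheme.Hom.app_eq_appLE, Scheme.Hom.app_eq_appLE, Scheme.Hom.appLE_comp_appLE, Scheme.Hom.appLE_comp_appLE]
  congr 3

theorem appLE_rf {X Y : Scheme.{u}} (f : X ⟶ Y) {V V' : Y.Opens} {O O' : X.Opens} (h : V' ≤ V) (h' : O' ≤ O)
    (e : O ≤ f ⁻¹ᵁ V) (e' : O' ≤ f ⁻¹ᵁ V') (a : Γ(Y, V)) :
    f.appLE V' O' e' (rf Y h a) = rf X h' (f.appLE V O e a) := by
  show (_ ≫ f.appLE _ _ _) a = (f.appLE _ _ _ ≫ _) a
  rw [Scheme.Hom.map_appLE, Scheme.Hom.appLE_map]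

section Quot

variable (𝓙 : U.IdealSheafData)

/-- The levels. -/
abbrev lvl (n : ℕ) : Scheme.{u} := (𝓙 ^ (n + 1)).subscheme

/-- The inclusions of the levels. -/
abbrev lι (n : ℕ) : lvl 𝓙 n ⟶ U := (𝓙 ^ (n + 1)).subschemeι

/-- The transition maps of the levels. -/
abbrev ltr (n : ℕ) : lvl 𝓙 n ⟶ lvl 𝓙 (n + 1) := (FSch.completionAlong U 𝓙).ι n

theorem ltr_ι (n : ℕ) : ltr 𝓙 n ≫ lι 𝓙 (n + 1) = lι 𝓙 n :=
  Scheme.IdealSheafData.inclusion_subschemeι (FSch.pow_succ_le U 𝓙 n)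

theorem push_unitToPush_app {Z W X : Scheme.{u}} (f : Z ⟶ W) (g : W ⟶ X) (h : Z ⟶ X) (hh : f ≫ g = h)
    (V : X.Opens) (y : Γ(W, g ⁻¹ᵁ V)) :
    (show Γ(Z, h ⁻¹ᵁ V) from ((Scheme.Modules.pushforward g).map (ClSub.unitToPush f) ≫
      (Scheme.Modules.pushforwardComp f g).hom.app _ ≫ (Scheme.Modules.pushforwardCongr hh).hom.app _).app V
        (show Γ((Coh.push g).obj (Coh.structureModule W), V) from y)) =
      f.appLE (g ⁻¹ᵁ V) (h ⁻¹ᵁ V) (by rw [← hh]; rfl) y := by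
  subst hh
  show ((Coh.structureModule Z).presheaf.map (eqToHom rfl).op) (f.app (g ⁻¹ᵁ V) y) = _
  rw [eqToHom_refl, op_id, CategoryTheory.Functor.map_id]
  show _ = f.appLE (g ⁻¹ᵁ V) (f ⁻¹ᵁ (g ⁻¹ᵁ V)) le_rfl y
  rw [← Scheme.Hom.app_eq_appLE]
  rfl

theorem ltr_pre (n : ℕ) (W : U.Opens) : lι 𝓙 n ⁻¹ᵁ W ≤ ltr 𝓙 n ⁻¹ᵁ (lι 𝓙 (n + 1) ⁻¹ᵁ W) := by
  rw [← ltr_ι 𝓙 n]; rfl

theorem quotMap_app (n : ℕ) (W : U.Opens) (y : Γ(lvl 𝓙 (n + 1), lι 𝓙 (n + 1) ⁻¹ᵁ W)) :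
    (show Γ(lvl 𝓙 n, lι 𝓙 n ⁻¹ᵁ W) from (Lef.quotMap (Lef.pow_succ_le 𝓙 n)).app W
      (show Γ(ClSub.quotMod (𝓙 ^ (n + 1 + 1)), W) from y)) =
      (ltr 𝓙 n).appLE _ _ (ltr_pre 𝓙 n W) y :=
  push_unitToPush_app (ltr 𝓙 n) (lι 𝓙 (n + 1)) (lι 𝓙 n) (ltr_ι 𝓙 n) W y

end Quot

/-- A system of finite étale covers of the levels with cartesian transition maps. -/
structure Cover (𝓙 : U.IdealSheafData) where
  /-- the covers -/
  R : ℕ → Scheme.{u}
  /-- the projections -/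
  p : ∀ n, R n ⟶ lvl 𝓙 n
  fin : ∀ n, IsFinite (p n)
  et : ∀ n, AlgebraicGeometry.Etale (p n)
  /-- the transition maps -/
  t : ∀ n, R n ⟶ R (n + 1)
  sq : ∀ n, IsPullback (t n) (p n) (p (n + 1)) (ltr 𝓙 n)

namespace Cover

variable {𝓙 : U.IdealSheafData} (C : Cover 𝓙) (n : ℕ)

instance : IsFinite (C.p n) := C.fin n
instance : AlgebraicGeometry.Etale (C.p n) := C.et n

/-- The covers as schemes over `U`. -/
abbrev r : C.R n ⟶ U := C.p n ≫ lι 𝓙 n

theorem t_r : C.t n ≫ C.r (n + 1) = C.r n := by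
  show C.t n ≫ C.p (n + 1) ≫ lι 𝓙 (n + 1) = C.p n ≫ lι 𝓙 n
  rw [← Category.assoc, (C.sq n).w, Category.assoc]
  exact congrArg (C.p n ≫ ·) (ltr_ι 𝓙 n)

/-- Functions on the covers over opens of `U`. -/
abbrev B (W : U.Opens) : Type u := Γ(C.R n, C.r n ⁻¹ᵁ W)

/-- Functions on the levels over opens of `U`. -/
abbrev A (_C : Cover 𝓙) (n : ℕ) (W : U.Opens) : Type u := Γ(lvl 𝓙 n, lι 𝓙 n ⁻¹ᵁ W)

/-- The module of functions on a cover. -/
abbrev Bmod : U.Modules := (Scheme.Modules.pushforward (C.r n)).obj (Coh.structureModule (C.R n))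

/-- The structure map to the functions on a level. -/
abbrev qA (W : U.Opens) : Γ(U, W) →+* C.A n W := ((lι 𝓙 n).app W).hom

/-- The structure map to the functions on a cover. -/
abbrev qB (W : U.Opens) : Γ(U, W) →+* C.B n W := ((C.r n).app W).hom

/-- The functions on a level inside those of the cover. -/
abbrev pA (W : U.Opens) : C.A n W →+* C.B n W := ((C.p n).app (lι 𝓙 n ⁻¹ᵁ W)).hom

theorem qB_eq (W : U.Opens) (a : Γ(U, W)) : C.qB n W a = C.pA n W (C.qA n W a) := by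
  show ((C.p n ≫ lι 𝓙 n).app W).hom a = _
  rw [Scheme.Hom.comp_app]
  rfl

theorem t_pre (W : U.Opens) : C.r n ⁻¹ᵁ W ≤ C.t n ⁻¹ᵁ (C.r (n + 1) ⁻¹ᵁ W) := by
  rw [← C.t_r n]; rfl

/-- The transition on functions of the covers. -/
abbrev tB (W : U.Opens) : C.B (n + 1) W →+* C.B n W := ((C.t n).appLE _ _ (C.t_pre n W)).hom

/-- The transition on functions of the levels. -/
abbrev tA (W : U.Opens) : C.A (n + 1) W →+* C.A n W := ((ltr 𝓙 n).appLE _ _ (ltr_pre 𝓙 n W)).hom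

theorem tA_qA (W : U.Opens) (a : Γ(U, W)) : C.tA n W (C.qA (n + 1) W a) = C.qA n W a :=
  appLE_app (ltr 𝓙 n) (lι 𝓙 (n + 1)) (lι 𝓙 n) (ltr_ι 𝓙 n) W _ a

theorem tB_qB (W : U.Opens) (a : Γ(U, W)) : C.tB n W (C.qB (n + 1) W a) = C.qB n W a :=
  appLE_app (C.t n) (C.r (n + 1)) (C.r n) (C.t_r n) W _ a

theorem tB_pA (W : U.Opens) (a : C.A (n + 1) W) : C.tB n W (C.pA (n + 1) W a) = C.pA n W (C.tA n W a) :=
  appLE_app_square (C.t n) (C.p n) (C.p (n + 1)) (ltr 𝓙 n) (C.sq n).w (lι 𝓙 (n + 1) ⁻¹ᵁ W) (lι 𝓙 n ⁻¹ᵁ W)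
    (ltr_pre 𝓙 n W) (C.t_pre n W) a

theorem tA_rf {W W' : U.Opens} (h : W' ≤ W) (a : C.A (n + 1) W) :
    C.tA n W' (rf _ ((lι 𝓙 (n + 1)).preimage_mono h) a) = rf _ ((lι 𝓙 n).preimage_mono h) (C.tA n W a) :=
  appLE_rf (ltr 𝓙 n) _ _ _ _ a

theorem tB_rf {W W' : U.Opens} (h : W' ≤ W) (b : C.B (n + 1) W) :
    C.tB n W' (rf _ ((C.r (n + 1)).preimage_mono h) b) = rf _ ((C.r n).preimage_mono h) (C.tB n W b) :=
  appLE_rf (C.t n) _ _ _ _ b

theorem qA_rf {W W' : U.Opens} (h : W' ≤ W) (a : Γ(U, W)) :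
    C.qA n W' (rO h a) = rf _ ((lι 𝓙 n).preimage_mono h) (C.qA n W a) := app_rf _ h a

theorem qB_rf {W W' : U.Opens} (h : W' ≤ W) (a : Γ(U, W)) :
    C.qB n W' (rO h a) = rf _ ((C.r n).preimage_mono h) (C.qB n W a) := app_rf _ h a

theorem pA_rf {W W' : U.Opens} (h : W' ≤ W) (a : C.A n W) :
    C.pA n W' (rf _ ((lι 𝓙 n).preimage_mono h) a) = rf _ ((C.r n).preimage_mono h) (C.pA n W a) :=
  app_rf (C.p n) ((lι 𝓙 n).preimage_mono h) a

/-- The transition as a morphism of modules. -/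
def tHom : C.Bmod (n + 1) ⟶ C.Bmod n :=
  mkHom (M := C.Bmod (n + 1)) (N := C.Bmod n) (fun W b => C.tB n W b) (fun W b b' => map_add (C.tB n W) b b')
    (fun W a b => (map_mul (C.tB n W) (C.qB (n + 1) W a) b).trans (congrArg (· * _) (C.tB_qB n W a)))
    (fun _ _ h b => C.tB_rf n h b)

theorem tHom_app (W : U.Opens) (b : C.B (n + 1) W) : (C.tHom n).app W b = C.tB n W b := rfl

/-- A basis of the functions on a cover over an open of `U`. -/
def IsFrame {m : ℕ} (W : U.Opens) (c : Fin m → C.B n W) : Prop :=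
  IsBasisOn (pO (C.p n)) (lι 𝓙 n ⁻¹ᵁ W) fun j => (show Γ(pO (C.p n), lι 𝓙 n ⁻¹ᵁ W) from c j)

theorem exists_tau : ∃ τ : pO (C.p n) ⟶ Coh.structureModule (lvl 𝓙 n),
    ∀ (V : (lvl 𝓙 n).Opens), IsAffineOpen V → ∀ (m : ℕ) (c : Fin m → Γ(pO (C.p n), V)),
      IsBasisOn (pO (C.p n)) V c → ∀ z : Γ(C.R n, C.p n ⁻¹ᵁ V),
        letI := ((C.p n).app V).hom.toAlgebra
        (show Γ(lvl 𝓙 n, V) from τ.app V z) = Algebra.trace Γ(lvl 𝓙 n, V) Γ(C.R n, C.p n ⁻¹ᵁ V) z := by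
  let π := C.p n
  let D := RelSpec.QCAlg.directImage π
  let eA : D.toModule ≅ pO π :=
    { hom := mkHom (M := D.toModule) (N := pO π) (fun _ s => s) (fun _ _ _ => rfl) (fun _ _ _ => rfl) (fun _ _ _ _ => rfl)
      inv := mkHom (M := pO π) (N := D.toModule) (fun _ s => s) (fun _ _ _ => rfl) (fun _ _ _ => rfl) (fun _ _ _ _ => rfl)
      hom_inv_id := Groth.L12.FinCov.hom_ext fun _ _ => rfl
      inv_hom_id := Groth.L12.FinCov.hom_ext fun _ _ => rfl }
  have hflf : FlatMod.IsFinLocFree (pO π) :=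
    (Groth.L19.FinLocPush.isFinLocFree_push π ⟨inferInstance, inferInstance, inferInstance⟩).2
  have hA : FlatMod.IsFinLocFree D.toModule := fun x => by
    obtain ⟨V, k, hx, ⟨e⟩⟩ := hflf x
    exact ⟨V, k, hx, ⟨(Scheme.Modules.restrictFunctor V.ι).mapIso eA ≪≫ e⟩⟩
  obtain ⟨τ, hτ⟩ := Groth.L12.FinCov.exists_isTrace hA
  exact ⟨eA.inv ≫ τ, fun V hV m c hc z =>
    Groth.L12.FinCov.isTrace_app hτ hV ⟨m, _, Groth.L12.FinCov.goodB_of_isBasisOn D (b := c) fun V' h => hc V' h⟩ z⟩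

/-- The trace of a cover. -/
def tau : pO (C.p n) ⟶ Coh.structureModule (lvl 𝓙 n) := (C.exists_tau n).choose

/-- The trace, on opens of `U`. -/
def trB (W : U.Opens) (b : C.B n W) : C.A n W := (C.tau n).app (lι 𝓙 n ⁻¹ᵁ W) b

theorem trB_add (W : U.Opens) (b b' : C.B n W) : C.trB n W (b + b') = C.trB n W b + C.trB n W b' :=
  map_add ((C.tau n).app (lι 𝓙 n ⁻¹ᵁ W)).hom _ _

theorem trB_zero (W : U.Opens) : C.trB n W 0 = 0 := map_zero ((C.tau n).app (lι 𝓙 n ⁻¹ᵁ W)).hom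

theorem trB_sub (W : U.Opens) (b b' : C.B n W) : C.trB n W (b - b') = C.trB n W b - C.trB n W b' :=
  map_sub ((C.tau n).app (lι 𝓙 n ⁻¹ᵁ W)).hom _ _

theorem trB_sum (W : U.Opens) {ι : Type*} (s : Finset ι) (f : ι → C.B n W) :
    C.trB n W (∑ i ∈ s, f i) = ∑ i ∈ s, C.trB n W (f i) := map_sum ((C.tau n).app (lι 𝓙 n ⁻¹ᵁ W)).hom _ _

theorem trB_pA (W : U.Opens) (a : C.A n W) (b : C.B n W) : C.trB n W (C.pA n W a * b) = a * C.trB n W b :=
  (C.tau n).app_smul a b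

theorem trB_qB (W : U.Opens) (a : Γ(U, W)) (b : C.B n W) :
    C.trB n W (C.qB n W a * b) = C.qA n W a * C.trB n W b := by
  rw [C.qB_eq, trB_pA]

theorem trB_rf {W W' : U.Opens} (h : W' ≤ W) (b : C.B n W) :
    C.trB n W' (rf _ ((C.r n).preimage_mono h) b) = rf _ ((lι 𝓙 n).preimage_mono h) (C.trB n W b) :=
  Groth.L12.FinCov.app_rM (C.tau n) ((lι 𝓙 n).preimage_mono h) b

/-- The trace as a morphism of modules. -/
def trHom : C.Bmod n ⟶ ClSub.quotMod (𝓙 ^ (n + 1)) :=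
  mkHom (M := C.Bmod n) (N := ClSub.quotMod (𝓙 ^ (n + 1))) (fun W b => C.trB n W b) (fun W b b' => C.trB_add n W b b')
    (fun W a b => C.trB_qB n W a b) (fun _ _ h b => C.trB_rf n h b)

theorem trHom_app (W : U.Opens) (b : C.B n W) : (C.trHom n).app W b = C.trB n W b := rfl

theorem affine_pre (_C : Cover 𝓙) (n : ℕ) {W : U.Opens} (hW : IsAffineOpen W) : IsAffineOpen (lι 𝓙 n ⁻¹ᵁ W) := hW.preimage (lι 𝓙 n)

variable {C n} in
theorem IsFrame.lc_bijective {m : ℕ} {W : U.Opens} {c : Fin m → C.B n W} (hc : C.IsFrame n W c)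
    {W' : U.Opens} (h : W' ≤ W) :
    Function.Bijective fun a : Fin m → C.A n W' => ∑ j, C.pA n W' (a j) * rf _ ((C.r n).preimage_mono h) (c j) :=
  hc (lι 𝓙 n ⁻¹ᵁ W') ((lι 𝓙 n).preimage_mono h)

variable {C n} in
theorem IsFrame.mono {m : ℕ} {W : U.Opens} {c : Fin m → C.B n W} (hc : C.IsFrame n W c)
    {W' : U.Opens} (h : W' ≤ W) : C.IsFrame n W' fun j => rf _ ((C.r n).preimage_mono h) (c j) :=
  Groth.L12.FinCov.IsBasisOn.mono hc ((lι 𝓙 n).preimage_mono h)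

section Frame

variable {m : ℕ} {W : U.Opens} (hW : IsAffineOpen W) {c : Fin m → C.B n W} (hc : C.IsFrame n W c)

/-- The algebra of a cover over an open of `U`. -/
abbrev algB (W : U.Opens) : Algebra (C.A n W) (C.B n W) := (C.pA n W).toAlgebra

/-- The basis of a frame. -/
def IsFrame.basis : letI := C.algB n W; Module.Basis (Fin m) (C.A n W) (C.B n W) :=
  letI := C.algB n W
  Module.Basis.ofEquivFun (LinearEquiv.ofBijective (Fintype.linearCombination (C.A n W) c) (by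
    convert hc.lc_bijective le_rfl using 1
    funext a
    rw [Fintype.linearCombination_apply]
    refine Finset.sum_congr rfl fun j _ => ?_
    rw [Algebra.smul_def, show rf (C.R n) ((C.r n).preimage_mono (le_refl W)) (c j) = c j from
      congr($((C.R n).presheaf.map_id _) (c j))]
    rfl)).symm

theorem IsFrame.basis_apply (j : Fin m) :
    letI := C.algB n W
    hc.basis (C := C) (n := n) j = c j := by
  classical
  letI := C.algB n W
  simp only [IsFrame.basis, Module.Basis.coe_ofEquivFun, LinearEquiv.symm_symm, LinearEquiv.ofBijective_apply,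
    Fintype.linearCombination_apply]
  rw [Finset.sum_eq_single j (fun i _ hi => by rw [Pi.single_eq_of_ne hi]; exact (Algebra.smul_def _ _).trans (by rw [map_zero, zero_mul])) (fun h => (h (Finset.mem_univ j)).elim),
    Pi.single_eq_same]
  exact (Algebra.smul_def _ _).trans (by rw [map_one, one_mul])

include hW hc in
theorem trB_eq_trace (b : C.B n W) :
    letI := C.algB n W
    C.trB n W b = Algebra.trace (C.A n W) (C.B n W) b :=
  (C.exists_tau n).choose_spec (lι 𝓙 n ⁻¹ᵁ W) (C.affine_pre n hW) m _ hc b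

include hW hc in
/-- Perfectness of the trace over a framed affine open. -/
theorem trB_bijective :
    letI := C.algB n W
    Function.Bijective (Algebra.traceForm (C.A n W) (C.B n W)) := by
  letI := C.algB n W
  haveI : Module.Free (C.A n W) (C.B n W) := Module.Free.of_basis (hc.basis)
  haveI : Module.Finite (C.A n W) (C.B n W) := Module.Finite.of_basis (hc.basis)
  haveI : Algebra.Etale (C.A n W) (C.B n W) := by
    have := Etale.etale_appLE (C.p n) (C.affine_pre n hW) ((C.affine_pre n hW).preimage (C.p n)) le_rfl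
    rw [← Scheme.Hom.app_eq_appLE] at this
    exact this
  exact Groth.L29.Trace.trace_bijective

include hW hc in
/-- Functions on a cover are determined by traces against a frame. -/
theorem eq_of_trB_eq {b b' : C.B n W} (h : ∀ j, C.trB n W (b * c j) = C.trB n W (b' * c j)) : b = b' := by
  letI := C.algB n W
  refine (C.trB_bijective n hW hc).1 (hc.basis.ext fun j => ?_)
  rw [IsFrame.basis_apply, Algebra.traceForm_apply, Algebra.traceForm_apply, ← C.trB_eq_trace n hW hc,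
    ← C.trB_eq_trace n hW hc]
  exact h j

include hW hc in
/-- Prescribed traces against a frame. -/
theorem exists_trB_eq (a : Fin m → C.A n W) : ∃ b : C.B n W, ∀ j, C.trB n W (b * c j) = a j := by
  classical
  letI := C.algB n W
  obtain ⟨b, hb⟩ := (C.trB_bijective n hW hc).2 ((hc.basis).constr (C.A n W) a)
  refine ⟨b, fun j => ?_⟩
  rw [C.trB_eq_trace n hW hc, ← Algebra.traceForm_apply, hb, ← IsFrame.basis_apply C n hc j, Module.Basis.constr_basis]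

end Frame

/-- Compatibility of the traces along the transitions, on a framed affine open. -/
theorem tA_trB {m : ℕ} {W : U.Opens} (hW : IsAffineOpen W) {c : Fin m → C.B (n + 1) W}
    (hc : C.IsFrame (n + 1) W c) (hc' : C.IsFrame n W fun j => C.tB n W (c j)) (b : C.B (n + 1) W) :
    C.tA n W (C.trB (n + 1) W b) = C.trB n W (C.tB n W b) := by
  classical
  letI := C.algB (n + 1) W
  letI := C.algB n W
  rw [C.trB_eq_trace (n + 1) hW hc, C.trB_eq_trace n hW hc']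
  refine (Groth.L12.FinCov.trace_map_of_basis (R := C.A (n + 1) W) (S := C.B (n + 1) W) (R' := C.A n W)
    (S' := C.B n W) hc.basis hc'.basis (C.tA n W) (C.tB n W) (fun a => C.tB_pA n W a) (fun j => ?_) b).symm
  rw [IsFrame.basis_apply, IsFrame.basis_apply]

end Cover

end Groth.L13.FEtLeff
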