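import Groth.Agent.L13.FEtLeff.PureIso
import Groth.Agent.L13.Purity.Spread
import Groth.Agent.L13.Purity.Equiv
import Groth.Agent.L20.FlatHartogs
import Groth.Agent.L27.PushO.Depth
import Mathlib.AlgebraicGeometry.Normalization

/-! Extension of finite étale covers over locally Noetherian schemes from purity at the missing points. -/

set_option autoImplicit false
set_option linter.style.haveILetI false
set_option backward.isDefEq.respectTransparency.types false

universe u

open CategoryTheory CategoryTheory.Limits AlgebraicGeometry TopologicalSpace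

namespace Groth.L13.FEtLeff

theorem isIso_desc_of_bijective {X V W : Scheme.{u}} [IsAffine X] (g : V ⟶ X) [QuasiCompact g] [QuasiSeparated g]
    (w : W ⟶ X) [IsFinite w] (i : V ⟶ W) (hg : g = i ≫ w) (hb : Function.Bijective i.appTop) :
    IsIso (g.normalizationDesc i w hg) := by
  let d := g.normalizationDesc i w hg
  haveI : IsAffine W := isAffine_of_isAffineHom w
  haveI : IsAffine g.normalization := isAffine_of_isAffineHom g.fromNormalization
  letI := (g.app ⊤).hom.toAlgebra
  let τ : Γ(g.normalization, ⊤) →+* Γ(V, ⊤) := g.toNormalization.appTop.hom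
  have hτ : ∀ z, τ z = ((g.normalizationObjIso (isAffineOpen_top X)).hom.hom z).1 := fun z => by
    have h := congr($(g.normalizationObjIso_hom_val (isAffineOpen_top X)) z)
    refine Eq.trans ?_ h.symm
    exact congr($((g.toNormalization.appLE_eq_app (U := ⊤)).symm) z)
  have hτi : Function.Injective τ := fun a b h => by
    rw [hτ, hτ] at h
    exact (ConcreteCategory.bijective_of_isIso (g.normalizationObjIso (isAffineOpen_top X)).hom).1 (Subtype.ext h)
  have hdi : ∀ b, τ (d.appTop.hom b) = i.appTop.hom b := fun b => by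
    show (d.appTop ≫ g.toNormalization.appTop).hom b = _
    rw [← Scheme.Hom.comp_appTop, g.toNormalization_normalizationDesc]
  have hbij : Function.Bijective d.appTop.hom :=
    ⟨fun a b h => hb.1 (show i.appTop.hom a = i.appTop.hom b by rw [← hdi, ← hdi, h]), fun z => by
      obtain ⟨b, hb'⟩ := hb.2 (τ z)
      exact ⟨b, hτi ((hdi b).trans hb')⟩⟩
  haveI : IsIso d.appTop := (ConcreteCategory.isIso_iff_bijective _).2 hbij
  exact (HasAffineProperty.iff_of_isAffine (P := MorphismProperty.isomorphisms Scheme)).2 ⟨inferInstance, this⟩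

theorem bijective_appTop_preimage {X Z : Scheme.{u}} [IsLocallyNoetherian X] [IsAffine X] [IsAffine Z]
    {U : X.Opens} (hU : ∀ x : X, x ∉ U → (2 : ℕ∞) ≤ LocCoh.depth (X.presheaf.stalk x) (X.presheaf.stalk x))
    (π : Z ⟶ X) [Flat π] : Function.Bijective (π ⁻¹ᵁ U).ι.appTop := by
  have h := Groth.L20.FlatHartogs.appTop_bijective hU π (isAffineOpen_top X) (isAffineOpen_top Z) le_rfl
  let e : (π ⁻¹ᵁ U).toScheme ≅ ((⊤ : Z.Opens) ⊓ π ⁻¹ᵁ U : Z.Opens).toScheme := Z.isoOfEq (top_inf_eq (π ⁻¹ᵁ U)).symm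
  have he : (π ⁻¹ᵁ U).ι = e.hom ≫ Z.homOfLE (inf_le_left : (⊤ : Z.Opens) ⊓ π ⁻¹ᵁ U ≤ ⊤) ≫ Z.topIso.hom := by
    simp [e]
  rw [he, Scheme.Hom.comp_appTop, Scheme.Hom.comp_appTop]
  exact ((ConcreteCategory.bijective_of_isIso (Scheme.Γ.map e.hom.op)).comp h).comp
    (ConcreteCategory.bijective_of_isIso (Scheme.Γ.map Z.topIso.hom.op))

variable {X : Scheme.{u}}

theorem essSurj_restrict_of_depth_purity [IsLocallyNoetherian X] (U : X.Opens)
    (hd : ∀ x : X, x ∉ U → (2 : ℕ∞) ≤ LocCoh.depth (X.presheaf.stalk x) (X.presheaf.stalk x))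
    (hp : ∀ x : X, x ∉ U → FEt.PurityHolds (X.presheaf.stalk x)) : (FEt.restrict U.ι).EssSurj := by
  refine ⟨fun Y => ?_⟩
  haveI : IsFinite Y.hom := Y.prop.1
  haveI : Etale Y.hom := Y.prop.2
  haveI : QuasiCompact U.ι := inferInstance
  let g := Y.hom ≫ U.ι
  haveI : QuasiCompact g := inferInstance
  haveI : QuasiSeparated g := inferInstance
  have hprop : FEt.prop g.fromNormalization := by
    suffices h : ∀ D : X.affineOpens, FEt.prop (pullback.snd g.fromNormalization D.1.ι) by
      exact ⟨IsZariskiLocalAtTarget.of_openCover (P := @IsFinite) (X.openCoverOfIsOpenCover _ (iSup_affineOpens_eq_top X)) fun D => (h D).1,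
        IsZariskiLocalAtTarget.of_openCover (P := @Etale) (X.openCoverOfIsOpenCover _ (iSup_affineOpens_eq_top X)) fun D => (h D).2⟩
    rintro ⟨D, hD⟩
    haveI : IsAffine D.toScheme := hD
    haveI : IsLocallyNoetherian D.toScheme := inferInstance
    haveI : AlgebraicGeometry.IsNoetherian D.toScheme := {}
    let UD := D.ι ⁻¹ᵁ U
    let e : UD.toScheme ⟶ U.toScheme := IsOpenImmersion.lift U.ι (UD.ι ≫ D.ι) (by
      rintro _ ⟨p, rfl⟩
      rw [Scheme.Opens.range_ι]
      exact p.2)
    have he : e ≫ U.ι = UD.ι ≫ D.ι := IsOpenImmersion.lift_fac _ _ _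
    have hdD : ∀ ξ : D.toScheme, ξ ∉ UD →
        (2 : ℕ∞) ≤ LocCoh.depth (D.toScheme.presheaf.stalk ξ) (D.toScheme.presheaf.stalk ξ) := fun ξ hξ => by
      rw [← Groth.L06.FlatFibre.depth_eq_of_ringEquiv (D.stalkIso ξ).commRingCatIsoToRingEquiv]
      exact hd ξ.1 hξ
    haveI := Groth.L13.Purity.Spread.essSurj_restrict_of_purityHolds UD fun ξ hξ =>
      purityHolds_of_ringEquiv (D.stalkIso ξ).symm.commRingCatIsoToRingEquiv (hp ξ.1 hξ)
    obtain ⟨W, ⟨φ⟩⟩ := Functor.EssSurj.mem_essImage (F := FEt.restrict UD.ι) ((FEt.restrict e).obj Y)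
    let w : W.left ⟶ D.toScheme := W.hom
    haveI : IsFinite w := W.prop.1
    haveI : Etale w := W.prop.2
    haveI : IsAffine W.left := isAffine_of_isAffineHom w
    let ψ : pullback Y.hom e ≅ pullback w UD.ι :=
      ((MorphismProperty.Over.forget _ ⊤ _ ⋙ CategoryTheory.Over.forget _).mapIso φ).symm
    have hψ : ψ.hom ≫ pullback.snd w UD.ι = pullback.snd Y.hom e := MorphismProperty.Over.w φ.inv
    have hsq : IsPullback e UD.ι U.ι D.ι :=
      IsOpenImmersion.isPullback e UD.ι U.ι D.ι he.symm (by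
        rw [Scheme.Opens.opensRange_ι, Scheme.Opens.opensRange_ι])
    have hpb : IsPullback (pullback.fst Y.hom e) (pullback.snd Y.hom e ≫ UD.ι) g D.ι :=
      (IsPullback.of_hasPullback Y.hom e).paste_vert hsq
    let r := pullbackRestrictIsoRestrict w UD
    let i : pullback g D.ι ⟶ W.left := hpb.isoPullback.inv ≫ ψ.hom ≫ r.hom ≫ (w ⁻¹ᵁ UD).ι
    have hgw : pullback.snd g D.ι = i ≫ w := by
      show _ = (hpb.isoPullback.inv ≫ ψ.hom ≫ r.hom ≫ (w ⁻¹ᵁ UD).ι) ≫ w
      simp only [Category.assoc]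
      rw [pullbackRestrictIsoRestrict_hom_ι_assoc, pullback.condition, reassoc_of% hψ]
      exact hpb.isoPullback_inv_snd.symm
    have hb : Function.Bijective i.appTop := by
      show Function.Bijective (hpb.isoPullback.inv ≫ ψ.hom ≫ r.hom ≫ (w ⁻¹ᵁ UD).ι).appTop
      simp only [Scheme.Hom.comp_appTop, CommRingCat.hom_comp, RingHom.coe_comp]
      exact ((ConcreteCategory.bijective_of_isIso (Scheme.Γ.map hpb.isoPullback.inv.op)).comp
        ((ConcreteCategory.bijective_of_isIso (Scheme.Γ.map ψ.hom.op)).comp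
          ((ConcreteCategory.bijective_of_isIso (Scheme.Γ.map r.hom.op)).comp (bijective_appTop_preimage hdD w))))
    haveI := isIso_desc_of_bijective (pullback.snd g D.ι) w i hgw hb
    have h1 : FEt.prop (pullback.snd g D.ι).fromNormalization := by
      rw [← (pullback.snd g D.ι).normalizationDesc_comp i w hgw, MorphismProperty.cancel_left_of_respectsIso FEt.prop]
      exact W.prop
    rw [← g.normalizationPullback_snd D.ι, MorphismProperty.cancel_left_of_respectsIso FEt.prop] at h1
    exact h1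
  let W : FEt.Cat X := MorphismProperty.Over.mk ⊤ g.fromNormalization hprop
  let v : Y.left ⟶ ((FEt.restrict U.ι).obj W).left := pullback.lift g.toNormalization Y.hom
    (Scheme.Hom.toNormalization_fromNormalization _)
  haveI : IsIso v := Groth.L13.Purity.isIso_lift_toNormalization U Y.hom
  refine ⟨W, ⟨(MorphismProperty.Over.isoMk (asIso v) ?_).symm⟩⟩
  exact pullback.lift_snd _ _ _

theorem isEquivalence_restrict_of_depth_purity [IsLocallyNoetherian X] (U : X.Opens)
    (hd : ∀ x : X, x ∉ U → (2 : ℕ∞) ≤ LocCoh.depth (X.presheaf.stalk x) (X.presheaf.stalk x))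
    (hp : ∀ x : X, x ∉ U → FEt.PurityHolds (X.presheaf.stalk x)) : (FEt.restrict U.ι).IsEquivalence := by
  obtain ⟨h1, h2⟩ := Groth.L27.PushO.fullyFaithful_restrict_of_depth U hd
  haveI := h1
  haveI := h2
  haveI := essSurj_restrict_of_depth_purity U hd hp
  exact { }

end Groth.L13.FEtLeff
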