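import Groth.Agent.L29.Formal.FreeLevelsCrit

/-! Compatible families in a system of levels. -/

set_option autoImplicit false
set_option linter.style.haveILetI false
set_option linter.unusedSectionVars false
set_option backward.isDefEq.respectTransparency false
set_option backward.isDefEq.respectTransparency.types false

universe u

open CategoryTheory Opposite
open Groth.L29.FreeLevels

noncomputable section

namespace Groth.L13.FEtLeff.Tower

variable {A : Type u} [CommRing A] [IsNoetherianRing A] {f : A} {X : ℕᵒᵖ ⥤ ModuleCat.{u} A} {W : Type u}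
  [AddCommGroup W] [Module A W]

/-- Compatible families. -/
def Compat (X : ℕᵒᵖ ⥤ ModuleCat.{u} A) (s : ∀ n, X.obj (op n)) : Prop :=
  ∀ n, (X.map (homOfLE (Nat.le_succ n)).op).hom (s (n + 1)) = s n

theorem compat_le {s : ∀ n, X.obj (op n)} (hs : Compat X s) {a b : ℕ} (h : a ≤ b) :
    (X.map (homOfLE h).op).hom (s b) = s a := by
  induction b, h using Nat.le_induction with
  | base => exact Levels.tr_refl a _
  | succ b hb ih => rw [← Levels.tr_tr hb (Nat.le_succ b), hs b, ih]

variable (L : Levels X f W)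

include L in
theorem exists_div_one {s : ∀ n, X.obj (op n)} (hs : Compat X s) (h0 : s 0 = 0) :
    ∃ s' : ∀ n, X.obj (op n), Compat X s' ∧ (∀ m, f • s' m = s m) ∧ ∀ m, L.e m (s' m) = s (m + 1) := by
  choose y hy using fun m => (L.exact_bot m (s (m + 1))).1 (by rw [compat_le hs, h0])
  refine ⟨y, fun m => ?_, fun m => ?_, hy⟩
  · refine L.e_injective m ?_
    rw [← L.tr_comm (Nat.le_succ m), hy, hy, hs]
  · rw [← L.e_tr m (y m), hy, hs]

include L in
/-- A compatible family vanishing at level `n` is divisible by `f^(n+1)`. -/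
theorem exists_div (n : ℕ) : ∀ {s : ∀ n, X.obj (op n)}, Compat X s → s n = 0 →
    ∃ s' : ∀ n, X.obj (op n), Compat X s' ∧ ∀ m, f ^ (n + 1) • s' m = s m := by
  induction n with
  | zero =>
    intro s hs h0
    obtain ⟨s', h1, h2, -⟩ := exists_div_one L hs h0
    exact ⟨s', h1, fun m => by rw [zero_add, pow_one, h2]⟩
  | succ n ih =>
    intro s hs h0
    obtain ⟨y, hy, hf, he⟩ := exists_div_one L hs (by rw [← compat_le hs (Nat.zero_le (n + 1)), h0, map_zero])
    obtain ⟨y', hy', hf'⟩ := ih hy (L.e_injective n (by rw [he, h0, map_zero]))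
    exact ⟨y', hy', fun m => by rw [pow_succ', mul_smul, hf', hf]⟩

include L in
/-- One step of lifting images of far levels. -/
theorem exists_step {c : ℕ} (hst : ∀ n, c ≤ n → ∀ y, ∃ z : X.obj (op c), L.obs c z = L.obs n y) (n : ℕ)
    {m₀ : ℕ} (hm₀ : n + (c + (n + 1)) ≤ m₀) (x : X.obj (op m₀)) (m : ℕ) (hm : m₀ ≤ m) :
    ∃ y : X.obj (op m), (X.map (homOfLE (show n ≤ m by omega)).op).hom y =
      (X.map (homOfLE (show n ≤ m₀ by omega)).op).hom x := by
  induction m, hm using Nat.le_induction with
  | base => exact ⟨x, rfl⟩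
  | succ m hm ih =>
    obtain ⟨y, hy⟩ := ih
    obtain ⟨z, hz⟩ := hst m (by omega) y
    obtain ⟨d, rfl⟩ := Nat.exists_eq_add_of_le (show c ≤ m by omega)
    obtain ⟨w, hw⟩ := L.lift (c + d) (y - L.iter c d z) (by rw [map_sub, L.obs_iter, hz, sub_self])
    refine ⟨w, ?_⟩
    rw [← Levels.tr_tr (show n ≤ c + d by omega) (Nat.le_succ (c + d)), hw, map_sub, hy,
      L.tr_iter c d n (by omega) _ z, sub_zero]

include L in
/-- Images of far levels lift to compatible families. -/
theorem exists_lift {c : ℕ} (hst : ∀ n, c ≤ n → ∀ y, ∃ z : X.obj (op c), L.obs c z = L.obs n y) (n : ℕ)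
    (x : X.obj (op (n + (c + (n + 1))))) :
    ∃ s : ∀ n, X.obj (op n), Compat X s ∧
      s n = (X.map (homOfLE (Nat.le_add_right n (c + (n + 1)))).op).hom x := by
  let N : ℕ → ℕ := fun k => (n + k) + (c + (n + k + 1))
  have step : ∀ k (z : X.obj (op (N k))), ∃ z' : X.obj (op (N (k + 1))),
      (X.map (homOfLE (show n + k ≤ N (k + 1) by dsimp only [N]; omega)).op).hom z' =
        (X.map (homOfLE (show n + k ≤ N k by dsimp only [N]; omega)).op).hom z :=
    fun k z => exists_step L hst (n + k) le_rfl z (N (k + 1)) (by dsimp only [N]; omega)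
  choose F hF using step
  let z : ∀ k, X.obj (op (N k)) := fun k => Nat.rec (motive := fun k => X.obj (op (N k))) x F k
  have hz : ∀ k, (X.map (homOfLE (show n + k ≤ N (k + 1) by dsimp only [N]; omega)).op).hom (z (k + 1)) =
      (X.map (homOfLE (show n + k ≤ N k by dsimp only [N]; omega)).op).hom (z k) := fun k => hF k (z k)
  have hdown : ∀ k a (ha : a ≤ n + k), (X.map (homOfLE (show a ≤ N (k + 1) by dsimp only [N]; omega)).op).hom (z (k + 1)) =
      (X.map (homOfLE (show a ≤ N k by dsimp only [N]; omega)).op).hom (z k) := fun k a ha => by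
    rw [← Levels.tr_tr ha (show n + k ≤ N (k + 1) by dsimp only [N]; omega), hz k, Levels.tr_tr]
  refine ⟨fun m => (X.map (homOfLE (show m ≤ N m by dsimp only [N]; omega)).op).hom (z m), fun m => ?_, ?_⟩
  · rw [Levels.tr_tr]
    exact hdown m m (by omega)
  · have hall : ∀ k, (X.map (homOfLE (show n ≤ N k by dsimp only [N]; omega)).op).hom (z k) =
        (X.map (homOfLE (show n ≤ N 0 by dsimp only [N]; omega)).op).hom x := fun k => by
      induction k with
      | zero => rfl
      | succ k ih => rw [hdown k n (by omega), ih]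
    exact hall n

end Groth.L13.FEtLeff.Tower
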