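import Groth.Agent.L13.FEtLeff.Make
import Groth.Agent.L13.FEtLeff.Tower
import Groth.Agent.L18.ModSysAlgz
import Groth.Agent.L27.Submersive.Complete

/-! The algebra of compatible functions on a formal finite étale cover of an open of an affine scheme. -/

set_option autoImplicit false
set_option linter.style.haveILetI false
set_option linter.unusedSectionVars false
set_option backward.isDefEq.respectTransparency false
set_option backward.isDefEq.respectTransparency.types false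

universe u

open CategoryTheory CategoryTheory.Limits AlgebraicGeometry TopologicalSpace Opposite
open Groth.L06.FEtLef (pO)
open Groth.L18.Frame (rs rs_self pull)

noncomputable section

namespace Groth.L13.FEtLeff

namespace Sq

variable {P P' Q Q' X : Scheme.{u}} (t : P ⟶ P') (p : P ⟶ Q) (p' : P' ⟶ Q') (s : Q ⟶ Q') (w : t ≫ p' = p ≫ s)

theorem trans_app {ι₀ : Q ⟶ X} {ι₁ : Q' ⟶ X} (hι : s ≫ ι₁ = ι₀) (V : X.Opens) (y : Γ(P', p' ⁻¹ᵁ (ι₁ ⁻¹ᵁ V)))
    (e' : p ⁻¹ᵁ (ι₀ ⁻¹ᵁ V) ≤ t ⁻¹ᵁ (p' ⁻¹ᵁ (ι₁ ⁻¹ᵁ V))) :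
    (show Γ(P, p ⁻¹ᵁ (ι₀ ⁻¹ᵁ V)) from
      ((Scheme.Modules.pushforward ι₁).map ((Scheme.Modules.pullbackPushforwardAdjunction s).homEquiv _ _ (mu t p p' s w)) ≫
        (Scheme.Modules.pushforwardComp s ι₁).hom.app (pO p) ≫
          (Scheme.Modules.pushforwardCongr hι).hom.app (pO p)).app V y) = t.appLE _ _ e' y := by
  subst hι
  rw [mu, Equiv.apply_symm_apply]
  show ((pO p).presheaf.map (eqToHom rfl).op) ((etaHom t p p' s w).app (ι₁ ⁻¹ᵁ V) y) = _
  rw [eqToHom_refl, op_id, CategoryTheory.Functor.map_id]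
  rfl

end Sq

variable {A : Type u} [CommRing A] {U : (Spec (CommRingCat.of A)).Opens} {𝓙 : (U : Scheme.{u}).IdealSheafData}
  (C : Cover 𝓙)

namespace Gamma

/-- The structure map to the functions on the open. -/
abbrev th (U : (Spec (CommRingCat.of A)).Opens) : A →+* Γ((U : Scheme.{u}), ⊤) :=
  (U.ι.appTop).hom.comp (Scheme.ΓSpecIso (CommRingCat.of A)).inv.hom

/-- The functions on a cover of a level. -/
abbrev BT (n : ℕ) : Type u := C.B n ⊤

instance algBT (n : ℕ) : Algebra A (BT C n) := ((C.qB n ⊤).comp (th U)).toAlgebra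

theorem algebraMap_BT (n : ℕ) (a : A) : algebraMap A (BT C n) a = C.qB n ⊤ (th U a) := rfl

theorem tB_algebraMap (n : ℕ) (a : A) : C.tB n ⊤ (algebraMap A (BT C (n + 1)) a) = algebraMap A (BT C n) a :=
  C.tB_qB n ⊤ _

/-- Compatible functions. -/
def lim : Subalgebra A (∀ n, BT C n) where
  carrier := {s | ∀ n, C.tB n ⊤ (s (n + 1)) = s n}
  mul_mem' {a b} ha hb n := (map_mul (C.tB n ⊤) (a (n + 1)) (b (n + 1))).trans (by rw [ha n, hb n]; rfl)
  add_mem' {a b} ha hb n := (map_add (C.tB n ⊤) (a (n + 1)) (b (n + 1))).trans (by rw [ha n, hb n]; rfl)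
  algebraMap_mem' a n := tB_algebraMap C n a

/-- The system of direct images. -/
abbrev gSysC : ℕᵒᵖ ⥤ (U : Scheme.{u}).Modules :=
  Groth.L17.FSheaf.gSys (FSch.completionAlong (U : Scheme.{u}) 𝓙) (FSch.completionToX (U : Scheme.{u}) 𝓙)
    (FSch.completionToX_comm (U : Scheme.{u}) 𝓙) C.modSys

/-- The system of modules of functions. -/
abbrev XS : ℕᵒᵖ ⥤ ModuleCat.{u} A := _root_.Algz.sectMod A U (gSysC C)

/-- The sections of the system are the functions on the covers. -/
def toX (n : ℕ) : BT C n ≃+ ((XS C).obj (op n) : Type u) := AddEquiv.refl _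

theorem toX_smul (n : ℕ) (a : A) (y : BT C n) : toX C n (algebraMap A (BT C n) a * y) = a • toX C n y := rfl

theorem toX_tB (n : ℕ) (y : BT C (n + 1)) :
    toX C n (C.tB n ⊤ y) = ((XS C).map (homOfLE (Nat.le_succ n)).op).hom (toX C (n + 1) y) := by
  show _ = ((Scheme.Modules.pushforward U.ι ⋙ moduleSpecΓFunctor (R := CommRingCat.of A)).map
    ((gSysC C).map (homOfLE (Nat.le_add_right n 1)).op)).hom _
  rw [Functor.ofOpSequence_map_homOfLE_succ]
  exact (Sq.trans_app (C.t n) (C.p n) (C.p (n + 1)) (ltr 𝓙 n) (C.sq n).w (ltr_ι 𝓙 n) ⊤ y (C.t_pre n ⊤)).symm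

theorem compat_iff (s : ∀ n, BT C n) :
    s ∈ lim C ↔ Tower.Compat (XS C) fun n => toX C n (s n) :=
  ⟨fun h n => (toX_tB C n (s (n + 1))).symm.trans (congrArg (toX C n) (h n)),
    fun h n => (toX C n).injective ((toX_tB C n (s (n + 1))).trans (h n))⟩

variable [IsNoetherianRing A] (f : A)

theorem isCohFormal (h𝓙 : 𝓙 = (FSch.idealSpec A (Ideal.span {f})).comap U.ι) :
    _root_.Formal.IsCohFormal (Ideal.span {f}) (gSysC C) := by
  haveI : AlgebraicGeometry.IsNoetherian (Spec (CommRingCat.of A)) := inferInstance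
  haveI : CompactSpace ↥(U : Scheme.{u}) :=
    isCompact_iff_compactSpace.1 (NoetherianSpace.isCompact (α := PrimeSpectrum A) _)
  haveI : AlgebraicGeometry.IsNoetherian (U : Scheme.{u}) := { }
  exact Groth.L17.FSheaf.isCohFormal_gSys (FSch.completionToX_comm (U : Scheme.{u}) 𝓙) C.modSys
    (Groth.L17.FSheaf.isClosedImmersion_completionToX 𝓙) (Groth.L17.FSheaf.cutOver_completion _ U.ι 𝓙 h𝓙)
    (fun n => Groth.L16.NegPow.isCoh_of_isFinLocFree (C.levelwiseFinLocFree_modSys n))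

theorem isFinLocFreeMod (h𝓙 : 𝓙 = (FSch.idealSpec A (Ideal.span {f})).comap U.ι) (n : ℕ) :
    Formal2.IsFinLocFreeMod (Ideal.span {f}) (n + 1) ((gSysC C).obj (op n)) :=
  Groth.L18.ModSysAlgz.isFinLocFreeMod_gObj (Ideal.span {f}) U 𝓙 h𝓙 C.modSys C.levelwiseFinLocFree_modSys n

variable {f} (h𝓙 : 𝓙 = (FSch.idealSpec A (Ideal.span {f})).comap U.ι)

include h𝓙 in
theorem pow_mul_eq_zero (n : ℕ) (y : BT C n) : algebraMap A (BT C n) (f ^ (n + 1)) * y = 0 := by
  have h := (isCohFormal C f h𝓙).2.1 n (f ^ (n + 1)) (Ideal.pow_mem_pow (Ideal.mem_span_singleton_self f) _)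
  refine (toX C n).injective ((toX_smul C n _ y).trans ?_)
  rw [map_zero, ← Groth.L29.FreeLevels.Sec_smulMod U ((gSysC C).obj (op n)) (f ^ (n + 1)) (toX C n y), h]
  rfl

/-- Stability of the obstructions. -/
def Stable (hnzd : f ∈ nonZeroDivisors A) : Prop :=
  ∃ c : ℕ, ∀ n, c ≤ n → ∀ y, ∃ z,
    (Groth.L29.FreeLevels.levels (isCohFormal C f h𝓙) (isFinLocFreeMod C f h𝓙) hnzd).obs c z =
      (Groth.L29.FreeLevels.levels (isCohFormal C f h𝓙) (isFinLocFreeMod C f h𝓙) hnzd).obs n y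

/-- Composite transition. -/
def tTo {n m : ℕ} (h : n ≤ m) (y : BT C m) : BT C n :=
  (toX C n).symm (((XS C).map (homOfLE h).op).hom (toX C m y))

variable (hnzd : f ∈ nonZeroDivisors A)

include h𝓙 hnzd in
theorem lim_div (s : lim C) (n : ℕ) (h0 : s.1 n = 0) : ∃ s' : lim C, f ^ (n + 1) • s' = s := by
  obtain ⟨y, hy, hf⟩ := Tower.exists_div (Groth.L29.FreeLevels.levels (isCohFormal C f h𝓙) (isFinLocFreeMod C f h𝓙) hnzd)
    n ((compat_iff C s.1).1 s.2) (by rw [h0, map_zero])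
  have hmem : (fun m => (toX C m).symm (y m)) ∈ lim C := (compat_iff C _).2 hy
  refine ⟨⟨_, hmem⟩, Subtype.ext (funext fun m => (toX C m).injective ?_)⟩
  refine Eq.trans ?_ (hf m)
  exact (congrArg (toX C m) (Algebra.smul_def (f ^ (n + 1)) ((toX C m).symm (y m)))).trans (toX_smul C m _ _)

include h𝓙 hnzd in
theorem lim_lift (hst : Stable C h𝓙 hnzd) :
    ∃ c : ℕ, ∀ (n : ℕ) (y : BT C (n + (c + (n + 1)))), ∃ s : lim C,
      s.1 n = tTo C (Nat.le_add_right n (c + (n + 1))) y := by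
  obtain ⟨c, hc⟩ := hst
  refine ⟨c, fun n y => ?_⟩
  obtain ⟨s, hs, hn⟩ := Tower.exists_lift
    (Groth.L29.FreeLevels.levels (isCohFormal C f h𝓙) (isFinLocFreeMod C f h𝓙) hnzd) hc n (toX C _ y)
  have hmem : (fun m => (toX C m).symm (s m)) ∈ lim C := (compat_iff C _).2 hs
  exact ⟨⟨_, hmem⟩, (congrArg (toX C n).symm hn)⟩

include h𝓙 hnzd in
/-- The compatible functions form a finite module once their values at the bottom level lie in a finite one. -/
theorem lim_finite_of_image [IsAdicComplete (Ideal.span {f}) A]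
    (P : Submodule A ((XS C).obj (op 0) : Type u)) [Module.Finite A P] (hP : ∀ s : lim C, toX C 0 (s.1 0) ∈ P) :
    Module.Finite A (lim C) := by
  let I := Ideal.span {f}
  haveI : IsHausdorff I (lim C) := ⟨fun s hs => by
    refine Subtype.ext (funext fun m => ?_)
    have h := hs (m + 1)
    rw [SModEq.zero, Ideal.span_singleton_pow, Submodule.ideal_span_singleton_smul,
      Submodule.mem_smul_pointwise_iff_exists] at h
    obtain ⟨s', -, rfl⟩ := h
    show f ^ (m + 1) • s'.1 m = 0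
    rw [Algebra.smul_def]
    exact pow_mul_eq_zero C h𝓙 m (s'.1 m)⟩
  let π₀ : lim C →ₗ[A] ((XS C).obj (op 0) : Type u) :=
    { toFun := fun s => toX C 0 (s.1 0)
      map_add' := fun s s' => map_add (toX C 0) _ _
      map_smul' := fun a s => (congrArg (toX C 0) (Algebra.smul_def a (s.1 0))).trans (toX_smul C 0 a _) }
  let π : lim C →ₗ[A] P := π₀.codRestrict P hP
  have hker : LinearMap.ker π ≤ I • (⊤ : Submodule A (lim C)) := fun s hs => by
    obtain ⟨s', rfl⟩ := lim_div C h𝓙 hnzd s 0 ((toX C 0).injective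
      ((congrArg Subtype.val (LinearMap.mem_ker.1 hs) : π₀ s = 0).trans (map_zero _).symm))
    rw [zero_add, pow_one]
    exact Submodule.smul_mem_smul (Ideal.mem_span_singleton_self f) trivial
  haveI : IsNoetherian A P := isNoetherian_of_isNoetherianRing_of_finite A _
  haveI : Module.Finite A (lim C ⧸ LinearMap.ker π) := Module.Finite.equiv π.quotKerEquivRange.symm
  haveI : Module.Finite A (lim C ⧸ (I • ⊤ : Submodule A (lim C))) :=
    Module.Finite.of_surjective (Submodule.factor hker) (Submodule.factor_surjective hker)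
  exact Groth.L27.Submersive.finite_of_quotient I (lim C)

include h𝓙 hnzd in
theorem lim_finite [IsAdicComplete (Ideal.span {f}) A]
    (h0 : Module.Finite A ((XS C).obj (op 0))) : Module.Finite A (lim C) := by
  haveI : IsNoetherian A ((XS C).obj (op 0)) := isNoetherian_of_isNoetherianRing_of_finite A _
  exact lim_finite_of_image C h𝓙 hnzd ⊤ fun _ => trivial

end Gamma

end Groth.L13.FEtLeff
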