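import Groth.Agent.L27.FEtProper.EtaleTower
import Mathlib.RingTheory.RingHom.Etale
import Mathlib.RingTheory.Etale.Locus
import Mathlib.RingTheory.Localization.BaseChange
import Mathlib.RingTheory.Localization.Away.Basic

/-! Étaleness of a finite algebra near a hypersurface from its localized reductions. -/

set_option autoImplicit false
set_option linter.style.haveILetI false
set_option backward.isDefEq.respectTransparency.types false

universe u

open TensorProduct

namespace Groth.L13.FEtLeff.GammaAlg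

variable {A : Type u} [CommRing A] [IsNoetherianRing A] {S : Type u} [CommRing S] [Algebra A S] [Module.Finite A S]
  {R : Type u} [CommRing R] [Algebra A R] (g : A) [IsLocalization.Away g R] (f : A)

omit [IsNoetherianRing A] [Module.Finite A S] in
/-- Elements of a localized tensor product have denominators a power of `g`. -/
theorem exists_denom (t : R ⊗[A] S) : ∃ (k : ℕ) (s : S), (algebraMap A R g) ^ k • t = 1 ⊗ₜ[A] s := by
  induction t using TensorProduct.induction_on with
  | zero => exact ⟨0, 0, by simp⟩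
  | tmul r s =>
    obtain ⟨k, a, ha⟩ := IsLocalization.Away.surj g r
    refine ⟨k, a • s, ?_⟩
    rw [TensorProduct.smul_tmul', smul_eq_mul, mul_comm, ha, Algebra.algebraMap_eq_smul_one,
      TensorProduct.smul_tmul]
  | add x y hx hy =>
    obtain ⟨i, a, hi⟩ := hx
    obtain ⟨j, b, hj⟩ := hy
    refine ⟨i + j, g ^ j • a + g ^ i • b, ?_⟩
    rw [smul_add, TensorProduct.tmul_add]
    congr 1
    · rw [pow_add, mul_comm, mul_smul, hi, ← map_pow, algebraMap_smul, TensorProduct.smul_tmul', ← TensorProduct.smul_tmul]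
    · rw [pow_add, mul_smul, hj, ← map_pow, algebraMap_smul, TensorProduct.smul_tmul', ← TensorProduct.smul_tmul]

/-- A localized reduction is étale. -/
theorem etale_quot {Rn B : Type u} [CommRing Rn] [CommRing B] (n : ℕ) (γ : R →+* Rn) (hγ : Function.Surjective γ)
    (hγk : RingHom.ker γ = (Ideal.span {algebraMap A R f}) ^ (n + 1)) (η : Rn →+* B) (hη : η.Etale)
    (ρ : S →+* B) (hρ : ∀ a, ρ (algebraMap A S a) = η (γ (algebraMap A R a)))
    (hsurj : ∀ b, ∃ (k : ℕ) (s : S), η (γ (algebraMap A R g)) ^ k * b = ρ s)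
    (hker : ∀ s, ρ s = 0 → ∃ (k : ℕ) (s' : S), g ^ k • s = f ^ (n + 1) • s') :
    Algebra.Etale (R ⧸ (Ideal.span {algebraMap A R f}) ^ (n + 1))
      ((R ⧸ (Ideal.span {algebraMap A R f}) ^ (n + 1)) ⊗[R] (R ⊗[A] S)) := by
  let J : Ideal R := (Ideal.span {algebraMap A R f}) ^ (n + 1)
  let Q := R ⧸ J
  let β : R →+* B := η.comp γ
  letI : Algebra R B := β.toAlgebra
  letI : Algebra A B := (β.comp (algebraMap A R)).toAlgebra
  haveI : IsScalarTower A R B := IsScalarTower.of_algebraMap_eq fun _ => rfl
  let ρa : S →ₐ[A] B := { ρ with commutes' := hρ }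
  let ψ : R ⊗[A] S →ₐ[R] B := Algebra.TensorProduct.lift (Algebra.ofId R B) ρa fun _ _ => mul_comm _ _
  let γb : Q →+* Rn := Ideal.Quotient.lift J γ fun x hx => by rw [← RingHom.mem_ker, hγk]; exact hx
  have hγb : Function.Bijective γb := by
    refine ⟨(RingHom.injective_iff_ker_eq_bot _).2 ?_, fun y => ?_⟩
    · refine eq_bot_iff.2 fun x hx => ?_
      obtain ⟨x, rfl⟩ := Ideal.Quotient.mk_surjective x
      rw [Ideal.mem_bot, Ideal.Quotient.eq_zero_iff_mem]
      exact hγk.le hx
    · obtain ⟨x, rfl⟩ := hγ y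
      exact ⟨Ideal.Quotient.mk J x, rfl⟩
  letI : Algebra Q B := (η.comp γb).toAlgebra
  haveI : IsScalarTower R Q B := IsScalarTower.of_algebraMap_eq fun _ => rfl
  haveI : Algebra.Etale Q B := by
    rw [← RingHom.etale_algebraMap]
    exact RingHom.Etale.respectsIso.2 η (RingEquiv.ofBijective γb hγb) hη
  let Φ : Q ⊗[R] (R ⊗[A] S) →ₐ[Q] B := Algebra.TensorProduct.lift (Algebra.ofId Q B) ψ fun _ _ => mul_comm _ _
  have hone : ∀ z : Q ⊗[R] (R ⊗[A] S), ∃ t, z = 1 ⊗ₜ[R] t := fun z => by
    induction z using TensorProduct.induction_on with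
    | zero => exact ⟨0, by simp⟩
    | tmul q t =>
      obtain ⟨r, rfl⟩ := Ideal.Quotient.mk_surjective q
      refine ⟨r • t, ?_⟩
      rw [← TensorProduct.smul_tmul]
      congr 1
      exact (Algebra.smul_def r (1 : Q)).trans (mul_one _) |>.symm
    | add x y hx hy =>
      obtain ⟨a, rfl⟩ := hx
      obtain ⟨b, rfl⟩ := hy
      exact ⟨a + b, (TensorProduct.tmul_add _ _ _).symm⟩
  have hΦ : ∀ t, Φ (1 ⊗ₜ[R] t) = ψ t := fun t => by simp [Φ]
  have hψ1 : ∀ s, ψ (1 ⊗ₜ[A] s) = ρ s := fun s => by simp [ψ, ρa]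
  have hu : IsUnit (algebraMap A R g) := IsLocalization.Away.algebraMap_isUnit g
  have hbij : Function.Bijective Φ := by
    refine ⟨(injective_iff_map_eq_zero Φ).2 fun z hz => ?_, fun b => ?_⟩
    · obtain ⟨t, rfl⟩ := hone z
      rw [hΦ] at hz
      obtain ⟨k, s, hs⟩ := exists_denom g t
      have h1 : ρ s = 0 := by rw [← hψ1, ← hs, map_smul, hz, smul_zero]
      obtain ⟨j, s', hj⟩ := hker s h1
      have h2 : (algebraMap A R g ^ (j + k)) • t = algebraMap A R f ^ (n + 1) • ((1 : R) ⊗ₜ[A] s') := by
        rw [pow_add, mul_smul, hs, ← map_pow, ← map_pow, algebraMap_smul, algebraMap_smul, ← TensorProduct.tmul_smul,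
          ← TensorProduct.tmul_smul, hj]
      obtain ⟨v, hv⟩ := hu.pow (j + k)
      have h3 : t = ((v⁻¹ : Rˣ) : R) • (algebraMap A R f ^ (n + 1) • ((1 : R) ⊗ₜ[A] s')) := by
        rw [← h2, ← hv, smul_smul, Units.inv_mul, one_smul]
      rw [h3, smul_smul, ← TensorProduct.smul_tmul]
      have h4 : (((v⁻¹ : Rˣ) : R) * algebraMap A R f ^ (n + 1)) • (1 : Q) = 0 := by
        rw [Algebra.smul_def, mul_one]
        exact Ideal.Quotient.eq_zero_iff_mem.2 (J.mul_mem_left _ (Ideal.pow_mem_pow (Ideal.mem_span_singleton_self _) _))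
      rw [h4, TensorProduct.zero_tmul]
    · obtain ⟨k, s, hs⟩ := hsurj b
      obtain ⟨v, hv⟩ := hu.pow k
      refine ⟨1 ⊗ₜ[R] (((v⁻¹ : Rˣ) : R) • ((1 : R) ⊗ₜ[A] s)), ?_⟩
      rw [hΦ, map_smul, hψ1, ← hs, ← map_pow, ← map_pow, ← map_pow, Algebra.smul_def, ← mul_assoc]
      show β _ * β _ * b = b
      rw [← map_mul, map_pow, ← hv, Units.inv_mul, map_one, one_mul]
  exact Algebra.Etale.of_equiv (AlgEquiv.ofBijective Φ hbij).symm

/-- Étaleness near the hypersurface. -/
theorem isEtaleAt_of_quot
    (h : ∀ n : ℕ, Algebra.Etale (R ⧸ (Ideal.span {algebraMap A R f}) ^ (n + 1))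
      ((R ⧸ (Ideal.span {algebraMap A R f}) ^ (n + 1)) ⊗[R] (R ⊗[A] S)))
    (q : Ideal S) [q.IsPrime] (hf : algebraMap A S f ∈ q) (hg : algebraMap A S g ∉ q) : Algebra.IsEtaleAt A q := by
  haveI : IsNoetherianRing R := IsLocalization.isNoetherianRing (Submonoid.powers g) R inferInstance
  let T := R ⊗[A] S
  letI : Algebra S T := Algebra.TensorProduct.rightAlgebra
  haveI : IsLocalization (Algebra.algebraMapSubmonoid S (Submonoid.powers g)) T :=
    IsLocalization.tensorRight (A := R) (S := S) (M := Submonoid.powers g)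
  haveI : IsLocalization.Away (algebraMap A S g) T := by
    have h' : Algebra.algebraMapSubmonoid S (Submonoid.powers g) = Submonoid.powers (algebraMap A S g) :=
      Submonoid.map_powers (algebraMap A S) g
    show IsLocalization (Submonoid.powers (algebraMap A S g)) T
    rw [← h']
    assumption
  have hdisj : Disjoint (Algebra.algebraMapSubmonoid S (Submonoid.powers g) : Set S) (q : Set S) :=
    Set.disjoint_left.2 (by
      rintro _ ⟨_, ⟨k, rfl⟩, rfl⟩ hx
      rw [map_pow] at hx
      exact hg (Ideal.IsPrime.mem_of_pow_mem inferInstance k hx))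
  let qT := q.map (algebraMap S T)
  haveI : qT.IsPrime := IsLocalization.isPrime_of_isPrime_disjoint _ T q ‹_› hdisj
  have hq : qT.comap (algebraMap S T) = q := IsLocalization.under_map_of_isPrime_disjoint _ T ‹_› hdisj
  have hJq : (Ideal.span {algebraMap A R f}).map (algebraMap R T) ≤ qT := by
    rw [Ideal.map_span, Set.image_singleton, Ideal.span_le, Set.singleton_subset_iff]
    rw [← IsScalarTower.algebraMap_apply A R T]
    refine SetLike.mem_coe.2 ?_
    have : algebraMap A T f = algebraMap S T (algebraMap A S f) :=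
      Algebra.TensorProduct.algebraMap_apply' f
    rw [this]
    exact Ideal.mem_map_of_mem _ hf
  obtain ⟨c, hc, hcet⟩ := Groth.L27.FEtProper.exists_etale_away (R := R) T h qT hJq
  obtain ⟨k, s, hs⟩ := exists_denom g c
  have hu : IsUnit (algebraMap R T (algebraMap A R g ^ k)) :=
    ((IsLocalization.Away.algebraMap_isUnit g).pow k).map _
  have hcs : algebraMap S T s = algebraMap R T (algebraMap A R g ^ k) * c := by
    rw [← Algebra.smul_def, hs]
    rfl
  have hsq : s ∉ q := fun hmem => by
    have h1 : algebraMap S T s ∈ qT := Ideal.mem_map_of_mem _ hmem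
    rw [hcs] at h1
    rcases Ideal.IsPrime.mem_or_mem inferInstance h1 with h1 | h1
    · exact Ideal.IsPrime.ne_top inferInstance (Ideal.eq_top_of_isUnit_mem _ h1 hu)
    · exact hc h1
  haveI : IsLocalization.Away (algebraMap S T s) (Localization.Away c) :=
    IsLocalization.Away.of_associated (show Associated c (algebraMap S T s) from
      ⟨hu.unit, by rw [IsUnit.unit_spec, hcs, mul_comm]⟩)
  haveI : IsLocalization.Away (algebraMap A S g * s) (Localization.Away c) :=
    IsLocalization.Away.mul' T (Localization.Away c) (algebraMap A S g) s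
  haveI : Algebra.Etale A R := Algebra.Etale.of_isLocalizationAway g
  haveI : Algebra.Etale A (Localization.Away c) := Algebra.Etale.comp A R (Localization.Away c)
  have hsub := (Algebra.basicOpen_subset_etaleLocus_iff (R := A) (f := algebraMap A S g * s)).2 (by
    haveI : Algebra.FormallyEtale A (Localization.Away c) := inferInstance
    exact Algebra.FormallyEtale.of_equiv
      ((IsLocalization.algEquiv (Submonoid.powers (algebraMap A S g * s)) (Localization.Away c)
        (Localization.Away (algebraMap A S g * s))).restrictScalars A))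
  exact hsub (show (⟨q, inferInstance⟩ : PrimeSpectrum S) ∈ _ from fun hmem => by
    rcases Ideal.IsPrime.mem_or_mem (I := q) inferInstance hmem with h1 | h1
    exacts [hg h1, hsq h1])

end Groth.L13.FEtLeff.GammaAlg
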