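import Groth.Agent.L13.FEtLeff.GammaLoc
import Groth.Agent.L13.FEtLeff.Descend

/-! Covers of a hypersurface trace extend to neighbourhoods by the algebra of compatible functions. -/

set_option autoImplicit false
set_option linter.style.haveILetI false
set_option linter.unusedSectionVars false
set_option backward.isDefEq.respectTransparency false
set_option backward.isDefEq.respectTransparency.types false

universe u

open CategoryTheory CategoryTheory.Limits AlgebraicGeometry TopologicalSpace Opposite TensorProduct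
open Groth.L16.PureQuot (isEquivalence_of_isIso)

noncomputable section

namespace Groth.L13.FEtLeff

theorem eq_toSpecΓ_SpecMap {X : Scheme.{u}} {R : CommRingCat.{u}} (h : X ⟶ Spec R) :
    h = X.toSpecΓ ≫ Spec.map ((Scheme.ΓSpecIso R).inv ≫ h.appTop) := by
  rw [Spec.map_comp, ← Category.assoc, ← Scheme.toSpecΓ_naturality, Category.assoc,
    toSpecΓ_SpecMap_ΓSpecIso_inv, Category.comp_id]

theorem fromSpec_comp {X : Scheme.{u}} {R : CommRingCat.{u}} (h : X ⟶ Spec R) {W : X.Opens} (hW : IsAffineOpen W) :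
    hW.fromSpec ≫ h = Spec.map ((Scheme.ΓSpecIso R).inv ≫ h.appTop ≫ X.presheaf.map (homOfLE le_top).op) := by
  conv_lhs => rw [eq_toSpecΓ_SpecMap h]
  rw [← Category.assoc, hW.fromSpec_toSpecΓ, ← Spec.map_comp, Category.assoc]

/-- A finite algebra étale at all points over an open gives a cover of the open. -/
theorem prop_restrict {A S : Type u} [CommRing A] [IsNoetherianRing A] [CommRing S] [Algebra A S] [Module.Finite A S]
    (V : (Spec (CommRingCat.of A)).Opens)
    (h : ∀ q : PrimeSpectrum S, Spec.map (CommRingCat.ofHom (algebraMap A S)) q ∈ V → Algebra.IsEtaleAt A q.asIdeal) :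
    FEt.prop (Spec.map (CommRingCat.ofHom (algebraMap A S)) ∣_ V) := by
  let π := Spec.map (CommRingCat.ofHom (algebraMap A S))
  haveI : IsFinite π := (IsFinite.SpecMap_iff _).2 (RingHom.finite_algebraMap.2 inferInstance)
  haveI : Algebra.FinitePresentation A S := Algebra.FinitePresentation.of_finiteType.mp inferInstance
  have h' : AlgebraicGeometry.Etale ((π ⁻¹ᵁ V).ι ≫ π) := by
    have hc : ∀ z : ↥(π ⁻¹ᵁ V), ∃ c : S, z.1 ∈ (PrimeSpectrum.basicOpen c : (Spec (CommRingCat.of S)).Opens) ∧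
        Algebra.Etale A (Localization.Away c) ∧ (PrimeSpectrum.basicOpen c : (Spec (CommRingCat.of S)).Opens) ≤ π ⁻¹ᵁ V := by
      intro z
      let q : PrimeSpectrum S := z.1
      haveI := h q z.2
      obtain ⟨c₁, hc₁, hc₁'⟩ := Algebra.exists_etale_of_isEtaleAt (R := A) q.asIdeal
      obtain ⟨_, ⟨_, ⟨c₂, rfl⟩, rfl⟩, hc₂, hc₂'⟩ :=
        PrimeSpectrum.isBasis_basic_opens.exists_subset_of_mem_open (show q ∈ (π ⁻¹ᵁ V).1 from z.2)
          (π ⁻¹ᵁ V).2
      refine ⟨c₁ * c₂, fun hm => ((Ideal.IsPrime.mem_or_mem q.2 hm).elim hc₁ hc₂), ?_,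
        fun y hy => hc₂' fun hm => hy (Ideal.mul_mem_left _ _ hm)⟩
      rw [← Algebra.basicOpen_subset_etaleLocus_iff_etale]
      refine Set.Subset.trans (fun y hy hm => hy (Ideal.mul_mem_right _ _ hm))
        (Algebra.basicOpen_subset_etaleLocus_iff_etale.2 hc₁')
    choose c hmem het hle using hc
    let e : ∀ z, Spec (CommRingCat.of (Localization.Away (c z))) ⟶ Spec (CommRingCat.of S) := fun z =>
      Spec.map (CommRingCat.ofHom (algebraMap S (Localization.Away (c z))))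
    haveI : ∀ z, IsOpenImmersion (e z) := fun z => IsOpenImmersion.of_isLocalization (c z)
    have hrange : ∀ z, Set.range (e z) = (PrimeSpectrum.basicOpen (c z) : Set (PrimeSpectrum S)) := fun z =>
      PrimeSpectrum.localization_away_comap_range _ (c z)
    let j : ∀ z, Spec (CommRingCat.of (Localization.Away (c z))) ⟶ (π ⁻¹ᵁ V : Scheme.{u}) := fun z =>
      IsOpenImmersion.lift (π ⁻¹ᵁ V).ι (e z) (by
        rw [Scheme.Opens.range_ι, hrange]
        exact hle z)
    have hj : ∀ z, j z ≫ (π ⁻¹ᵁ V).ι = e z := fun z => IsOpenImmersion.lift_fac _ _ _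
    haveI : ∀ z, IsOpenImmersion (j z) := fun z => by
      haveI : IsOpenImmersion (j z ≫ (π ⁻¹ᵁ V).ι) := by rw [hj]; infer_instance
      exact IsOpenImmersion.of_comp (j z) (π ⁻¹ᵁ V).ι
    let 𝒰 : (π ⁻¹ᵁ V : Scheme.{u}).OpenCover := {
      I₀ := ↥(π ⁻¹ᵁ V)
      X := fun z => Spec (CommRingCat.of (Localization.Away (c z)))
      f := j
      mem₀ := by
        rw [Scheme.presieve₀_mem_precoverage_iff]
        refine ⟨fun z => ⟨z, ?_⟩, fun z => inferInstance⟩
        obtain ⟨w, hw⟩ : z.1 ∈ Set.range (e z) := by rw [hrange]; exact hmem z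
        refine ⟨w, (π ⁻¹ᵁ V).ι.isOpenEmbedding.injective ?_⟩
        rw [← Scheme.Hom.comp_apply, hj, hw]
        rfl }
    refine IsZariskiLocalAtSource.of_openCover (P := @AlgebraicGeometry.Etale) 𝒰 fun z => ?_
    show AlgebraicGeometry.Etale (j z ≫ (π ⁻¹ᵁ V).ι ≫ π)
    rw [← Category.assoc, hj, ← Spec.map_comp]
    haveI := het z
    rw [show CommRingCat.ofHom (algebraMap A S) ≫ CommRingCat.ofHom (algebraMap S (Localization.Away (c z))) =
      CommRingCat.ofHom (algebraMap A (Localization.Away (c z))) from rfl]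
    exact (HasRingHomProperty.Spec_iff (P := @AlgebraicGeometry.Etale)).2 (RingHom.etale_algebraMap.2 inferInstance)
  refine ⟨inferInstance, ?_⟩
  rw [← morphismRestrict_ι] at h'
  haveI := h'
  exact AlgebraicGeometry.Etale.of_comp (π ∣_ V) V.ι

namespace GammaAlg

/-- A localized reduction is the base change. -/
theorem isPushout_quot {A S R Rn B : Type u} [CommRing A] [CommRing S] [Algebra A S] [CommRing R] [Algebra A R]
    [CommRing Rn] [CommRing B] (g f : A) [IsLocalization.Away g R] (γ : R →+* Rn) (hγ : Function.Surjective γ)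
    (hγk : RingHom.ker γ = Ideal.span {algebraMap A R f}) (η : Rn →+* B)
    (ρ : S →+* B) (hρ : ∀ a, ρ (algebraMap A S a) = η (γ (algebraMap A R a)))
    (hsurj : ∀ b, ∃ (k : ℕ) (s : S), η (γ (algebraMap A R g)) ^ k * b = ρ s)
    (hker : ∀ s, ρ s = 0 → ∃ (k : ℕ) (s' : S), g ^ k • s = f • s') :
    IsPushout (CommRingCat.ofHom (algebraMap A S)) (CommRingCat.ofHom (γ.comp (algebraMap A R)))
      (CommRingCat.ofHom ρ) (CommRingCat.ofHom η) := by
  letI : Algebra A Rn := (γ.comp (algebraMap A R)).toAlgebra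
  letI : Algebra Rn B := η.toAlgebra
  letI : Algebra S B := ρ.toAlgebra
  letI : Algebra A B := (η.comp (γ.comp (algebraMap A R))).toAlgebra
  haveI : IsScalarTower A Rn B := IsScalarTower.of_algebraMap_eq fun _ => rfl
  haveI : IsScalarTower A S B := IsScalarTower.of_algebraMap_eq fun a => (hρ a).symm
  let γa : R →ₐ[A] Rn := { γ with commutes' := fun _ => rfl }
  let Φ : Rn ⊗[A] S →ₐ[Rn] B := Algebra.TensorProduct.lift (Algebra.ofId Rn B) (IsScalarTower.toAlgHom A S B)
    fun _ _ => mul_comm _ _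
  let θ : R ⊗[A] S →ₐ[A] Rn ⊗[A] S := Algebra.TensorProduct.map γa (AlgHom.id A S)
  have hθ : Function.Surjective θ := TensorProduct.map_surjective hγ Function.surjective_id
  have hu : IsUnit (algebraMap A R g) := IsLocalization.Away.algebraMap_isUnit g
  have hbij : Function.Bijective Φ := by
    refine ⟨(injective_iff_map_eq_zero Φ).2 fun z hz => ?_, fun b => ?_⟩
    · obtain ⟨t, rfl⟩ := hθ z
      obtain ⟨k, s, hs⟩ := exists_denom g t
      have hu' : IsUnit (algebraMap A (Rn ⊗[A] S) g) := by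
        have := (hu.map γ).map (Algebra.TensorProduct.includeLeft : Rn →ₐ[A] Rn ⊗[A] S)
        exact this
      have hs' : algebraMap A (Rn ⊗[A] S) g ^ k * θ t = (1 : Rn) ⊗ₜ[A] s := by
        rw [← map_pow, ← Algebra.smul_def, ← map_smul, ← IsScalarTower.algebraMap_smul R (g ^ k) t, map_pow, hs]
        simp [θ]
      have h1 : ρ s = 0 := by
        have := congrArg Φ hs'
        rw [map_mul, hz, mul_zero] at this
        simpa [Φ, RingHom.algebraMap_toAlgebra] using this.symm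
      obtain ⟨j, s', hj⟩ := hker s h1
      have h2 : algebraMap A (Rn ⊗[A] S) g ^ (j + k) * θ t = 0 := by
        rw [pow_add, mul_assoc, hs', ← map_pow, ← Algebra.smul_def, ← TensorProduct.tmul_smul, hj,
          TensorProduct.tmul_smul, TensorProduct.smul_tmul']
        have hf0 : f • (1 : Rn) = 0 := by
          rw [Algebra.smul_def, mul_one]
          exact RingHom.mem_ker.1 (hγk.ge (Ideal.mem_span_singleton_self _))
        rw [hf0, TensorProduct.zero_tmul]
      exact (hu'.pow (j + k)).mul_right_eq_zero.1 h2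
    · obtain ⟨k, s, hs⟩ := hsurj b
      obtain ⟨v, hv⟩ := (hu.map γ).pow k
      refine ⟨((v⁻¹ : Rnˣ) : Rn) ⊗ₜ[A] s, ?_⟩
      simp only [Φ, Algebra.TensorProduct.lift_tmul, Algebra.ofId_apply, IsScalarTower.toAlgHom_apply,
        RingHom.algebraMap_toAlgebra, ← hs, ← map_pow, ← hv, ← mul_assoc, ← map_mul, Units.inv_mul, map_one, one_mul]
  haveI : Algebra.IsPushout A Rn S B := ⟨IsBaseChange.of_equiv (AlgEquiv.ofBijective Φ hbij).toLinearEquiv
    fun x => by simp [Φ]⟩
  exact (CommRingCat.isPushout_of_isPushout A Rn S B).flip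

end GammaAlg

namespace Gamma

variable {A : Type u} [CommRing A] {U : (Spec (CommRingCat.of A)).Opens} {𝓙 : (U : Scheme.{u}).IdealSheafData}
  (C : Cover 𝓙)

/-- The bottom level in the spectrum of compatible functions. -/
def q0 : C.R 0 ⟶ Spec (CommRingCat.of (lim C)) :=
  (C.R 0).toSpecΓ ≫ Spec.map (CommRingCat.ofHom
    ((Pi.evalRingHom (fun n => BT C n) 0).comp (lim C).val.toRingHom))

/-- The spectrum of compatible functions over the base. -/
abbrev piS : Spec (CommRingCat.of (lim C)) ⟶ Spec (CommRingCat.of A) :=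
  Spec.map (CommRingCat.ofHom (algebraMap A (lim C)))

theorem q0_pi : q0 C ≫ piS C = (C.p 0 ≫ lι 𝓙 0) ≫ U.ι := by
  rw [eq_toSpecΓ_SpecMap ((C.p 0 ≫ lι 𝓙 0) ≫ U.ι), q0, Category.assoc, ← Spec.map_comp]
  congr 2

variable [IsNoetherianRing A] {f : A} (h𝓙 : 𝓙 = (FSch.idealSpec A (Ideal.span {f})).comap U.ι)
  (hnzd : f ∈ nonZeroDivisors A)

include h𝓙 hnzd in
theorem isPullback_q0 (hst : Stable C h𝓙 hnzd) :
    IsPullback (q0 C) (C.p 0) (piS C) (lι 𝓙 0 ≫ U.ι) := by
  let π := piS C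
  have hw : q0 C ≫ π = C.p 0 ≫ lι 𝓙 0 ≫ U.ι := (q0_pi C).trans (Category.assoc _ _ _)
  let T := pullback π (lι 𝓙 0 ≫ U.ι)
  let θ : C.R 0 ⟶ T := pullback.lift (q0 C) (C.p 0) hw
  suffices IsIso θ from IsPullback.of_iso_pullback ⟨hw⟩ (asIso θ) (pullback.lift_fst _ _ _) (pullback.lift_snd _ _ _)
  have hg : ∀ z : lvl 𝓙 0, ∃ g : A, lι 𝓙 0 z ∈ Wg U g ∧
      (PrimeSpectrum.basicOpen g : (Spec (CommRingCat.of A)).Opens) ≤ U := fun z => by
    obtain ⟨_, ⟨_, ⟨g, rfl⟩, rfl⟩, h1, h2⟩ :=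
      PrimeSpectrum.isBasis_basic_opens.exists_subset_of_mem_open (lι 𝓙 0 z).2 U.2
    exact ⟨g, h1, h2⟩
  choose g hzg hgU using hg
  let hA := fun z => C.affine_pre 0 (isAffineOpen_Wg (g z) (hgU z))
  have hR := fun z => (hA z).preimage (C.p 0)
  have hfac : ∀ z, (hA z).fromSpec ≫ lι 𝓙 0 ≫ U.ι =
      Spec.map (CommRingCat.ofHom ((C.qA 0 (Wg U (g z))).comp (scW U (g z)))) := fun z => by
    rw [fromSpec_comp]
    congr 1
    refine CommRingCat.hom_ext (RingHom.ext fun a => ?_)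
    exact (C.qA_rf 0 le_top (th U a)).symm
  have hq : ∀ z, (hR z).fromSpec ≫ q0 C = Spec.map (CommRingCat.ofHom (rho C (g z) 0)) := fun z => by
    rw [q0, ← Category.assoc, IsAffineOpen.fromSpec_toSpecΓ, ← Spec.map_comp]
    congr 1
  have hPsq : ∀ z, IsPullback (Spec.map (CommRingCat.ofHom (rho C (g z) 0)))
      (Spec.map (CommRingCat.ofHom (C.pA 0 (Wg U (g z))))) π ((hA z).fromSpec ≫ lι 𝓙 0 ≫ U.ι) := fun z => by
    rw [hfac]
    letI := (scW U (g z)).toAlgebra
    haveI := isLocalization_scW (g z) (hgU z)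
    obtain ⟨hs, hk⟩ := Groth.L17.FSheaf.cutOver_completion (Ideal.span {f}) U.ι 𝓙 h𝓙 0 (Wg U (g z))
      (isAffineOpen_Wg (g z) (hgU z))
    refine isPullback_SpecMap_of_isPushout _ _ _ _ ?_
    refine GammaAlg.isPushout_quot (R := Γ((U : Scheme.{u}), Wg U (g z))) (g z) f (C.qA 0 _) hs ?_ (C.pA 0 _) _
      (fun a => ?_) (fun b => ?_) (fun s hs' => ?_)
    · refine Eq.trans hk ?_
      rw [zero_add, pow_one, Ideal.map_span, Set.image_singleton]
      rfl
    · show toW C (g z) 0 (algebraMap A (BT C 0) a) = _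
      rw [toW_algebraMap, C.qB_eq]
      rfl
    · obtain ⟨k, s, hks⟩ := rho_surj C (g z) (hgU z) h𝓙 hnzd hst 0 b
      exact ⟨k, s, by rw [← hks, C.qB_eq]; rfl⟩
    · obtain ⟨k, s', hks⟩ := rho_ker C (g z) h𝓙 hnzd 0 s hs'
      exact ⟨k, s', by rw [hks, zero_add, pow_one]⟩
  have hRsq : ∀ z, IsPullback (hR z).fromSpec (Spec.map (CommRingCat.ofHom (C.pA 0 (Wg U (g z))))) (C.p 0)
      (hA z).fromSpec := fun z => by
    refine (IsOpenImmersion.isPullback _ _ _ _ ?_ ?_).flip
    · rw [← IsAffineOpen.SpecMap_appLE_fromSpec (C.p 0) (hA z) (hR z) le_rfl, ← Scheme.Hom.app_eq_appLE]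
      rfl
    · rw [(hA z).opensRange_fromSpec, (hR z).opensRange_fromSpec]
  let 𝒵 : (lvl 𝓙 0).OpenCover := {
    I₀ := lvl 𝓙 0
    X := fun z => Spec Γ(lvl 𝓙 0, lι 𝓙 0 ⁻¹ᵁ Wg U (g z))
    f := fun z => (hA z).fromSpec
    mem₀ := by
      rw [Scheme.presieve₀_mem_precoverage_iff]
      refine ⟨fun z => ⟨z, ?_⟩, fun x => inferInstance⟩
      rw [← Scheme.Hom.coe_opensRange, (hA _).opensRange_fromSpec]
      exact hzg z }
  refine IsZariskiLocalAtTarget.of_openCover (P := MorphismProperty.isomorphisms Scheme)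
    (𝒵.pullback₁ (pullback.snd π (lι 𝓙 0 ≫ U.ι))) fun z => ?_
  let s := pullback.snd π (lι 𝓙 0 ≫ U.ι)
  let c := (hA z).fromSpec
  have hT : IsPullback (pullback.fst s c ≫ pullback.fst _ _) (pullback.snd s c) π (c ≫ lι 𝓙 0 ≫ U.ι) :=
    (IsPullback.of_hasPullback s c).paste_horiz (IsPullback.of_hasPullback π (lι 𝓙 0 ≫ U.ι))
  let ω := (hPsq z).isoPullback ≪≫ hT.isoPullback.symm
  have hω1 : ω.hom ≫ pullback.fst s c ≫ pullback.fst _ _ = Spec.map (CommRingCat.ofHom (rho C (g z) 0)) := by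
    simp only [ω, Iso.trans_hom, Iso.symm_hom, Category.assoc, IsPullback.isoPullback_inv_fst]
    exact (hPsq z).isoPullback_hom_fst
  have hω2 : ω.hom ≫ pullback.snd s c = Spec.map (CommRingCat.ofHom (C.pA 0 (Wg U (g z)))) := by
    simp only [ω, Iso.trans_hom, Iso.symm_hom, Category.assoc, IsPullback.isoPullback_inv_snd]
    exact (hPsq z).isoPullback_hom_snd
  have hcomm : (hR z).fromSpec ≫ θ = ω.hom ≫ pullback.fst s c := by
    apply pullback.hom_ext
    · rw [Category.assoc, pullback.lift_fst, Category.assoc, hω1]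
      exact hq z
    · rw [Category.assoc, pullback.lift_snd, Category.assoc, (hRsq z).w,
        show pullback.fst s c ≫ pullback.snd π (lι 𝓙 0 ≫ U.ι) = pullback.snd s c ≫ c from pullback.condition,
        reassoc_of% hω2]
  have hsq : IsPullback (hR z).fromSpec ω.hom θ (pullback.fst s c) := by
    refine IsPullback.of_bot ?_ hcomm (IsPullback.of_hasPullback s c)
    rw [hω2, show θ ≫ s = C.p 0 from pullback.lift_snd _ _ _]
    exact hRsq z
  show IsIso (pullback.snd θ (pullback.fst s c))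
  rw [← hsq.isoPullback_inv_snd]
  infer_instance

end Gamma

/-- Covers of the trace of a hypersurface extend to a neighbourhood, given finiteness of the compatible functions and
stability. -/
theorem exists_extension_of_lim_finite {A : Type u} [CommRing A] [IsNoetherianRing A] {f : A}
    [IsAdicComplete (Ideal.span {f}) A] (hnzd : f ∈ nonZeroDivisors A) (U : (Spec (CommRingCat.of A)).Opens)
    (𝓙 : (U : Scheme.{u}).IdealSheafData) (h𝓙 : 𝓙 = (FSch.idealSpec A (Ideal.span {f})).comap U.ι)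
    (hyp : ∀ C : Cover 𝓙, Module.Finite A (Gamma.lim C) ∧ Gamma.Stable C h𝓙 hnzd)
    (R : FEt.Cat 𝓙.subscheme) :
    ∃ (V : (U : Scheme.{u}).Opens) (W : FEt.Cat (V : Scheme.{u})), (𝓙.support : Set (U : Scheme.{u})) ⊆ (V : Set (U : Scheme.{u})) ∧
      ∀ i : 𝓙.subscheme ⟶ (V : Scheme.{u}), i ≫ V.ι = 𝓙.subschemeι → Nonempty ((FEt.restrict i).obj W ≅ R) := by
  obtain ⟨C, k, e, hk, he⟩ := exists_cover_of_subscheme 𝓙 R
  obtain ⟨hfin, hst⟩ := hyp C
  haveI := hfin
  haveI : Algebra.FinitePresentation A (Gamma.lim C) := Algebra.FinitePresentation.of_finiteType.mp inferInstance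
  let π := Gamma.piS C
  haveI : IsFinite π := (IsFinite.SpecMap_iff _).2 (RingHom.finite_algebraMap.2 inferInstance)
  let bad : Set (Spec (CommRingCat.of A)) := π '' ((Algebra.etaleLocus A (Gamma.lim C))ᶜ)
  have hbad : IsClosed bad := π.isClosedMap _ (Algebra.isOpen_etaleLocus).isClosed_compl
  let V₀ : (Spec (CommRingCat.of A)).Opens := ⟨(U : Set (Spec (CommRingCat.of A))) ∩ badᶜ, U.2.inter hbad.isOpen_compl⟩
  let V : (U : Scheme.{u}).Opens := U.ι ⁻¹ᵁ V₀
  have hsupp : (𝓙.support : Set (U : Scheme.{u})) ⊆ (V : Set (U : Scheme.{u})) := by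
    intro z hz
    refine ⟨z.2, ?_⟩
    rintro ⟨q, hq, hqz⟩
    have hfz : f ∈ (z.1 : PrimeSpectrum A).asIdeal := by
      rw [h𝓙, Scheme.IdealSheafData.support_comap] at hz
      have h1 : z.1 ∈ Set.range (Spec.map (CommRingCat.ofHom (Ideal.Quotient.mk (Ideal.span {f})))) := by
        have h2 : z.1 ∈ closure (Set.range (Spec.map (CommRingCat.ofHom (Ideal.Quotient.mk (Ideal.span {f}))))) := by
          rw [← Scheme.Hom.support_ker]
          exact hz
        haveI : IsClosedImmersion (Spec.map (CommRingCat.ofHom (Ideal.Quotient.mk (Ideal.span {f})))) :=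
          IsClosedImmersion.spec_of_surjective _ Ideal.Quotient.mk_surjective
        rwa [(Scheme.Hom.isClosedEmbedding _).isClosed_range.closure_eq] at h2
      obtain ⟨w, hw⟩ := h1
      rw [← hw]
      show Ideal.Quotient.mk (Ideal.span {f}) f ∈ (w : PrimeSpectrum _).asIdeal
      rw [Ideal.Quotient.eq_zero_iff_mem.2 (Ideal.mem_span_singleton_self f)]
      exact Ideal.zero_mem _
    obtain ⟨_, ⟨_, ⟨g, rfl⟩, rfl⟩, hgz, hgU⟩ :=
      PrimeSpectrum.isBasis_basic_opens.exists_subset_of_mem_open z.2 U.2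
    have hqz' : π q = z.1 := hqz
    refine hq (Gamma.isEtaleAt_lim C g hgU h𝓙 hnzd hst (q : PrimeSpectrum _).asIdeal ?_ ?_)
    · rw [← hqz'] at hfz
      exact hfz
    · rw [← hqz'] at hgz
      exact hgz
  have hV₀ : ∀ q : PrimeSpectrum (Gamma.lim C), π q ∈ V₀ → Algebra.IsEtaleAt A q.asIdeal := fun q hq => by
    by_contra hne
    exact hq.2 ⟨q, hne, rfl⟩
  let W₀ : FEt.Cat (V₀ : Scheme.{u}) := MorphismProperty.Over.mk ⊤ (π ∣_ V₀) (prop_restrict V₀ hV₀)
  have hj : Set.range (V.ι ≫ U.ι) ⊆ Set.range V₀.ι := by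
    rintro _ ⟨y, rfl⟩
    rw [Scheme.Opens.range_ι]
    exact y.2
  let j := IsOpenImmersion.lift V₀.ι (V.ι ≫ U.ι) hj
  have hjι : j ≫ V₀.ι = V.ι ≫ U.ι := IsOpenImmersion.lift_fac _ _ _
  refine ⟨V, (FEt.restrict j).obj W₀, hsupp, fun i hi => ?_⟩
  have hl : lι 𝓙 0 ≫ U.ι = (k.hom ≫ i ≫ j) ≫ V₀.ι := by
    rw [Category.assoc, Category.assoc, hjι, reassoc_of% hi, ← Category.assoc, hk]
  have hpb := Gamma.isPullback_q0 C h𝓙 hnzd hst
  rw [hl] at hpb
  let q₁ : C.R 0 ⟶ (π ⁻¹ᵁ V₀ : Scheme.{u}) :=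
    (isPullback_morphismRestrict π V₀).flip.lift (Gamma.q0 C) (C.p 0 ≫ k.hom ≫ i ≫ j) (by
      rw [hpb.w]; simp only [Category.assoc])
  have hpb2 : IsPullback q₁ (C.p 0) (π ∣_ V₀) (k.hom ≫ i ≫ j) := by
    refine IsPullback.of_right ?_ ((isPullback_morphismRestrict π V₀).flip.lift_snd _ _ _)
      (isPullback_morphismRestrict π V₀).flip
    rw [IsPullback.lift_fst]
    exact hpb
  have h : IsPullback (e.inv ≫ q₁) R.hom (π ∣_ V₀) (i ≫ j) :=
    hpb2.of_iso e (Iso.refl _) k (Iso.refl _) (by simp) he.symm (by simp) (by simp)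
  exact ⟨((restrictFacIso (rfl : i ≫ j = _)).app W₀).symm ≪≫ MorphismProperty.Over.isoMk h.isoPullback.symm
    (by show h.isoPullback.inv ≫ R.hom = pullback.snd (π ∣_ V₀) (i ≫ j); exact h.isoPullback_inv_snd)⟩

/-- Covers of the trace of a hypersurface extend to a neighbourhood, given finiteness at the bottom level and
stability. -/
theorem exists_extension_of_gamma {A : Type u} [CommRing A] [IsNoetherianRing A] {f : A}
    [IsAdicComplete (Ideal.span {f}) A] (hnzd : f ∈ nonZeroDivisors A) (U : (Spec (CommRingCat.of A)).Opens)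
    (𝓙 : (U : Scheme.{u}).IdealSheafData) (h𝓙 : 𝓙 = (FSch.idealSpec A (Ideal.span {f})).comap U.ι)
    (hyp : ∀ C : Cover 𝓙, Module.Finite A ((Gamma.XS C).obj (op 0)) ∧ Gamma.Stable C h𝓙 hnzd)
    (R : FEt.Cat 𝓙.subscheme) :
    ∃ (V : (U : Scheme.{u}).Opens) (W : FEt.Cat (V : Scheme.{u})), (𝓙.support : Set (U : Scheme.{u})) ⊆ (V : Set (U : Scheme.{u})) ∧
      ∀ i : 𝓙.subscheme ⟶ (V : Scheme.{u}), i ≫ V.ι = 𝓙.subschemeι → Nonempty ((FEt.restrict i).obj W ≅ R) :=
  exists_extension_of_lim_finite hnzd U 𝓙 h𝓙 (fun C => ⟨Gamma.lim_finite C h𝓙 hnzd (hyp C).1, (hyp C).2⟩) R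

end Groth.L13.FEtLeff
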