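import Groth.Agent.L13.FEtLeff.Gamma
import Groth.Agent.L13.FEtLeff.GammaAlg
import Groth.Agent.L13.Purity.Spread
import Groth.Agent.L17.FSheaf.CompSect

/-! The compatible functions localize to the functions on the levels. -/

set_option autoImplicit false
set_option linter.style.haveILetI false
set_option linter.unusedSectionVars false
set_option backward.isDefEq.respectTransparency false
set_option backward.isDefEq.respectTransparency.types false

universe u

open CategoryTheory CategoryTheory.Limits AlgebraicGeometry TopologicalSpace Opposite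

noncomputable section

namespace Groth.L13.FEtLeff.Gamma

variable {A : Type u} [CommRing A] {U : (Spec (CommRingCat.of A)).Opens} {𝓙 : (U : Scheme.{u}).IdealSheafData}
  (C : Cover 𝓙) (g : A) (hgU : (PrimeSpectrum.basicOpen g : (Spec (CommRingCat.of A)).Opens) ≤ U)

/-- The trace of a basic open. -/
abbrev Wg (U : (Spec (CommRingCat.of A)).Opens) (g : A) : (U : Scheme.{u}).Opens :=
  U.ι ⁻¹ᵁ (PrimeSpectrum.basicOpen g : (Spec (CommRingCat.of A)).Opens)

/-- The structure map to the functions on the trace. -/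
abbrev scW (U : (Spec (CommRingCat.of A)).Opens) (g : A) : A →+* Γ((U : Scheme.{u}), Wg U g) :=
  ((U : Scheme.{u}).presheaf.map (homOfLE le_top).op).hom.comp (th U)

theorem Wg_eq : Wg U g = (U : Scheme.{u}).basicOpen (th U g) := by
  show U.ι ⁻¹ᵁ _ = (U : Scheme.{u}).basicOpen (U.ι.appTop ((Scheme.ΓSpecIso (CommRingCat.of A)).inv g))
  rw [← Scheme.Hom.preimage_basicOpen_top]
  congr 1
  exact (AlgebraicGeometry.basicOpen_eq_of_affine (R := CommRingCat.of A) g).symm

include hgU in
theorem isAffineOpen_Wg : IsAffineOpen (Wg U g) := by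
  refine IsAffineOpen.preimage_of_isOpenImmersion (U := (PrimeSpectrum.basicOpen g : (Spec (CommRingCat.of A)).Opens))
    ?_ U.ι ?_
  · rw [← AlgebraicGeometry.basicOpen_eq_of_affine (R := CommRingCat.of A) g]
    exact (isAffineOpen_top _).basicOpen _
  rw [Scheme.Opens.opensRange_ι]
  exact hgU

include hgU in
theorem isLocalization_scW : letI := (scW U g).toAlgebra; IsLocalization.Away g Γ((U : Scheme.{u}), Wg U g) := by
  letI := (scW U g).toAlgebra
  let D : (Spec (CommRingCat.of A)).Opens := PrimeSpectrum.basicOpen g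
  haveI : IsIso (U.ι.app D) := Scheme.Hom.isIso_app U.ι D (by rw [Scheme.Opens.opensRange_ι]; exact hgU)
  letI algD : Algebra A Γ(Spec (CommRingCat.of A), D) :=
    (((Spec (CommRingCat.of A)).presheaf.map (homOfLE le_top).op).hom.comp
      (Scheme.ΓSpecIso (CommRingCat.of A)).inv.hom).toAlgebra
  haveI : IsLocalization.Away g Γ(Spec (CommRingCat.of A), D) := by
    have := StructureSheaf.IsLocalization.to_basicOpen A g
    have e : algD = StructureSheaf.openAlgebra A (op (PrimeSpectrum.basicOpen g)) :=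
      Algebra.algebra_ext _ _ fun a => rfl
    show @IsLocalization.Away A _ g Γ(Spec (CommRingCat.of A), D) _ algD
    rw [e]
    exact this
  let e : Γ(Spec (CommRingCat.of A), D) ≃ₐ[A] Γ((U : Scheme.{u}), Wg U g) :=
    AlgEquiv.ofRingEquiv (f := (asIso (U.ι.app D)).commRingCatIsoToRingEquiv) fun a => by
      show (((Spec (CommRingCat.of A)).presheaf.map (homOfLE le_top).op) ≫ U.ι.app D).hom _ = _
      rw [Scheme.Hom.naturality]
      rfl
  exact IsLocalization.isLocalization_of_algEquiv (Submonoid.powers g) e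

theorem preimage_Wg (n : ℕ) : C.r n ⁻¹ᵁ Wg U g = (C.R n).basicOpen (algebraMap A (BT C n) g) := by
  rw [Wg_eq, Scheme.Hom.preimage_basicOpen_top]
  rfl

variable [IsNoetherianRing A]

theorem isNoetherian_U : AlgebraicGeometry.IsNoetherian (U : Scheme.{u}) := by
  haveI : AlgebraicGeometry.IsNoetherian (Spec (CommRingCat.of A)) := inferInstance
  haveI : CompactSpace ↥(U : Scheme.{u}) :=
    isCompact_iff_compactSpace.1 (NoetherianSpace.isCompact (α := PrimeSpectrum A) _)
  exact { }

theorem isNoetherian_R (n : ℕ) : AlgebraicGeometry.IsNoetherian (C.R n) := by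
  haveI := isNoetherian_U (A := A) (U := U)
  haveI : IsLocallyNoetherian (C.R n) := LocallyOfFiniteType.isLocallyNoetherian (C.r n)
  haveI : CompactSpace ↥(C.R n) := QuasiCompact.compactSpace_of_compactSpace (C.r n)
  exact { }

/-- Restriction to the trace. -/
abbrev toW (n : ℕ) : BT C n →+* C.B n (Wg U g) :=
  ((C.R n).presheaf.map (homOfLE ((C.r n).preimage_mono (le_top : Wg U g ≤ ⊤))).op).hom

theorem toW_algebraMap (n : ℕ) (a : A) : toW C g n (algebraMap A (BT C n) a) = C.qB n (Wg U g) (scW U g a) :=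
  (C.qB_rf n le_top (th U a)).symm

theorem isLocalization_toW (n : ℕ) :
    @IsLocalization.Away _ _ (algebraMap A (BT C n) g) (C.B n (Wg U g)) _ (toW C g n).toAlgebra := by
  haveI := isNoetherian_R C n
  exact Groth.L13.Purity.Spread.isLocalization_res (W := C.R n) (U := C.r n ⁻¹ᵁ ⊤) (algebraMap A (BT C n) g)
    (preimage_Wg C g n) _ isCompact_univ (isQuasiSeparated_univ)

theorem exists_num (n : ℕ) (x : C.B n (Wg U g)) :
    ∃ (k : ℕ) (y : BT C n), toW C g n (algebraMap A (BT C n) g) ^ k * x = toW C g n y := by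
  letI := (toW C g n).toAlgebra
  haveI := isLocalization_toW C g n
  obtain ⟨k, y, h⟩ := IsLocalization.Away.surj (algebraMap A (BT C n) g) x
  exact ⟨k, y, (mul_comm _ _).trans h⟩

theorem exists_eq (n : ℕ) (y : BT C n) (h : toW C g n y = 0) : ∃ k : ℕ, algebraMap A (BT C n) g ^ k * y = 0 := by
  letI := (toW C g n).toAlgebra
  haveI := isLocalization_toW C g n
  obtain ⟨k, hk⟩ := IsLocalization.Away.exists_of_eq (S := C.B n (Wg U g)) (algebraMap A (BT C n) g)
    (show algebraMap (BT C n) (C.B n (Wg U g)) y = algebraMap (BT C n) (C.B n (Wg U g)) 0 from h.trans (map_zero _).symm)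
  exact ⟨k, by rw [hk, mul_zero]⟩

include hgU in
theorem tB_surjective (n : ℕ) : Function.Surjective (C.tB n (Wg U g)) := by
  haveI : IsClosedImmersion (ltr 𝓙 n) := (isFormal_completion (𝓘 := 𝓙) n).1
  haveI : IsClosedImmersion (C.t n) := MorphismProperty.of_isPullback (C.sq n).flip inferInstance
  have haff : IsAffineOpen (C.r (n + 1) ⁻¹ᵁ Wg U g) := (isAffineOpen_Wg g hgU).preimage (C.r (n + 1))
  exact Groth.L17.FSheaf.appLE_surjective_of_eq (C.t n) (by rw [← C.t_r n]; rfl)
    (Scheme.Hom.app_surjective (C.t n) _ haff)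

include hgU in
theorem exists_step_mul (n : ℕ) (y : BT C n) :
    ∃ (k : ℕ) (y' : BT C (n + 1)), C.tB n ⊤ y' = algebraMap A (BT C n) g ^ k * y := by
  obtain ⟨w, hw⟩ := tB_surjective C g hgU n (toW C g n y)
  obtain ⟨k, y', hy'⟩ := exists_num C g (n + 1) w
  have h : toW C g n (C.tB n ⊤ y' - algebraMap A (BT C n) g ^ k * y) = 0 := by
    rw [map_sub, sub_eq_zero]
    refine (C.tB_rf n (le_top : Wg U g ≤ ⊤) y').symm.trans ?_
    rw [show rf (C.R (n + 1)) ((C.r (n + 1)).preimage_mono (le_top : Wg U g ≤ ⊤)) y' = toW C g (n + 1) y' from rfl,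
      ← hy', map_mul, map_pow, hw, toW_algebraMap, C.tB_qB, map_mul, map_pow, toW_algebraMap]
  obtain ⟨j, hj⟩ := exists_eq C g n _ h
  rw [mul_sub, sub_eq_zero, ← mul_assoc, ← pow_add] at hj
  refine ⟨j + k, algebraMap A (BT C (n + 1)) g ^ j * y', ?_⟩
  rw [map_mul, map_pow, tB_algebraMap]
  exact hj

theorem tTo_refl (n : ℕ) (y : BT C n) : tTo C (le_refl n) y = y :=
  (congrArg (toX C n).symm (Groth.L29.FreeLevels.Levels.tr_refl n (toX C n y))).trans ((toX C n).symm_apply_apply y)

theorem tTo_tB {n m : ℕ} (h : n ≤ m) (y : BT C (m + 1)) :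
    tTo C h (C.tB m ⊤ y) = tTo C (h.trans (Nat.le_succ m)) y := by
  refine congrArg (toX C n).symm ?_
  rw [toX_tB, Groth.L29.FreeLevels.Levels.tr_tr]

theorem tTo_mul {n m : ℕ} (h : n ≤ m) (a : A) (y : BT C m) :
    tTo C h (algebraMap A (BT C m) a * y) = algebraMap A (BT C n) a * tTo C h y := by
  refine (toX C n).injective ?_
  rw [toX_smul]
  simp only [tTo, AddEquiv.apply_symm_apply]
  rw [toX_smul, map_smul]

include hgU in
theorem exists_far (n d : ℕ) (y : BT C n) :
    ∃ (k : ℕ) (y' : BT C (n + d)), tTo C (Nat.le_add_right n d) y' = algebraMap A (BT C n) g ^ k * y := by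
  induction d with
  | zero => exact ⟨0, y, by rw [pow_zero, one_mul]; exact tTo_refl C n y⟩
  | succ d ih =>
    obtain ⟨k, y', hy'⟩ := ih
    obtain ⟨j, y'', hy''⟩ := exists_step_mul C g hgU (n + d) y'
    refine ⟨j + k, y'', ?_⟩
    have h := congrArg (tTo C (Nat.le_add_right n d)) hy''
    rw [tTo_tB] at h
    rw [pow_add, mul_assoc, ← hy', ← map_pow, ← tTo_mul, map_pow]
    exact h

variable {f : A} (h𝓙 : 𝓙 = (FSch.idealSpec A (Ideal.span {f})).comap U.ι) (hnzd : f ∈ nonZeroDivisors A)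

/-- A compatible function on the trace of a level. -/
def rho (n : ℕ) : lim C →+* C.B n (Wg U g) :=
  (toW C g n).comp ((Pi.evalRingHom (fun n => BT C n) n).comp (lim C).val.toRingHom)

include hgU h𝓙 hnzd in
theorem rho_surj (hst : Stable C h𝓙 hnzd) (n : ℕ) (x : C.B n (Wg U g)) :
    ∃ (k : ℕ) (s : lim C), C.qB n (Wg U g) (scW U g g) ^ k * x = rho C g n s := by
  obtain ⟨c, hc⟩ := lim_lift C h𝓙 hnzd hst
  obtain ⟨i, y, hy⟩ := exists_num C g n x
  obtain ⟨k, y', hy'⟩ := exists_far C g hgU n (c + (n + 1)) y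
  obtain ⟨s, hs⟩ := hc n y'
  refine ⟨k + i, s, ?_⟩
  show _ = toW C g n (s.1 n)
  rw [hs, hy', map_mul, map_pow, ← hy, ← toW_algebraMap, pow_add, mul_assoc]

include h𝓙 hnzd in
theorem rho_ker (n : ℕ) (s : lim C) (h : rho C g n s = 0) :
    ∃ (k : ℕ) (s' : lim C), g ^ k • s = f ^ (n + 1) • s' := by
  obtain ⟨k, hk⟩ := exists_eq C g n (s.1 n) h
  obtain ⟨s', hs'⟩ := lim_div C h𝓙 hnzd (g ^ k • s) n (by
    show (g ^ k) • s.1 n = 0
    rw [Algebra.smul_def, map_pow]
    exact hk)
  exact ⟨k, s', hs'.symm⟩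

include hgU h𝓙 hnzd in
/-- The algebra of compatible functions is étale at the points over the hypersurface in the open. -/
theorem isEtaleAt_lim [Module.Finite A (lim C)] (hst : Stable C h𝓙 hnzd) (q : Ideal (lim C)) [q.IsPrime]
    (hf : algebraMap A (lim C) f ∈ q) (hg : algebraMap A (lim C) g ∉ q) : Algebra.IsEtaleAt A q := by
  letI := (scW U g).toAlgebra
  haveI := isLocalization_scW g hgU
  refine GammaAlg.isEtaleAt_of_quot (R := Γ((U : Scheme.{u}), Wg U g)) g f (fun n => ?_) q hf hg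
  obtain ⟨hs, hk⟩ := Groth.L17.FSheaf.cutOver_completion (Ideal.span {f}) U.ι 𝓙 h𝓙 n (Wg U g) (isAffineOpen_Wg g hgU)
  refine GammaAlg.etale_quot g f n (C.qA n (Wg U g)) hs ?_ (C.pA n (Wg U g)) ?_ (rho C g n) (fun a => ?_)
    (fun b => ?_) (rho_ker C g h𝓙 hnzd n)
  · refine Eq.trans hk ?_
    rw [Ideal.map_span, Set.image_singleton]
    rfl
  · have := Etale.etale_appLE (C.p n) (C.affine_pre n (isAffineOpen_Wg g hgU))
      ((C.affine_pre n (isAffineOpen_Wg g hgU)).preimage (C.p n)) le_rfl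
    rw [← Scheme.Hom.app_eq_appLE] at this
    exact this
  · show toW C g n (algebraMap A (BT C n) a) = _
    rw [toW_algebraMap, C.qB_eq]
    rfl
  · obtain ⟨k, s, hks⟩ := rho_surj C g hgU h𝓙 hnzd hst n b
    exact ⟨k, s, by rw [← hks, C.qB_eq]; rfl⟩

end Groth.L13.FEtLeff.Gamma
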