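import Groth.Agent.L13.FEtLeff.GammaExt
import Groth.Agent.L29.Formal.FreeLevelsFinite
import Groth.Agent.L29.Formal.FreeLevelsLocal
import Groth.Agent.L29.Formal.DualKill
import Groth.Agent.L13.FEtLeff.CI

/-! Covers near a hypersurface of a punctured spectrum. -/

set_option autoImplicit false
set_option linter.style.haveILetI false
set_option linter.unusedSectionVars false
set_option backward.isDefEq.respectTransparency false
set_option backward.isDefEq.respectTransparency.types false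

universe u

open CategoryTheory CategoryTheory.Limits AlgebraicGeometry TopologicalSpace Opposite
open IsLocalRing (maximalIdeal)

noncomputable section

namespace Groth.L13.FEtLeff

variable {A : Type u} [CommRing A] [IsNoetherianRing A] {f : A} [IsAdicComplete (Ideal.span {f}) A]

theorem exists_extension_of_finite (hnzd : f ∈ nonZeroDivisors A) (𝔞 : Ideal A) (U : (Spec (CommRingCat.of A)).Opens)
    (hU : U = LocCoh.puncturedOpen A 𝔞)
    (h₁ : Module.Finite A (LocCoh.H 𝔞 1 (A ⧸ Ideal.span {f})))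
    (h₂ : Module.Finite A (LocCoh.H 𝔞 2 (A ⧸ Ideal.span {f})))
    (R : FEt.Cat ((FSch.idealSpec A (Ideal.span {f})).comap U.ι).subscheme) :
    ∃ (V : (U : Scheme.{u}).Opens) (W : FEt.Cat (V : Scheme.{u})),
      (((FSch.idealSpec A (Ideal.span {f})).comap U.ι).support : Set (U : Scheme.{u})) ⊆ (V : Set (U : Scheme.{u})) ∧
      ∀ i : ((FSch.idealSpec A (Ideal.span {f})).comap U.ι).subscheme ⟶ (V : Scheme.{u}),
        i ≫ V.ι = ((FSch.idealSpec A (Ideal.span {f})).comap U.ι).subschemeι →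
        Nonempty ((FEt.restrict i).obj W ≅ R) := by
  subst hU
  refine exists_extension_of_gamma hnzd _ _ rfl (fun C => ?_) R
  have hG := Gamma.isCohFormal C f rfl
  have hfree := Gamma.isFinLocFreeMod C f rfl
  let e : Formal2.quotPow A (Ideal.span {f}) A 0 ≃ₗ[A] A ⧸ Ideal.span {f} :=
    Submodule.quotEquivOfEq _ _ (by rw [zero_add, pow_one, smul_eq_mul, Ideal.mul_top])
  have hH : ∀ i, Module.Finite A (LocCoh.H 𝔞 i (A ⧸ Ideal.span {f})) →
      Module.Finite A (LocCoh.H 𝔞 i (Formal2.quotPow A (Ideal.span {f}) A 0)) := fun i h =>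
    Module.Finite.equiv (((localCohomology 𝔞 i).mapIso e.toModuleIso).toLinearEquiv).symm
  have hk : Formal.KilledBy (Ideal.span {f}) ((Gamma.gSysC C).obj (op 0)) := by
    have := hG.2.1 0
    rwa [zero_add, pow_one] at this
  obtain ⟨h0, h1⟩ := Groth.L29.FreeLevels.finite_bottom 𝔞 (Ideal.span {f}) _ (hG.1 0) hk (hfree 0)
    (hH 1 h₁) (hH 2 h₂)
  exact ⟨Module.Finite.equiv (Groth.L29.FreeLevels.Φ (LocCoh.puncturedOpen A 𝔞) _),
    (Groth.L29.FreeLevels.levels hG hfree hnzd).exists_stable⟩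

theorem exists_extension_of_depth [IsLocalRing A] (hω : ∃ ω : Dual.D A, Dual.IsDualizing A ω)
    (hf : f ∈ maximalIdeal A) (hnzd : f ∈ nonZeroDivisors A)
    (U : (Spec (CommRingCat.of A)).Opens) (hU : U = LocCoh.puncturedOpen A (maximalIdeal A))
    (h₅ : ∀ (p : Ideal A) [p.IsPrime], f ∈ p → p ≠ maximalIdeal A →
      (1 : WithBot ℕ∞) < ((LocCoh.depth (Localization.AtPrime p)
          (LocalizedModule p.primeCompl (A ⧸ Ideal.span {f})) : ℕ∞) : WithBot ℕ∞) + ringKrullDim (A ⧸ p))
    (h₆ : ∀ (p : Ideal A) [p.IsPrime], f ∉ p →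
      (∃ r : Ideal A, r.IsPrime ∧ p ≤ r ∧ f ∈ r ∧ r ≠ maximalIdeal A) →
      (3 : WithBot ℕ∞) < ((LocCoh.depth (Localization.AtPrime p) (Localization.AtPrime p) : ℕ∞) : WithBot ℕ∞) +
        ringKrullDim (A ⧸ p))
    (R : FEt.Cat ((FSch.idealSpec A (Ideal.span {f})).comap U.ι).subscheme) :
    ∃ (V : (U : Scheme.{u}).Opens) (W : FEt.Cat (V : Scheme.{u})),
      (((FSch.idealSpec A (Ideal.span {f})).comap U.ι).support : Set (U : Scheme.{u})) ⊆ (V : Set (U : Scheme.{u})) ∧
      ∀ i : ((FSch.idealSpec A (Ideal.span {f})).comap U.ι).subscheme ⟶ (V : Scheme.{u}),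
        i ≫ V.ι = ((FSch.idealSpec A (Ideal.span {f})).comap U.ι).subschemeι →
        Nonempty ((FEt.restrict i).obj W ≅ R) := by
  subst hU
  refine exists_extension_of_gamma hnzd _ _ rfl (fun C => ?_) R
  have hG := Gamma.isCohFormal C f rfl
  have hfree := Gamma.isFinLocFreeMod C f rfl
  obtain ⟨ω, hω, hn⟩ := Groth.L29.DualKill.exists_normalized hω
  let 𝔪 := maximalIdeal A
  let G := Gamma.gSysC C
  let e : ∀ I : Ideal A, Formal2.quotPow A I A 0 ≃ₗ[A] A ⧸ I := fun I =>
    Submodule.quotEquivOfEq _ _ (by rw [zero_add, pow_one, smul_eq_mul, Ideal.mul_top])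
  have hH : ∀ (I : Ideal A) (i : ℕ) (c : A), (∀ x : LocCoh.H 𝔪 i (A ⧸ I), c • x = 0) →
      ∀ x : LocCoh.H 𝔪 i (Formal2.quotPow A I A 0), c • x = 0 := fun I i c h x => by
    refine (((localCohomology 𝔪 i).mapIso (e I).toModuleIso).toLinearEquiv).injective ?_
    rw [map_smul, map_zero]
    exact h _
  have hk : Formal.KilledBy (Ideal.span {f}) (G.obj (op 0)) := by
    have := hG.2.1 0
    rwa [zero_add, pow_one] at this
  obtain ⟨e₁, he₁⟩ := Groth.L29.DualKill.exists_pow_kills hω hn (A ⧸ Ideal.span {f}) 1 fun p hp hpm => by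
    rw [Module.support_eq_zeroLocus, Ideal.annihilator_quotient] at hp
    exact h₅ p.asIdeal (hp (Ideal.mem_span_singleton_self f)) hpm
  have h0 := Groth.L29.FreeLevels.finite_bottom_zero 𝔪 (Ideal.span {f}) (G.obj (op 0)) (hG.1 0) hk (hfree 0)
    ⟨e₁, fun a ha => hH _ 1 a (he₁ a ha)⟩
  obtain ⟨M, e₂, hM, he₂⟩ := Groth.L29.DualKill.exists_kills_level hω hn f hnzd h₆
  obtain ⟨M, rfl⟩ := Nat.exists_eq_succ_of_ne_zero hM.ne'
  let I' : Ideal A := Ideal.span {f ^ (M + 1 + 1)}
  have hII : I' ^ (0 + 1) = Ideal.span {f} ^ (M + 1 + 1) := by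
    rw [zero_add, pow_one, Ideal.span_singleton_pow]
  have hfree' : Formal2.IsFinLocFreeMod I' (0 + 1) (G.obj (op (M + 1))) := by
    intro x
    obtain ⟨V, r, hx, φ⟩ := hfree (M + 1) x
    refine ⟨V, r, hx, ?_⟩
    show Nonempty (_ ≅ (CategoryTheory.Limits.cokernel (Formal.smulFamily (I' ^ (0 + 1)) _)).restrict V.ι)
    rw [hII]
    exact φ
  haveI := Groth.L29.FreeLevels.isNoetherian_multiple I' (G.obj (op (M + 1))) (hG.1 (M + 1))
    (by intro a ha; exact hG.2.1 (M + 1) a (by rwa [Ideal.span_singleton_pow])) hfree' (f ^ (M + 1)) e₂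
    (fun a ha x => by rw [← mul_smul]; exact hH I' 2 _ (fun y => by rw [mul_smul]; exact he₂ a ha y) x)
  let ψ : Coh.HH (LocCoh.puncturedOpen A 𝔪 : Scheme.{u}) (G.obj (op 0)) 1 →ₗ[A]
      Coh.HH (LocCoh.puncturedOpen A 𝔪 : Scheme.{u}) (G.obj (op (M + 1))) 1 :=
    { toFun := Groth.L16.CohLinear.hmap (Groth.L29.FreeLevels.jMap hG M) 1
      map_add' := map_add _
      map_smul' := fun a x => by
        rw [RingHom.id_apply, ← Groth.L16.Rees.hmap_smulMod A _ a 1 x, ← Groth.L16.CohLinear.hmap_comp,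
          Groth.L16.Rees.smulMod_naturality, Groth.L16.CohLinear.hmap_comp, Groth.L16.Rees.hmap_smulMod] }
  exact ⟨Module.Finite.equiv (Groth.L29.FreeLevels.Φ (LocCoh.puncturedOpen A 𝔪) _),
    (Groth.L29.FreeLevels.levels hG hfree hnzd).exists_stable_of_map ψ (LinearMap.range
      (f ^ (M + 1) • (LinearMap.id : Coh.HH (LocCoh.puncturedOpen A 𝔪 : Scheme.{u}) (G.obj (op (M + 1))) 1 →ₗ[A] _))) M
      (fun x hx => Groth.L29.FreeLevels.ker_hmap_le hG hfree hnzd M x hx)
      (fun n y => Groth.L29.FreeLevels.hmap_obs_mem hG hfree hnzd M n y)⟩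

end Groth.L13.FEtLeff

namespace Groth.L13.FEtLeff

open AlgebraicGeometry CategoryTheory CategoryTheory.Limits

/-- Extension from the closed subscheme of the open, transported to the fibre product. -/
theorem exists_extension_pullback {A : Type u} [CommRing A] (I : Ideal A) (U : (Spec (CommRingCat.of A)).Opens)
    (h : ∀ R : FEt.Cat ((FSch.idealSpec A I).comap U.ι).subscheme,
      ∃ (V : (U : Scheme.{u}).Opens) (W : FEt.Cat (V : Scheme.{u})),
        (((FSch.idealSpec A I).comap U.ι).support : Set (U : Scheme.{u})) ⊆ (V : Set (U : Scheme.{u})) ∧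
        ∀ i : ((FSch.idealSpec A I).comap U.ι).subscheme ⟶ (V : Scheme.{u}),
          i ≫ V.ι = ((FSch.idealSpec A I).comap U.ι).subschemeι → Nonempty ((FEt.restrict i).obj W ≅ R))
    (V₀ : FEt.Cat (pullback U.ι (Spec.map (CommRingCat.ofHom (Ideal.Quotient.mk I))))) :
    ∃ (U' : (Spec (CommRingCat.of A)).Opens) (_ : U' ≤ U)
      (u' : pullback U.ι (Spec.map (CommRingCat.ofHom (Ideal.Quotient.mk I))) ⟶ (U' : Scheme.{u}))
      (_ : u' ≫ U'.ι = pullback.fst U.ι (Spec.map (CommRingCat.ofHom (Ideal.Quotient.mk I))) ≫ U.ι)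
      (V' : FEt.Cat (U' : Scheme.{u})), Nonempty ((FEt.restrict u').obj V' ≅ V₀) := by
  let q := Spec.map (CommRingCat.ofHom (Ideal.Quotient.mk I))
  haveI : IsClosedImmersion q := IsClosedImmersion.spec_of_surjective _ Ideal.Quotient.mk_surjective
  let p := pullback.fst U.ι q
  have hk : p.ker = (FSch.idealSpec A I).comap U.ι := Scheme.IdealSheafData.ker_fst_of_isClosedImmersion _ _
  rw [← hk] at h
  haveI := Groth.L16.PureQuot.isEquivalence_of_isIso p.toImage
  obtain ⟨R, ⟨a⟩⟩ := Functor.EssSurj.mem_essImage (F := FEt.restrict p.toImage) V₀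
  obtain ⟨V, W, hV, hi⟩ := h R
  have hr : Set.range p.ker.subschemeι ⊆ Set.range V.ι := by
    rw [Scheme.Opens.range_ι, Scheme.IdealSheafData.range_subschemeι]
    exact hV
  let i := IsOpenImmersion.lift V.ι p.ker.subschemeι hr
  have hiι : i ≫ V.ι = p.ker.subschemeι := IsOpenImmersion.lift_fac _ _ _
  obtain ⟨b⟩ := hi i hiι
  let j := (U.ι.isoImage V)
  refine ⟨U.ι ''ᵁ V, fun x ⟨y, _, hy⟩ => hy ▸ y.2, p.toImage ≫ i ≫ j.hom, ?_, (FEt.restrict j.inv).obj W, ⟨?_⟩⟩
  · rw [Category.assoc, Category.assoc, U.ι.isoImage_hom_ι V, reassoc_of% hiι, ← Category.assoc]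
    exact congrArg (· ≫ U.ι) p.toImage_imageι
  · exact ((restrictFacIso (show ((p.toImage ≫ i ≫ j.hom) ≫ j.inv : _ ⟶ (V : Scheme.{u})) = p.toImage ≫ i by simp)).app W).symm ≪≫
      (restrictFacIso (rfl : p.toImage ≫ i = _)).app W ≪≫ (FEt.restrict p.toImage).mapIso b ≪≫ a

/-- Extension from neighbourhoods and purity give essential surjectivity. -/
theorem essSurj_fst_of_extension {A : Type u} [CommRing A] [IsNoetherianRing A] (f : A)
    (U : (Spec (CommRingCat.of A)).Opens)
    (hU : ∀ x : PrimeSpectrum A, x ∈ U → f ∉ x.asIdeal → (∀ y : PrimeSpectrum A, y ∈ U → f ∈ y.asIdeal → ¬ x ≤ y) → FEt.PurityHolds (Localization.AtPrime x.asIdeal))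
    (h : ∀ R : FEt.Cat ((FSch.idealSpec A (Ideal.span {f})).comap U.ι).subscheme,
      ∃ (V : (U : Scheme.{u}).Opens) (W : FEt.Cat (V : Scheme.{u})),
        (((FSch.idealSpec A (Ideal.span {f})).comap U.ι).support : Set (U : Scheme.{u})) ⊆ (V : Set (U : Scheme.{u})) ∧
        ∀ i : ((FSch.idealSpec A (Ideal.span {f})).comap U.ι).subscheme ⟶ (V : Scheme.{u}),
          i ≫ V.ι = ((FSch.idealSpec A (Ideal.span {f})).comap U.ι).subschemeι → Nonempty ((FEt.restrict i).obj W ≅ R)) :
    (FEt.restrict (pullback.fst U.ι (Spec.map (CommRingCat.ofHom (Ideal.Quotient.mk (Ideal.span {f})))))).EssSurj := by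
  let q := Spec.map (CommRingCat.ofHom (Ideal.Quotient.mk (Ideal.span {f})))
  haveI : IsClosedImmersion q := IsClosedImmersion.spec_of_surjective _ Ideal.Quotient.mk_surjective
  let p := pullback.fst U.ι q
  have hk : p.ker = (FSch.idealSpec A (Ideal.span {f})).comap U.ι :=
    Scheme.IdealSheafData.ker_fst_of_isClosedImmersion _ _
  rw [← hk] at h
  haveI : AlgebraicGeometry.IsNoetherian (U : Scheme.{u}) := Gamma.isNoetherian_U
  refine essSurj_of_extension p h fun V hV => Groth.L13.Purity.Spread.essSurj_restrict_of_purityHolds V fun x hx => ?_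
  have hVf : ∀ y : (U : Scheme.{u}), f ∈ (y.1 : PrimeSpectrum A).asIdeal → y ∈ V := fun y hy => hV (by
    rw [hk, Scheme.IdealSheafData.support_comap]
    show y.1 ∈ (FSch.idealSpec A (Ideal.span {f})).support
    rw [← SetLike.mem_coe, FSch.idealSpec, Scheme.Hom.support_ker, (Scheme.Hom.isClosedEmbedding _).isClosed_range.closure_eq]
    show y.1 ∈ Set.range (PrimeSpectrum.comap (Ideal.Quotient.mk (Ideal.span {f})))
    rw [range_comap_of_surjective _ _ Ideal.Quotient.mk_surjective, Ideal.mk_ker]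
    exact (Ideal.span_singleton_le_iff_mem _).2 hy)
  have hp := hU x.1 x.2 (fun hfx => hx (hVf x hfx)) fun y hyU hfy hxy => hx
    (((PrimeSpectrum.le_iff_specializes _ _).1 hxy |> fun hs => (U.ι.isOpenEmbedding.isInducing.specializes_iff (y := ⟨y, hyU⟩)).1 hs).mem_open V.2 (hVf ⟨y, hyU⟩ hfy))
  obtain ⟨ε⟩ := nonempty_stalkEquiv U x
  exact purityHolds_of_ringEquiv ε hp

end Groth.L13.FEtLeff

namespace Groth.L13.FEtLeff

open AlgebraicGeometry CategoryTheory CategoryTheory.Limits

theorem eq_puncturedOpen (A : Type u) [CommRing A] [IsLocalRing A] :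
    FEt.puncturedSpec A = LocCoh.puncturedOpen A (IsLocalRing.maximalIdeal A) := by
  refine TopologicalSpace.Opens.ext (Set.ext fun p => not_congr ?_)
  exact ⟨fun h => (show p = IsLocalRing.closedPoint A from h) ▸ (fun _ hm => hm),
    fun h => PrimeSpectrum.ext (((IsLocalRing.maximalIdeal.isMaximal A).eq_of_le p.2.ne_top h).symm)⟩

/-- Extension from neighbourhoods gives essential surjectivity when the closed points of `A_f` are pure. -/
theorem essSurj_fst_punctured {A : Type u} [CommRing A] [IsLocalRing A] [IsNoetherianRing A] (f : A)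
    (hf : f ∈ maximalIdeal A)
    (hp : ∀ P : Ideal (Localization.Away f), ∀ _ : P.IsMaximal, FEt.PurityHolds (Localization.AtPrime P))
    (h : ∀ R : FEt.Cat ((FSch.idealSpec A (Ideal.span {f})).comap (FEt.puncturedSpec A).ι).subscheme,
      ∃ (V : (FEt.puncturedSpec A : Scheme.{u}).Opens) (W : FEt.Cat (V : Scheme.{u})),
        (((FSch.idealSpec A (Ideal.span {f})).comap (FEt.puncturedSpec A).ι).support : Set (FEt.puncturedSpec A : Scheme.{u})) ⊆
          (V : Set (FEt.puncturedSpec A : Scheme.{u})) ∧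
        ∀ i : ((FSch.idealSpec A (Ideal.span {f})).comap (FEt.puncturedSpec A).ι).subscheme ⟶ (V : Scheme.{u}),
          i ≫ V.ι = ((FSch.idealSpec A (Ideal.span {f})).comap (FEt.puncturedSpec A).ι).subschemeι →
          Nonempty ((FEt.restrict i).obj W ≅ R)) :
    (FEt.restrict (pullback.fst (FEt.puncturedSpec A).ι
      (Spec.map (CommRingCat.ofHom (Ideal.Quotient.mk (Ideal.span {f})))))).EssSurj := by
  refine essSurj_fst_of_extension f _ (fun x hx hfx hy => ?_) h
  have hxm : x.asIdeal ≠ maximalIdeal A := fun e => hx (PrimeSpectrum.ext e)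
  have h1 := ringKrullDim_quot_eq_one hf x hxm hfx fun r hxr hfr => by
    by_contra hr
    exact hy r (fun e => hr (congrArg PrimeSpectrum.asIdeal e)) hfr hxr
  let Af := Localization.Away f
  let P := x.asIdeal.map (algebraMap A Af)
  have hdisj : Disjoint (Submonoid.powers f : Set A) (x.asIdeal : Set A) :=
    Set.disjoint_left.2 (by rintro _ ⟨k, rfl⟩ hm; exact hfx (x.2.mem_of_pow_mem k hm))
  haveI hP : P.IsPrime := IsLocalization.isPrime_of_isPrime_disjoint (Submonoid.powers f) Af _ x.2 hdisj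
  have hcomap : P.comap (algebraMap A Af) = x.asIdeal :=
    IsLocalization.under_map_of_isPrime_disjoint (Submonoid.powers f) Af x.2 hdisj
  have hmax : P.IsMaximal := by
    obtain ⟨M, hM, hPM⟩ := Ideal.exists_le_maximal P hP.ne_top
    haveI := hM
    suffices M ≤ P by rwa [le_antisymm hPM this]
    let z : PrimeSpectrum A := ⟨M.comap (algebraMap A Af), inferInstance⟩
    have hxz : x.asIdeal ≤ z.asIdeal := hcomap.symm.le.trans (Ideal.comap_mono hPM)
    have hfz : f ∉ z.asIdeal := fun hm => hM.ne_top (Ideal.eq_top_of_isUnit_mem _ hm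
      (IsLocalization.Away.algebraMap_isUnit f))
    have hz : z.asIdeal = x.asIdeal := by
      by_contra hne
      haveI : IsLocalRing (A ⧸ x.asIdeal) := Groth.L01.isLocalRing_quotient x.2.ne_top
      let mk := Ideal.Quotient.mk x.asIdeal
      let z' := z.asIdeal.map mk
      haveI : z'.IsPrime := Ideal.map_isPrime_of_surjective Ideal.Quotient.mk_surjective (by rw [Ideal.mk_ker]; exact hxz)
      have hback : z'.comap mk = z.asIdeal := by
        rw [Ideal.comap_map_of_surjective mk Ideal.Quotient.mk_surjective, ← RingHom.ker_eq_comap_bot, Ideal.mk_ker]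
        exact sup_eq_left.2 hxz
      have hbot : (⊥ : Ideal (A ⧸ x.asIdeal)) < z' := bot_lt_iff_ne_bot.2 fun e => hne (by
        rw [← hback, e, ← RingHom.ker_eq_comap_bot, Ideal.mk_ker])
      have hmax : z' < maximalIdeal (A ⧸ x.asIdeal) := by
        refine lt_of_le_of_ne (IsLocalRing.le_maximalIdeal (Ideal.IsPrime.ne_top inferInstance)) fun e => hfz ?_
        rw [← hback, e, Ideal.mem_comap, ← IsLocalRing.map_maximalIdeal_of_surjective mk Ideal.Quotient.mk_surjective]
        exact Ideal.mem_map_of_mem _ hf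
      haveI : (⊥ : Ideal (A ⧸ x.asIdeal)).IsPrime := Ideal.isPrime_bot
      have a1 : (1 : ℕ∞) ≤ z'.height := le_trans le_add_self
        (Order.add_one_le_of_lt (Ideal.height_strict_mono_of_isPrime hbot))
      have a2 := Order.add_one_le_of_lt (Ideal.height_strict_mono_of_isPrime hmax)
      have a3 : ((2 : ℕ∞) : WithBot ℕ∞) ≤ ((maximalIdeal (A ⧸ x.asIdeal)).height : WithBot ℕ∞) :=
        WithBot.coe_le_coe.2 (le_trans (le_trans (by norm_num) (add_le_add_left a1 1)) a2)
      rw [IsLocalRing.maximalIdeal_height_eq_ringKrullDim, h1] at a3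
      exact absurd a3 (by decide)
    have hM' := IsLocalization.map_under (Submonoid.powers f) Af M
    rw [← hM']
    exact Ideal.map_mono (le_of_eq hz)
  have key : ∀ (q : Ideal A) (hq : q.IsPrime), P.comap (algebraMap A Af) = q →
      Nonempty (Localization.AtPrime P ≃+* Localization.AtPrime q) := by
    rintro q hq rfl
    exact ⟨(IsLocalization.localizationLocalizationAtPrimeIsoLocalization (Submonoid.powers f) P).toRingEquiv.symm⟩
  obtain ⟨ε⟩ := key x.asIdeal x.2 hcomap
  exact purityHolds_of_ringEquiv ε (hp P hmax)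

end Groth.L13.FEtLeff
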