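import Groth.Agent.L13.FEtLeff.GammaLocal
import Groth.Agent.L27.Lefschetz.DualHyp

/-! Covers near a hypersurface when only a multiple of the sections of a higher level is finite. -/

set_option autoImplicit false
set_option linter.style.haveILetI false
set_option linter.unusedSectionVars false
set_option backward.isDefEq.respectTransparency false
set_option backward.isDefEq.respectTransparency.types false

universe u

open CategoryTheory CategoryTheory.Limits AlgebraicGeometry TopologicalSpace Opposite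
open IsLocalRing (maximalIdeal closedPoint)

attribute [local instance] HasDerivedCategory.standard

noncomputable section

namespace Groth.L13.FEtLeff

variable {A : Type u} [CommRing A] [IsNoetherianRing A] [IsLocalRing A]

open Groth.L29 Groth.L29.HomD Groth.L29.DualKill in
/-- `f^M Hⁱ_𝔪(A/f^(M+1))` is killed by a power of the maximal ideal for `i ≤ 2`. -/
theorem exists_kills_degree {ω : Dual.D A} (hω : Dual.IsDualizing A ω) (hn : Dual.IsNormalized A ω) (f : A)
    (hf : f ∈ nonZeroDivisors A) (i : ℕ) (hi : i ≤ 2)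
    (h₆ : ∀ (p : Ideal A) [p.IsPrime], f ∉ p →
      (∃ r : Ideal A, r.IsPrime ∧ p ≤ r ∧ f ∈ r ∧ r ≠ maximalIdeal A) →
      (3 : WithBot ℕ∞) < ((LocCoh.depth (Localization.AtPrime p) (Localization.AtPrime p) : ℕ∞) : WithBot ℕ∞) +
        ringKrullDim (A ⧸ p)) :
    ∃ M e : ℕ, ∀ a ∈ maximalIdeal A ^ e, ∀ x : LocCoh.H (maximalIdeal A) i (A ⧸ Ideal.span {f ^ (M + 1 + 1)}),
      a • f ^ (M + 1) • x = 0 := by
  obtain ⟨c₂, hc₂⟩ := exists_torsion_near hω hn f i (by omega) h₆
  obtain ⟨c₃, hc₃⟩ := exists_torsion_near hω hn f (i + 1) (by omega) h₆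
  let M := c₂ + c₃
  let I : Ideal A := Ideal.span {f ^ (M + 1 + 1)}
  let μ : A →ₗ[A] A := f ^ (M + 1 + 1) • LinearMap.id
  have hμ : Function.Injective μ := (injective_iff_map_eq_zero _).2 fun x hx =>
    (mul_right_mem_nonZeroDivisors_eq_zero_iff (pow_mem hf (M + 1 + 1))).1 (by rw [mul_comm]; exact hx)
  have hex : Function.Exact μ (Ideal.Quotient.mkₐ A I).toLinearMap := fun x => by
    refine ⟨fun hx => ?_, ?_⟩
    · obtain ⟨b, hb⟩ := Ideal.mem_span_singleton'.1 (Ideal.Quotient.eq_zero_iff_mem.1 hx)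
      exact ⟨b, by rw [← hb]; exact mul_comm _ _⟩
    · rintro ⟨b, rfl⟩
      exact Ideal.Quotient.eq_zero_iff_mem.2 (Ideal.mem_span_singleton'.2 ⟨b, mul_comm _ _⟩)
  have hg : Function.Surjective (Ideal.Quotient.mkₐ A I).toLinearMap := Ideal.Quotient.mk_surjective
  have hloc : ∀ p : PrimeSpectrum A, p.asIdeal ≠ maximalIdeal A → ∃ s, s ∉ p.asIdeal ∧
      ∀ x : Dual.inD A (A ⧸ I) ⟶ ω⟦(-((i + 1 : ℕ) : ℤ)) + 1⟧, s • f ^ (M + 1) • x = 0 := by
    intro p hp
    by_cases hfp : f ∈ p.asIdeal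
    · obtain ⟨s₂, hs₂, h2⟩ := hc₂ p hfp hp
      obtain ⟨s₃, hs₃, h3⟩ := hc₃ p hfp hp
      refine ⟨s₂ * s₃, fun h => (p.2.mem_or_mem h).elim hs₂ hs₃, fun x => ?_⟩
      have h2' : ∀ z : Dual.inD A A ⟶ ω⟦(-((i + 1 : ℕ) : ℤ)) + 1⟧, s₂ • f ^ c₂ • z = 0 := by
        rw [show (-((i + 1 : ℕ) : ℤ)) + 1 = -(i : ℤ) by push_cast; ring]
        exact h2
      have h0 : pre ω (Ideal.Quotient.mkₐ A I).toLinearMap (-((i + 1 : ℕ) : ℤ) + 1) ((s₂ * f ^ c₂) • x) = 0 := by
        rw [map_smul, mul_smul]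
        exact h2' _
      obtain ⟨y, hy⟩ := (exact_right ω μ _ hμ hg hex (-((i + 1 : ℕ) : ℤ)) _).1 h0
      have h4 : (s₃ * f ^ c₃) • (s₂ * f ^ c₂) • x = 0 := by
        rw [← hy, ← map_smul, mul_smul, h3, map_zero]
      have h5 := congrArg (f • ·) h4
      simp only [smul_smul, smul_zero] at h5
      rw [smul_smul, show s₂ * s₃ * f ^ (M + 1) = f * (s₃ * f ^ c₃ * (s₂ * f ^ c₂)) by
        rw [show M = c₂ + c₃ from rfl, pow_succ, pow_add]; ring]
      simpa [mul_assoc] using h5
    · refine ⟨f, hfp, fun x => ?_⟩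
      rw [smul_smul, ← pow_succ']
      have : (f ^ (M + 1 + 1) • (LinearMap.id : (A ⧸ I) →ₗ[A] A ⧸ I)) = 0 := LinearMap.ext fun z => by
        obtain ⟨b, rfl⟩ := Ideal.Quotient.mk_surjective z
        exact Ideal.Quotient.eq_zero_iff_mem.2 (Ideal.mul_mem_right b I (Ideal.mem_span_singleton_self _))
      calc f ^ (M + 1 + 1) • x = pre ω (f ^ (M + 1 + 1) • (LinearMap.id : (A ⧸ I) →ₗ[A] A ⧸ I)) _ x := by
            rw [pre_smul, pre_id]; rfl
        _ = 0 := by rw [this, pre_zero]; rfl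
  obtain ⟨e, he⟩ := exists_pow_of_local _ (f ^ (M + 1)) hloc
  refine ⟨M, e, fun a ha x => ?_⟩
  have h : a * f ^ (M + 1) ∈ Module.annihilator A (Dual.inD A (A ⧸ I) ⟶ ω⟦(-(i : ℤ))⟧) := by
    rw [show (-(i : ℤ)) = -((i + 1 : ℕ) : ℤ) + 1 by push_cast; ring]
    exact he a ha
  rw [← annihilator_H_eq hω hn (A ⧸ I) i] at h
  rw [← mul_smul]
  exact Module.mem_annihilator.1 h x

open Groth.L04.LC Groth.L29.FreeLevels Groth.L04.PunctLin in
/-- A multiple of the sections of a level is Noetherian. -/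
theorem isNoetherian_sections_multiple (I : Ideal A)
    (G₀ : (LocCoh.puncturedOpen A (maximalIdeal A) : Scheme.{u}).Modules) (hc : Coh.IsCoh G₀)
    (hk : _root_.Formal.KilledBy I G₀) (hfree : Formal2.IsFinLocFreeMod I (0 + 1) G₀) (c : A) (k : ℕ)
    (h₁ : ∀ a ∈ maximalIdeal A ^ k, ∀ x : LocCoh.H (maximalIdeal A) 1 (Formal2.quotPow A I A 0), a • c • x = 0) :
    IsNoetherian A (LinearMap.range
      (c • (LinearMap.id : ((Sec (LocCoh.puncturedOpen A (maximalIdeal A))).obj G₀ : Type u) →ₗ[A] _))) := by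
  haveI : IsNoetherianRing (CommRingCat.of A) := ‹IsNoetherianRing A›
  haveI : Coh.IsQCoh G₀ := hc.1
  let 𝔪 := maximalIdeal A
  let U := LocCoh.puncturedOpen A 𝔪
  obtain ⟨N, hN, ⟨e⟩⟩ := Groth.L14.PicSurj.exists_tilde_extension' U G₀ hc.2
  haveI : Module.Finite A N := hN
  obtain ⟨l, hl⟩ := exists_killed_set 𝔪 I N 1 ((fun a => a * c) '' ((𝔪 ^ k : Ideal A) : Set A))
    (by rintro _ ⟨a, ha, rfl⟩ x; rw [mul_smul]; exact h₁ a ha x) (exists_local_factor 𝔪 I N G₀ e hk hfree)
  haveI : IsArtinian A (LocCoh.H 𝔪 1 N) := isArtinian_H_maximalIdeal 1 N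
  let R := LinearMap.range (c • (LinearMap.id : LocCoh.H 𝔪 1 N →ₗ[A] _))
  haveI : IsNoetherian A R := isNoetherian_of_artinian_of_killed (l + k) fun a ha x => by
    obtain ⟨_, y, rfl⟩ := x
    refine Subtype.ext ?_
    change a • c • y = 0
    rw [pow_add] at ha
    refine Submodule.mul_induction_on ha (fun b hb d hd => ?_) fun p q hp hq => by rw [add_smul, hp, hq, add_zero]
    rw [← mul_smul, mul_assoc]
    exact hl b hb _ ⟨d, hd, rfl⟩ y
  obtain ⟨-, ⟨d⟩⟩ := Groth.L04.Koszul.Cech.exists_toOpen_punctured 𝔪 N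
  let t := (tilde.toOpen (R := CommRingCat.of A) N U).hom
  let S := Groth.L04.PunctLin.sect U N
  let Q := LinearMap.range (c • (LinearMap.id : (S : Type u) →ₗ[A] _))
  let q : (S : Type u) →ₗ[A] LocCoh.H 𝔪 1 N := d.toLinearMap.comp (LinearMap.range t).mkQ
  have hq : LinearMap.ker q = LinearMap.range t :=
    (LinearMap.ker_comp_of_ker_eq_bot _ d.ker).trans (Submodule.ker_mkQ _)
  haveI : IsNoetherian A N := isNoetherian_of_isNoetherianRing_of_finite A N
  haveI : IsNoetherian A (LinearMap.range t) := isNoetherian_range t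
  haveI : IsNoetherian A Q := by
    have hR : Q.map q ≤ R := by
      rintro _ ⟨_, ⟨y, rfl⟩, rfl⟩
      exact ⟨q y, (map_smul q c y).symm⟩
    haveI : IsNoetherian A (Q.map q) := isNoetherian_of_le hR
    refine isNoetherian_submodule.2 fun s hs => Submodule.fg_of_fg_map_of_fg_inf_ker q ?_ ?_
    · exact isNoetherian_submodule.1 ‹IsNoetherian A (Q.map q)› _ (Submodule.map_mono hs)
    · exact isNoetherian_submodule.1 ‹IsNoetherian A (LinearMap.range t)› _ (inf_le_right.trans hq.le)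
  let ψ := (Groth.L04.PunctLin.gamma U N).symm.trans
    ((Groth.L29.FreeLevels.Φ U (tM U N)).trans ((Sec U).mapIso e).toLinearEquiv)
  haveI : IsNoetherian A (Q.map ψ.toLinearMap) := isNoetherian_map _
  exact isNoetherian_of_le (t := Q.map ψ.toLinearMap) (by
    rintro _ ⟨z, rfl⟩
    exact ⟨c • ψ.symm z, ⟨ψ.symm z, rfl⟩, (map_smul _ c _).trans (congrArg (c • ·) (ψ.apply_symm_apply z))⟩)

end Groth.L13.FEtLeff

namespace Groth.L13.FEtLeff.Tower

open Groth.L29.FreeLevels

variable {A : Type u} [CommRing A] [IsNoetherianRing A] {f : A} {X : ℕᵒᵖ ⥤ ModuleCat.{u} A} {W : Type u}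
  [AddCommGroup W] [Module A W] (L : Levels X f W)

/-- The composite multiplication map from the bottom level. -/
def up : ∀ m, X.obj (op 0) →ₗ[A] X.obj (op m)
  | 0 => LinearMap.id
  | m + 1 => (L.e m).comp (up m)

theorem up_injective : ∀ m, Function.Injective (up L m)
  | 0 => Function.injective_id
  | m + 1 => (L.e_injective m).comp (up_injective m)

theorem up_tr : ∀ m (x : X.obj (op m)), up L m ((X.map (homOfLE (Nat.zero_le m)).op).hom x) = f ^ m • x
  | 0, x => by rw [pow_zero, one_smul]; exact Levels.tr_refl _ _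
  | m + 1, x => by
    rw [← Levels.tr_tr (Nat.zero_le m) (Nat.le_succ m)]
    refine (congrArg (L.e m) (up_tr m _)).trans ?_
    rw [map_smul, L.tr_e, smul_smul, ← pow_succ]

include L in
/-- The image of a level in the bottom one is finite once a multiple of that level is. -/
theorem finite_range_tr (m : ℕ)
    [IsNoetherian A (LinearMap.range (f ^ m • (LinearMap.id : (X.obj (op m) : Type u) →ₗ[A] _)))] :
    Module.Finite A (LinearMap.range (X.map (homOfLE (Nat.zero_le m)).op).hom) := by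
  let P := LinearMap.range (X.map (homOfLE (Nat.zero_le m)).op).hom
  let R := LinearMap.range (f ^ m • (LinearMap.id : (X.obj (op m) : Type u) →ₗ[A] _))
  have hle : ∀ x : P, up L m x.1 ∈ R := by
    rintro ⟨_, y, rfl⟩
    exact ⟨y, (up_tr L m y).symm⟩
  exact Module.Finite.of_injective (((up L m).comp P.subtype).codRestrict R hle) fun x y h =>
    Subtype.ext (up_injective L m (congrArg Subtype.val h))

end Groth.L13.FEtLeff.Tower

namespace Groth.L13.FEtLeff

open Groth.L29.FreeLevels in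
/-- The image in the bottom level is finite once a multiple of the sections of a level is Noetherian. -/
theorem finite_range_sectMod {A : Type u} [CommRing A] [IsNoetherianRing A] {U : (Spec (CommRingCat.of A)).Opens}
    {f : A} {G : ℕᵒᵖ ⥤ (U : Scheme.{u}).Modules} (hG : _root_.Formal.IsCohFormal (Ideal.span {f}) G)
    (hfree : ∀ n : ℕ, Formal2.IsFinLocFreeMod (Ideal.span {f}) (n + 1) (G.obj (op n))) (hf : f ∈ nonZeroDivisors A)
    (m : ℕ) (h : IsNoetherian A (LinearMap.range (f ^ m • (LinearMap.id : ((Sec U).obj (G.obj (op m)) : Type u) →ₗ[A] _)))) :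
    Module.Finite A (LinearMap.range ((_root_.Algz.sectMod A U G).map (homOfLE (Nat.zero_le m)).op).hom) :=
  @Tower.finite_range_tr A _ _ f _ _ _ _ (levels hG hfree hf) m h

/-- The values of compatible functions at the bottom level come from every level. -/
theorem Gamma.toX_mem_range {A : Type u} [CommRing A] [IsNoetherianRing A] {U : (Spec (CommRingCat.of A)).Opens}
    {𝓙 : (U : Scheme.{u}).IdealSheafData} (C : Cover 𝓙) (s : Gamma.lim C) (m : ℕ) :
    Gamma.toX C 0 (s.1 0) ∈ LinearMap.range ((Gamma.XS C).map (homOfLE (Nat.zero_le m)).op).hom :=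
  ⟨Gamma.toX C m (s.1 m), Tower.compat_le ((Gamma.compat_iff C s.1).1 s.2) (Nat.zero_le m)⟩

variable {A : Type u} [CommRing A] [IsNoetherianRing A] {f : A} [IsAdicComplete (Ideal.span {f}) A]

/-- Extension for a nonzerodivisor under the depth condition off the hypersurface. -/
theorem exists_extension_of_hSix [IsLocalRing A] (hω : ∃ ω : Dual.D A, Dual.IsDualizing A ω)
    (hnzd : f ∈ nonZeroDivisors A)
    (U : (Spec (CommRingCat.of A)).Opens) (hU : U = LocCoh.puncturedOpen A (maximalIdeal A))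
    (h₆ : ∀ (p : Ideal A) [p.IsPrime], f ∉ p →
      (∃ r : Ideal A, r.IsPrime ∧ p ≤ r ∧ f ∈ r ∧ r ≠ maximalIdeal A) →
      (3 : WithBot ℕ∞) < ((LocCoh.depth (Localization.AtPrime p) (Localization.AtPrime p) : ℕ∞) : WithBot ℕ∞) +
        ringKrullDim (A ⧸ p))
    (R : FEt.Cat ((FSch.idealSpec A (Ideal.span {f})).comap U.ι).subscheme) :
    ∃ (V : (U : Scheme.{u}).Opens) (W : FEt.Cat (V : Scheme.{u})),
      (((FSch.idealSpec A (Ideal.span {f})).comap U.ι).support : Set (U : Scheme.{u})) ⊆ (V : Set (U : Scheme.{u})) ∧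
      ∀ i : ((FSch.idealSpec A (Ideal.span {f})).comap U.ι).subscheme ⟶ (V : Scheme.{u}),
        i ≫ V.ι = ((FSch.idealSpec A (Ideal.span {f})).comap U.ι).subschemeι →
        Nonempty ((FEt.restrict i).obj W ≅ R) := by
  subst hU
  refine exists_extension_of_lim_finite hnzd _ _ rfl (fun C => ?_) R
  have hG := Gamma.isCohFormal C f rfl
  have hfree := Gamma.isFinLocFreeMod C f rfl
  obtain ⟨ω, hω, hn⟩ := Groth.L29.DualKill.exists_normalized hω
  let 𝔪 := maximalIdeal A
  let G := Gamma.gSysC C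
  let e : ∀ I : Ideal A, Formal2.quotPow A I A 0 ≃ₗ[A] A ⧸ I := fun I =>
    Submodule.quotEquivOfEq _ _ (by rw [zero_add, pow_one, smul_eq_mul, Ideal.mul_top])
  have hH : ∀ (I : Ideal A) (i : ℕ) (c : A), (∀ x : LocCoh.H 𝔪 i (A ⧸ I), c • x = 0) →
      ∀ x : LocCoh.H 𝔪 i (Formal2.quotPow A I A 0), c • x = 0 := fun I i c h x => by
    refine (((localCohomology 𝔪 i).mapIso (e I).toModuleIso).toLinearEquiv).injective ?_
    rw [map_smul, map_zero]
    exact h _
  have hfree' : ∀ M : ℕ, Formal2.IsFinLocFreeMod (Ideal.span {f ^ (M + 1)}) (0 + 1) (G.obj (op M)) := by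
    intro M x
    obtain ⟨V, r, hx, φ⟩ := hfree M x
    refine ⟨V, r, hx, ?_⟩
    show Nonempty (_ ≅ (CategoryTheory.Limits.cokernel (Formal.smulFamily ((Ideal.span {f ^ (M + 1)}) ^ (0 + 1)) _)).restrict V.ι)
    rw [show (Ideal.span {f ^ (M + 1)}) ^ (0 + 1) = Ideal.span {f} ^ (M + 1) by
      rw [zero_add, pow_one, Ideal.span_singleton_pow]]
    exact φ
  have hkill : ∀ M : ℕ, Formal.KilledBy (Ideal.span {f ^ (M + 1)}) (G.obj (op M)) := fun M a ha =>
    hG.2.1 M a (by rwa [Ideal.span_singleton_pow])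
  obtain ⟨M₁, e₁, he₁⟩ := exists_kills_degree hω hn f hnzd 1 (by omega) h₆
  obtain ⟨M, e₂, he₂⟩ := exists_kills_degree hω hn f hnzd 2 le_rfl h₆
  have hN := isNoetherian_sections_multiple _ (G.obj (op (M₁ + 1))) (hG.1 _) (hkill _) (hfree' _) (f ^ (M₁ + 1)) e₁
    (fun a ha x => by rw [← mul_smul]; exact hH _ 1 _ (fun y => by rw [mul_smul]; exact he₁ a ha y) x)
  have hfin := finite_range_sectMod hG hfree hnzd (M₁ + 1) hN
  haveI := Groth.L29.FreeLevels.isNoetherian_multiple _ (G.obj (op (M + 1))) (hG.1 (M + 1)) (hkill _) (hfree' _)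
    (f ^ (M + 1)) e₂ (fun a ha x => by rw [← mul_smul]; exact hH _ 2 _ (fun y => by rw [mul_smul]; exact he₂ a ha y) x)
  let ψ : Coh.HH (LocCoh.puncturedOpen A 𝔪 : Scheme.{u}) (G.obj (op 0)) 1 →ₗ[A]
      Coh.HH (LocCoh.puncturedOpen A 𝔪 : Scheme.{u}) (G.obj (op (M + 1))) 1 :=
    { toFun := Groth.L16.CohLinear.hmap (Groth.L29.FreeLevels.jMap hG M) 1
      map_add' := map_add _
      map_smul' := fun a x => by
        rw [RingHom.id_apply, ← Groth.L16.Rees.hmap_smulMod A _ a 1 x, ← Groth.L16.CohLinear.hmap_comp,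
          Groth.L16.Rees.smulMod_naturality, Groth.L16.CohLinear.hmap_comp, Groth.L16.Rees.hmap_smulMod] }
  exact ⟨@Gamma.lim_finite_of_image _ _ _ _ C _ f rfl hnzd _
      (LinearMap.range ((Gamma.XS C).map (homOfLE (Nat.zero_le (M₁ + 1))).op).hom) hfin
      (fun s => Gamma.toX_mem_range C s (M₁ + 1)),
    (Groth.L29.FreeLevels.levels hG hfree hnzd).exists_stable_of_map ψ (LinearMap.range
      (f ^ (M + 1) • (LinearMap.id : Coh.HH (LocCoh.puncturedOpen A 𝔪 : Scheme.{u}) (G.obj (op (M + 1))) 1 →ₗ[A] _))) M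
      (fun x hx => Groth.L29.FreeLevels.ker_hmap_le hG hfree hnzd M x hx)
      (fun n y => Groth.L29.FreeLevels.hmap_obs_mem hG hfree hnzd M n y)⟩

section

variable {A : Type u} [CommRing A] [IsNoetherianRing A] {f : A}

/-- The depth condition off the hypersurface from Serre's condition on the localisation. -/
theorem depth_add_dim_gt_three [IsLocalRing A] (f : A) (hf : f ∈ maximalIdeal A) (hd : ∃ ω : Dual.D A, Dual.IsDualizing A ω)
    (hS : LocCoh.HasSk 2 (Localization.Away f) (Localization.Away f))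
    (hmin : ∀ p : Ideal A, p ∈ minimalPrimes A → f ∉ p → (4 : WithBot ℕ∞) ≤ ringKrullDim (A ⧸ p))
    (p : Ideal A) (hp : p.IsPrime) (hfp : f ∉ p)
    (hr : ∃ r : Ideal A, r.IsPrime ∧ p ≤ r ∧ f ∈ r ∧ r ≠ maximalIdeal A) :
    (3 : WithBot ℕ∞) < (LocCoh.depth (Localization.AtPrime p) (Localization.AtPrime p) : WithBot ℕ∞) + ringKrullDim (A ⧸ p) := by
  obtain ⟨ω, hω, hn⟩ := Groth.L29.DualKill.exists_normalized hd
  haveI : IsNoetherianRing (Localization.AtPrime p) := IsLocalization.isNoetherianRing p.primeCompl _ inferInstance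
  have hdisj : Disjoint (Submonoid.powers f : Set A) (p : Set A) :=
    Set.disjoint_left.2 (by rintro _ ⟨k, rfl⟩ hx; exact hfp (hp.mem_of_pow_mem k hx))
  have hS' : min (2 : WithBot ℕ∞) (ringKrullDim (Localization.AtPrime p)) ≤
      ((LocCoh.depth (Localization.AtPrime p) (Localization.AtPrime p) : ℕ∞) : WithBot ℕ∞) := by
    let Af := Localization.Away f
    haveI : IsNoetherianRing Af := IsLocalization.isNoetherianRing (Submonoid.powers f) Af inferInstance
    let P := p.map (algebraMap A Af)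
    haveI hP : P.IsPrime := IsLocalization.isPrime_of_isPrime_disjoint (Submonoid.powers f) Af p hp hdisj
    haveI : IsNoetherianRing (Localization.AtPrime P) := IsLocalization.isNoetherianRing P.primeCompl _ inferInstance
    have hcomap : P.comap (algebraMap A Af) = p :=
      IsLocalization.under_map_of_isPrime_disjoint (Submonoid.powers f) Af hp hdisj
    have key : ∀ (q : Ideal A) (hq : q.IsPrime), P.comap (algebraMap A Af) = q →
        Nonempty (Localization.AtPrime q ≃+* Localization.AtPrime P) := by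
      rintro q hq rfl
      exact ⟨(IsLocalization.localizationLocalizationAtPrimeIsoLocalization (Submonoid.powers f) P).toRingEquiv⟩
    obtain ⟨ε⟩ := key p hp hcomap
    rw [ringKrullDim_eq_of_ringEquiv ε, ← Groth.L06.FlatFibre.depth_eq_of_ringEquiv ε]
    exact (Groth.L06.FlatFibre.hasSk_self_iff 2).1 hS P
  obtain ⟨e, he⟩ := Groth.L01.exists_dim_eq_nat (R := A ⧸ p)
  obtain ⟨h, hh⟩ := Groth.L01.exists_dim_eq_nat (R := Localization.AtPrime p)
  have hht : p.height = h := by
    have := IsLocalization.AtPrime.ringKrullDim_eq_height p (Localization.AtPrime p)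
    rw [hh] at this
    exact_mod_cast this.symm
  let P₀ : PrimeSpectrum A := ⟨p, hp⟩
  have hdP : Groth.L29.HomD.dimFun hω P₀ = (e : ℤ) := Groth.L29.HomD.dimFun_eq_dim hω hn P₀ e he
  have he2 : 2 ≤ e := by
    obtain ⟨r, hrp, hpr, hfr, hrm⟩ := hr
    let R₀ : PrimeSpectrum A := ⟨r, hrp⟩
    have hlt : P₀ < R₀ := lt_of_le_of_ne hpr fun heq =>
      hfp (by rw [show p = r from congrArg PrimeSpectrum.asIdeal heq]; exact hfr)
    have hlt' : R₀ < closedPoint A := lt_of_le_of_ne (IsLocalRing.le_maximalIdeal hrp.ne_top) fun heq =>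
      hrm (congrArg PrimeSpectrum.asIdeal heq)
    obtain ⟨e₀, he₀⟩ := Groth.L01.exists_dim_eq_nat (R := A ⧸ (closedPoint A).asIdeal)
    have h1 := Groth.L29.HomD.dimFun_strictAnti hω hlt
    have h2 := Groth.L29.HomD.dimFun_strictAnti hω hlt'
    rw [hdP] at h1
    rw [Groth.L29.HomD.dimFun_eq_dim hω hn _ e₀ he₀] at h2
    omega
  have hdep : ∀ k : ℕ, k ≤ h → k ≤ 2 →
      (k : WithBot ℕ∞) ≤ ((LocCoh.depth (Localization.AtPrime p) (Localization.AtPrime p) : ℕ∞) : WithBot ℕ∞) :=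
    fun k hk hk2 => le_trans (le_min (by exact_mod_cast hk2) (by rw [hh]; exact_mod_cast hk)) hS'
  have fin : ∀ k : ℕ, k ≤ h → k ≤ 2 → 3 < k + e →
      (3 : WithBot ℕ∞) < (LocCoh.depth (Localization.AtPrime p) (Localization.AtPrime p) : WithBot ℕ∞) + ringKrullDim (A ⧸ p) := by
    intro k hk hk2 hlt
    refine lt_of_lt_of_le (b := ((k + e : ℕ) : WithBot ℕ∞)) (by exact_mod_cast hlt) ?_
    rw [he, Nat.cast_add]
    exact add_le_add (hdep k hk hk2) le_rfl
  rcases Nat.lt_or_ge 1 h with h2 | h2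
  · exact fin 2 h2 le_rfl (by omega)
  rcases Nat.eq_zero_or_pos h with rfl | hpos
  · refine fin 0 le_rfl (by omega) ?_
    have := hmin p (Ideal.height_eq_zero_iff.1 (by rw [hht, Nat.cast_zero])) hfp
    rw [he] at this
    have : 4 ≤ e := by exact_mod_cast this
    omega
  · obtain ⟨q, hq, hqp⟩ := Ideal.exists_minimalPrimes_le (show (⊥ : Ideal A) ≤ p from bot_le)
    have hfq : f ∉ q := fun h => hfp (hqp h)
    haveI := hq.1.1
    have hne : q ≠ p := fun heq => by
      have hp0 : p.height = 0 := Ideal.height_eq_zero_iff.2 (heq ▸ hq)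
      rw [hht] at hp0
      have : h = 0 := by exact_mod_cast hp0
      omega
    let Q₀ : PrimeSpectrum A := ⟨q, hq.1.1⟩
    have hcov : Q₀ ⋖ P₀ := by
      refine ⟨lt_of_le_of_ne hqp fun h => hne (congrArg PrimeSpectrum.asIdeal h), fun R hQR hRP => ?_⟩
      haveI := R.2
      have h3 : q.height + 1 ≤ R.asIdeal.height := Order.add_one_le_of_lt (Ideal.height_strict_mono_of_isPrime hQR)
      have h4 : R.asIdeal.height < p.height := Ideal.height_strict_mono_of_isPrime hRP
      rw [hht] at h4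
      have h5 : (1 : ℕ∞) ≤ R.asIdeal.height := le_trans (by exact le_add_self) h3
      have h6 : (1 : ℕ∞) < (h : ℕ∞) := lt_of_le_of_lt h5 h4
      have : 1 < h := by exact_mod_cast h6
      omega
    obtain ⟨e', he'⟩ := Groth.L01.exists_dim_eq_nat (R := A ⧸ q)
    have h7 := Groth.L29.HomD.dimFun_covBy hω Q₀ P₀ hcov
    rw [hdP, Groth.L29.HomD.dimFun_eq_dim hω hn Q₀ e' he'] at h7
    have h8 := hmin q hq hfq
    rw [he'] at h8
    have h9 : 4 ≤ e' := by exact_mod_cast h8
    exact fin 1 hpos (by omega) (by omega)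

/-- A prime not containing `f` has a smaller closure meeting `V(f)` off the closed point. -/
theorem exists_prime_of_radical_ne [IsLocalRing A] {p : Ideal A} (hp : p.IsPrime) (hf : f ∈ maximalIdeal A) :
    (p ⊔ Ideal.span {f}).radical ≠ maximalIdeal A ↔
      ∃ r : Ideal A, r.IsPrime ∧ p ≤ r ∧ f ∈ r ∧ r ≠ maximalIdeal A := by
  refine ⟨fun h => ?_, fun ⟨r, hr, hpr, hfr, hrm⟩ h => hrm ?_⟩
  · by_contra hc
    refine h (le_antisymm ?_ ?_)
    · exact (IsLocalRing.maximalIdeal.isMaximal A).isPrime.radical_le_iff.2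
        (sup_le (IsLocalRing.le_maximalIdeal hp.ne_top) ((Ideal.span_singleton_le_iff_mem _).2 hf))
    · rw [Ideal.radical_eq_sInf]
      refine le_sInf fun q ⟨hq, hq'⟩ => ?_
      by_contra hqm
      exact hc ⟨q, hq', le_sup_left.trans hq, hq (Ideal.mem_sup_right (Ideal.mem_span_singleton_self f)),
        fun e => hqm e.ge⟩
  · exact le_antisymm (IsLocalRing.le_maximalIdeal hr.ne_top)
      (h ▸ hr.radical_le_iff.2 (sup_le hpr ((Ideal.span_singleton_le_iff_mem _).2 hfr)))

end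

end Groth.L13.FEtLeff
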