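import Groth.Agent.L18.OffAffineCoh
import Groth.Agent.L18.LefTwists
import Groth.Agent.L18.LefExtend
import Groth.Agent.L18.CIProjUnit
import Groth.Agent.L08.Cube.Inverse
import Groth.Agent.L22.PDual.TwistExt
import Groth.Agent.L22.PDual.ExtSheafHom

/-! Formal comparison of homomorphisms along the zero scheme of a section of an ample module. -/

set_option autoImplicit false
set_option linter.style.haveILetI false
set_option backward.isDefEq.respectTransparency false
set_option backward.isDefEq.respectTransparency.types false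

universe u

open CategoryTheory CategoryTheory.Limits AlgebraicGeometry

noncomputable section

namespace Groth.L13.FEtLeff.LefSection

open Groth.L00.Tensor (tensorMap tensorAssoc tensorIso tensorUnitRight tensorComm tensorRightF tensorLeftF tensorFlipIso)
open Groth.L18.GenLoc (secOf secOf_homOfSection homOfSection_secOf)

variable {X : Scheme.{u}}

instance additive_tensorLeftF (L : X.Modules) : (tensorLeftF L).Additive :=
  Functor.additive_of_iso (Groth.L22.PDual.biIso L).symm

/-- `L ⊗ I ⟶ L`. -/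
def twi (L : X.Modules) (I : X.IdealSheafData) : (tensorLeftF L).obj (ClSub.idealMod I) ⟶ L :=
  (tensorLeftF L).map (ClSub.idealModι I) ≫ (tensorUnitRight L).hom

/-- `L ⟶ L ⊗ O/I`. -/
def twp (L : X.Modules) (I : X.IdealSheafData) : L ⟶ (tensorLeftF L).obj (ClSub.quotMod I) :=
  (tensorUnitRight L).inv ≫ (tensorLeftF L).map (ClSub.toSubscheme I)

theorem twi_twp (L : X.Modules) (I : X.IdealSheafData) : twi L I ≫ twp L I = 0 := by
  simp only [twi, twp, Category.assoc, Iso.hom_inv_id_assoc]
  rw [← Functor.map_comp, show ClSub.idealModι I ≫ ClSub.toSubscheme I = 0 from kernel.condition _,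
    Functor.map_zero]

theorem shortExact_twp (I : X.IdealSheafData) {L : X.Modules} (hL : PicF.IsInvertible L) :
    (ShortComplex.mk (twi L I) (twp L I) (twi_twp L I)).ShortExact := by
  have h := Groth.L16.FrameIso.shortExact_tensor_left (Groth.L21.RR.isFlat_of_isInvertible hL) _
    (Groth.L21.RR.shortExact_idealSeq I)
  have h' := (ShortComplex.shortExact_iff_of_iso
    ((Groth.L21.RR.idealSeq I).mapNatIso (Groth.L22.PDual.biIso L))).2 h
  refine (ShortComplex.shortExact_iff_of_iso (S₁ := (Groth.L21.RR.idealSeq I).map (tensorLeftF L))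
    (S₂ := ShortComplex.mk (twi L I) (twp L I) (twi_twp L I)) (ShortComplex.isoMk (Iso.refl _)
    (tensorUnitRight L) (Iso.refl _) ?_ ?_)).1 h'
  · exact Category.id_comp _
  · exact (Iso.hom_inv_id_assoc _ _).trans (Category.comp_id _).symm

theorem twp_quotMap (L : X.Modules) {I J : X.IdealSheafData} (h : I ≤ J) :
    twp L I ≫ (tensorLeftF L).map (Lef.quotMap h) = twp L J := by
  simp only [twp, Category.assoc]
  rw [← Functor.map_comp, Groth.L18.LefConnected.toSubscheme_quotMap]

/-- `I L` is the kernel of `L → L ⊗ O/I`. -/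
theorem exists_idealMul_iso (J : X.IdealSheafData) {L : X.Modules} (hL : PicF.IsInvertible L) :
    ∃ e : (Dual3.idealMul J).obj L ≅ (tensorLeftF L).obj (ClSub.idealMod J),
      e.hom ≫ twi L J = Dual3.idealMulι J L := by
  have hS := shortExact_twp J hL
  haveI : Epi (twp L J) := hS.epi_g
  haveI : Mono (twi L J) := hS.mono_f
  obtain ⟨e⟩ := Groth.L18.CIProj.nonempty_quot_iso J hL
  let adj := Scheme.Modules.pullbackPushforwardAdjunction J.subschemeι
  let P := (Scheme.Modules.pullback J.subschemeι).obj L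
  let g : L ⟶ (Scheme.Modules.pushforward J.subschemeι).obj P := twp L J ≫ e.hom
  let h' : P ⟶ P := (adj.homEquiv L P).symm g
  have hg : adj.unit.app L ≫ (Scheme.Modules.pushforward J.subschemeι).map h' = g :=
    (adj.homEquiv_unit _ _ _).symm.trans ((adj.homEquiv L P).apply_symm_apply g)
  haveI : IsIso h' := by
    haveI : Epi g := epi_comp _ _
    haveI : Epi ((Scheme.Modules.pushforward J.subschemeι).map h') := by
      haveI : Epi (adj.unit.app L ≫ (Scheme.Modules.pushforward J.subschemeι).map h') := by rw [hg]; infer_instance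
      exact epi_of_epi (adj.unit.app L) _
    haveI := Groth.L17.ClosedPush.isIso_counit J.subschemeι
    haveI : (Scheme.Modules.pushforward J.subschemeι).Faithful := adj.fullyFaithfulROfIsIsoCounit.faithful
    haveI : Epi h' := (Scheme.Modules.pushforward J.subschemeι).epi_of_epi_map inferInstance
    exact Groth.L02.Canon.DescInvertible.isIso_of_epi_invertible h' (Groth.L18.Ample.isInvertible_pullback _ hL)
      (Groth.L18.Ample.isInvertible_pullback _ hL)
  haveI : IsIso ((Scheme.Modules.pushforward J.subschemeι).map h') := inferInstance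
  have h1 : Dual3.idealMulι J L ≫ twp L J = 0 := by
    rw [← cancel_mono e.hom, Category.assoc, zero_comp, show twp L J ≫ e.hom = g from rfl, ← hg, ← Category.assoc,
      show Dual3.idealMulι J L ≫ adj.unit.app L = 0 from kernel.condition _, zero_comp]
  have h2 : twi L J ≫ adj.unit.app L = 0 := by
    rw [← cancel_mono ((Scheme.Modules.pushforward J.subschemeι).map h'), Category.assoc, zero_comp, hg,
      ← Category.assoc, twi_twp, zero_comp]
  let a := hS.fIsKernel.lift (KernelFork.ofι (Dual3.idealMulι J L) h1)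
  have ha : a ≫ twi L J = Dual3.idealMulι J L :=
    hS.fIsKernel.fac (KernelFork.ofι (Dual3.idealMulι J L) h1) WalkingParallelPair.zero
  let b : (tensorLeftF L).obj (ClSub.idealMod J) ⟶ (Dual3.idealMul J).obj L := kernel.lift _ (twi L J) h2
  have hb : b ≫ Dual3.idealMulι J L = twi L J := kernel.lift_ι _ _ _
  refine ⟨⟨a, b, ?_, ?_⟩, ha⟩
  · rw [← cancel_mono (Dual3.idealMulι J L), Category.assoc, hb, ha, Category.id_comp]
  · rw [← cancel_mono (twi L J), Category.assoc, ha, hb, Category.id_comp]

theorem shortExact_idealMul_tw (J : X.IdealSheafData) {L : X.Modules} (hL : PicF.IsInvertible L) :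
    ∃ w : Dual3.idealMulι J L ≫ twp L J = 0, (ShortComplex.mk (Dual3.idealMulι J L) (twp L J) w).ShortExact := by
  obtain ⟨e, he⟩ := exists_idealMul_iso J hL
  have w : Dual3.idealMulι J L ≫ twp L J = 0 := by rw [← he, Category.assoc, twi_twp, comp_zero]
  refine ⟨w, (ShortComplex.shortExact_iff_of_iso (S₁ := ShortComplex.mk _ _ w)
    (S₂ := ShortComplex.mk _ _ (twi_twp L J))
    (ShortComplex.isoMk e (Iso.refl _) (Iso.refl _) ?_ ?_)).2 (shortExact_twp J hL)⟩
  · exact he.trans (Category.comp_id _).symm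
  · exact (Category.id_comp _).trans (Category.comp_id _).symm

/-- Homomorphisms out of a module which an equivalence makes free, from those out of the unit. -/
theorem homToFormalBijective_of_functor (I : X.IdealSheafData) (T : X.Modules ⥤ X.Modules) [T.IsEquivalence]
    [T.Additive] {La : X.Modules} (u : T.obj (Coh.structureModule X) ≅ La)
    (inj : ∀ x : Coh.structureModule X ⟶ La,
      (∀ m, x ≫ u.inv ≫ T.map (ClSub.toSubscheme (I ^ (m + 1))) = 0) → x = 0)
    (surj : ∀ y : (∀ m, Coh.structureModule X ⟶ T.obj (ClSub.quotMod (I ^ (m + 1)))),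
      (∀ m, y (m + 1) ≫ T.map (Lef.quotMap (Lef.pow_succ_le I m)) = y m) →
      ∃ x, ∀ m, x ≫ u.inv ≫ T.map (ClSub.toSubscheme (I ^ (m + 1))) = y m)
    {P : X.Modules} {r : ℕ} (e : T.obj P ≅ FlatMod.freeMod X r) :
    Lef.HomToFormalBijective I P := by
  let ι : Fin r → (Coh.structureModule X ⟶ T.obj P) := fun j =>
    Sigma.ι (fun _ : Fin r => Coh.structureModule X) j ≫ e.inv
  have hext : ∀ {M : X.Modules} (a b : T.obj P ⟶ M), (∀ j, ι j ≫ a = ι j ≫ b) → a = b := by
    intro M a b h
    rw [← cancel_epi e.inv]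
    refine Sigma.hom_ext _ _ fun j => ?_
    have := h j
    simp only [ι, Category.assoc] at this
    exact this
  refine ⟨fun φ ψ hφψ => sub_eq_zero.1 (T.map_injective ?_), fun y hy => ?_⟩
  · rw [Functor.map_zero, ← cancel_mono u.hom, zero_comp]
    refine hext _ _ fun j => ?_
    rw [comp_zero]
    refine inj _ fun m => ?_
    simp only [Category.assoc, u.hom_inv_id_assoc]
    rw [← Functor.map_comp, Preadditive.sub_comp, hφψ, sub_self, Functor.map_zero, comp_zero]
  · have hc' : ∀ j m, (ι j ≫ T.map (y (m + 1))) ≫ T.map (Lef.quotMap (Lef.pow_succ_le I m)) =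
        ι j ≫ T.map (y m) := fun j m => by
      rw [Category.assoc, ← Functor.map_comp, hy m]
    choose x hx using fun j => surj (fun m => ι j ≫ T.map (y m)) (hc' j)
    let Φ : T.obj P ⟶ La := e.hom ≫ Sigma.desc x
    refine ⟨T.preimage (Φ ≫ u.inv), fun n => T.map_injective (hext _ _ fun j => ?_)⟩
    rw [Functor.map_comp, Functor.map_preimage, ← hx j n]
    simp only [ι, Φ, Category.assoc, e.inv_hom_id_assoc, Sigma.ι_desc_assoc]

/-- From sections to homomorphisms out of the unit. -/
theorem unit_inj {La : X.Modules} {Q : ℕ → X.Modules} (π : ∀ m, La ⟶ Q m)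
    (h : ∀ σ : Γ(La, ⊤), (∀ m, (π m).app ⊤ σ = 0) → σ = 0) (x : Coh.structureModule X ⟶ La)
    (hx : ∀ m, x ≫ π m = 0) : x = 0 :=
  Groth.L18.LefConnected.hom_ext_secOf ((h (secOf x) fun m => congrArg secOf (hx m)).trans rfl)

/-- From sections to homomorphisms out of the unit. -/
theorem unit_surj {La : X.Modules} {Q : ℕ → X.Modules} (π : ∀ m, La ⟶ Q m) (τ : ∀ m, Q (m + 1) ⟶ Q m)
    (h : ∀ y : (∀ m, Γ(Q m, ⊤)), (∀ m, (τ m).app ⊤ (y (m + 1)) = y m) → ∃ σ : Γ(La, ⊤), ∀ m, (π m).app ⊤ σ = y m)
    (y : ∀ m, Coh.structureModule X ⟶ Q m) (hy : ∀ m, y (m + 1) ≫ τ m = y m) : ∃ x, ∀ m, x ≫ π m = y m := by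
  obtain ⟨σ, hσ⟩ := h (fun m => secOf (y m)) fun m => congrArg secOf (hy m)
  refine ⟨Groth.L16.homOfSection La σ, fun m => Groth.L18.LefConnected.hom_ext_secOf ?_⟩
  show (π m).app ⊤ (secOf (Groth.L16.homOfSection La σ)) = _
  rw [secOf_homOfSection]
  exact hσ m

variable (k : Type u) [Field k]

include k in
/-- Homomorphisms out of a module which a twist by `La` makes free. -/
theorem homToFormalBijective_of_twist (f : X ⟶ Spec (CommRingCat.of k)) [IsProper f] {L : X.Modules}
    (hL : CohB1.IsAmple L) (s : Coh.structureModule X ⟶ L) {La : X.Modules} (hLa : PicF.IsInvertible La)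
    (hd : ∀ x : X, IsClosed ({x} : Set X) → x ∉ (PicF2.zeroScheme L s).support →
      (2 : ℕ∞) ≤ LocCoh.depth (X.presheaf.stalk x) (La.presheaf.stalk x))
    [(tensorLeftF La).IsEquivalence] {P : X.Modules} {r : ℕ}
    (e : (tensorLeftF La).obj P ≅ FlatMod.freeMod X r) :
    Lef.HomToFormalBijective (PicF2.zeroScheme L s) P := by
  classical
  haveI : IsLocallyNoetherian X := LocallyOfFiniteType.isLocallyNoetherian f
  have hc : Coh.IsCoh La := Groth.L18.Ample.isCoh_of_isInvertible hLa
  choose w hS using fun m : ℕ => shortExact_idealMul_tw (PicF2.zeroScheme L s ^ (m + 1)) hLa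
  have hle : ∀ {a b : ℕ}, a ≤ b → ∃ l : (Dual3.idealMul (PicF2.zeroScheme L s ^ (b + 1))).obj La ⟶
      (Dual3.idealMul (PicF2.zeroScheme L s ^ (a + 1))).obj La,
      l ≫ Dual3.idealMulι (PicF2.zeroScheme L s ^ (a + 1)) La =
        Dual3.idealMulι (PicF2.zeroScheme L s ^ (b + 1)) La := fun {a b} h => by
    haveI := hc.1
    exact Groth.L17.IdealMulSec.exists_le (PicF2.zeroScheme L s ^ (b + 1)) La
      (Groth.L17.IdealMulExtend.pow_le_pow _ (Nat.add_le_add_right h 1))
  choose κ hκ using @hle
  have main := Groth.L18.OffAffine.sections_bijective _ _ _ (fun m => twp La (PicF2.zeroScheme L s ^ (m + 1)))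
    w hS (fun m => (tensorLeftF La).map (Lef.quotMap (Lef.pow_succ_le (PicF2.zeroScheme L s) m)))
    (fun m => twp_quotMap La _) @κ @hκ
    (fun i hi a => by
      obtain ⟨d, hd'⟩ := Groth.L18.OffAffine.exists_hmap_eq_zero_coh f hL s hc 1 hd i hi (a + 1)
      exact ⟨a + d, Nat.le_add_right a d, hd' (a + d + 1) (by omega) _ (hκ _)⟩)
  let I := PicF2.zeroScheme L s
  refine homToFormalBijective_of_functor I (tensorLeftF La) (La := La) (tensorUnitRight La) ?_ ?_ e
  · intro x hx
    exact unit_inj (fun m => twp La (I ^ (m + 1))) main.1 x hx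
  · intro y hy
    exact unit_surj (fun m => twp La (I ^ (m + 1))) _ main.2 y hy

include k in
/-- Homomorphisms out of coherent modules. -/
theorem homToFormalBijective_of_section (f : X ⟶ Spec (CommRingCat.of k)) [IsProper f] {L : X.Modules}
    (hL : CohB1.IsAmple L) (s : Coh.structureModule X ⟶ L)
    (hd : ∀ x : X, IsClosed ({x} : Set X) → x ∉ (PicF2.zeroScheme L s).support →
      (2 : ℕ∞) ≤ LocCoh.depth (X.presheaf.stalk x) (X.presheaf.stalk x))
    {G : X.Modules} (hG : Coh.IsCoh G) : Lef.HomToFormalBijective (PicF2.zeroScheme L s) G := by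
  haveI : IsLocallyNoetherian X := LocallyOfFiniteType.isLocallyNoetherian f
  obtain ⟨L', hL', i⟩ : ∃ L' : X.Modules, PicF.IsInvertible L' ∧
      Nonempty (CohB1.tensorMod L L' ≅ Coh.structureModule X) :=
    Groth.L08.Cube.exists_inverse hL.1
  obtain ⟨i⟩ := i
  have key : ∀ (a r : ℕ), Lef.HomToFormalBijective (PicF2.zeroScheme L s)
      (CohB1.tensorMod (FlatMod.freeMod X r) (CohB1.tensorPow L' a)) := by
    intro a r
    let La := CohB1.tensorPow L a
    have hLa : PicF.IsInvertible La := Groth.L18.Ample.isInvertible_tensorPow hL.1 a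
    let pinv := Groth.L22.EnrSev.powInv i a
    haveI : (tensorRightF La).IsEquivalence := Groth.L22.PDual.isEquivalence_tensorRightF
      (tensorComm La (CohB1.tensorPow L' a) ≪≫ pinv)
    haveI : (tensorLeftF La).IsEquivalence := Functor.isEquivalence_of_iso (tensorFlipIso La)
    refine homToFormalBijective_of_twist k f hL s hLa
      (fun x hx hxs => (hd x hx hxs).trans_eq (Groth.L18.LefTwists.depth_stalk_invertible hLa x).symm)
      (r := r) (P := CohB1.tensorMod (FlatMod.freeMod X r) (CohB1.tensorPow L' a))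
      (((tensorFlipIso La).app _).symm ≪≫
        tensorAssoc _ _ _ ≪≫ tensorIso (Iso.refl _) pinv ≪≫ tensorUnitRight _)
  have hfree : ∀ (a r : ℕ), Coh.IsCoh (CohB1.tensorMod (FlatMod.freeMod X r) (CohB1.tensorPow L' a)) := fun a r =>
    Groth.L16.NegPow.isCoh_of_isFinLocFree
      (Groth.L16.NegPow.isFinLocFree_freeTensor (Groth.L18.Ample.isInvertible_tensorPow hL' a) r)
  haveI : CompactSpace X := QuasiCompact.compactSpace_of_compactSpace f
  haveI : IsNoetherian X := {}
  obtain ⟨a, r, p, hp⟩ := Groth.L18.LefTwists.exists_epi_negPow hL i hG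
  haveI := hp
  haveI : Coh.IsQCoh G := hG.1
  obtain ⟨a', r', q, hq⟩ := Groth.L18.LefTwists.exists_epi_negPow hL i
    (Groth.L16.CohSupport.isCoh_kernel (hfree a r) p)
  haveI := hq
  exact Groth.L18.LefTwists.homToFormalBijective_of_presentation _ p q (key a r) (key a' r')

end Groth.L13.FEtLeff.LefSection
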