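import Groth.Agent.S3381
import Groth.Agent.L13.FEtLeff.Leff
import Groth.Agent.L13.FEtLeff.LefHyper

/-! Effective Lefschetz along the zero scheme of a section of an ample module. -/

set_option autoImplicit false
set_option linter.style.haveILetI false
set_option backward.isDefEq.respectTransparency false
set_option backward.isDefEq.respectTransparency.types false

universe u

open CategoryTheory CategoryTheory.Limits AlgebraicGeometry

noncomputable section

namespace Groth.L13.FEtLeff.LefHyper

theorem leffCond (k : Type u) [Field k] {X : Scheme.{u}} (f : X ⟶ Spec (CommRingCat.of k)) [IsProper f]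
    {L : X.Modules} (hL : CohB1.IsAmple L) (s : Coh.structureModule X ⟶ L)
    (hd : ∀ x : X, x ∉ (PicF2.zeroScheme L s).support →
      (2 : WithBot ℕ∞) < (LocCoh.depth (X.presheaf.stalk x) (X.presheaf.stalk x) : WithBot ℕ∞) +
        topologicalKrullDim ↥(closure ({x} : Set X))) :
    LefX.LeffCond X (PicF2.zeroScheme L s) :=
  ⟨lefCond k f hL s fun x hx => lt_of_le_of_lt (by norm_num) (hd x hx),
    fun 𝔐 h𝔐 => Groth.Agent.S3381.result k X f L hL s hd 𝔐 h𝔐⟩

end Groth.L13.FEtLeff.LefHyper
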