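import Groth.Agent.L13.FEtLeff.VDimConn
import Groth.Agent.L13.FEtLeff.ConnCrit
import Groth.Agent.L27.EtLocal.StalkProps
import Groth.Agent.L21.Curve.NormalConnected
import Groth.Agent.L05.Hensel.IntegralDomain
import Groth.Agent.L22.AffineDim
import Groth.Agent.L05.Henselization.BaseChange
import Groth.Agent.S0385
import Groth.Agent.S9405
import Groth.Agent.L23.LocalDimEtale
import Mathlib.AlgebraicGeometry.IdealSheaf.Functorial
import Mathlib.AlgebraicGeometry.Morphisms.UniversallyOpen

/-! Linear sections of the punctured spectrum of a normal complete local domain: connected finite etale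
covers stay connected. -/

set_option autoImplicit false
set_option maxSynthPendingDepth 3
set_option linter.style.haveILetI false
set_option backward.isDefEq.respectTransparency.types false

universe u

open CategoryTheory CategoryTheory.Limits AlgebraicGeometry IsLocalRing

noncomputable section

namespace Groth.L13.FEtLeff.LinSec

variable (A : Type u) [CommRing A] [IsDomain A] [IsNoetherianRing A] [IsLocalRing A]

theorem range_section (I : Ideal A) :
    Set.range ((Spec.map (CommRingCat.ofHom (Ideal.Quotient.mk I))).ker.comap (FEt.puncturedSpec A).ι).subschemeι =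
      (FEt.puncturedSpec A).ι ⁻¹' PrimeSpectrum.zeroLocus (I : Set A) := by
  rw [Scheme.IdealSheafData.range_subschemeι, Scheme.IdealSheafData.support_comap]
  have hr : Set.range (Spec.map (CommRingCat.ofHom (Ideal.Quotient.mk I))) = PrimeSpectrum.zeroLocus (I : Set A) :=
    (range_comap_of_surjective _ _ Ideal.Quotient.mk_surjective).trans (by rw [Ideal.mk_ker])
  show (FEt.puncturedSpec A).ι ⁻¹'
    ((Spec.map (CommRingCat.ofHom (Ideal.Quotient.mk I))).ker.support : Set (Spec (CommRingCat.of A))) = _
  rw [Scheme.Hom.support_ker, hr]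
  exact congrArg ((FEt.puncturedSpec A).ι ⁻¹' ·) (PrimeSpectrum.isClosed_zeroLocus _).closure_eq

theorem bot_mem_puncturedSpec {d : ℕ} (hd : ringKrullDim A = d) (h0 : 0 < d) :
    (⟨⊥, Ideal.isPrime_bot⟩ : PrimeSpectrum A) ∈ FEt.puncturedSpec A := fun h => by
  have hb : maximalIdeal A = ⊥ := (congrArg PrimeSpectrum.asIdeal h).symm
  have hh := maximalIdeal_height_eq_ringKrullDim (R := A)
  rw [hb, Ideal.height_bot, hd] at hh
  have : (0 : ℕ) = d := by exact_mod_cast hh
  omega

theorem normal_stalk [IsIntegrallyClosed A] (x : ↥(FEt.puncturedSpec A)) :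
    IsDomain ((FEt.puncturedSpec A).toScheme.presheaf.stalk x) ∧
      IsIntegrallyClosed ((FEt.puncturedSpec A).toScheme.presheaf.stalk x) := by
  let X := Spec (CommRingCat.of A)
  letI : Algebra A (X.presheaf.stalk x.1) := StructureSheaf.stalkAlgebra A x.1
  haveI : IsLocalization.AtPrime (X.presheaf.stalk x.1) (x.1 : PrimeSpectrum A).asIdeal :=
    StructureSheaf.IsLocalization.to_stalk A x.1
  have hle := Ideal.primeCompl_le_nonZeroDivisors (x.1 : PrimeSpectrum A).asIdeal
  haveI := IsLocalization.isDomain_of_le_nonZeroDivisors (M := (x.1 : PrimeSpectrum A).asIdeal.primeCompl)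
    (S := X.presheaf.stalk x.1) hle
  haveI : IsIntegrallyClosed (X.presheaf.stalk x.1) := isIntegrallyClosed_of_isLocalization _ _ hle
  let e := ((FEt.puncturedSpec A).stalkIso x).commRingCatIsoToRingEquiv
  exact ⟨e.toMulEquiv.isDomain, IsIntegrallyClosed.of_equiv e.symm⟩

variable [IsAdicComplete (maximalIdeal A) A]

/-- a finite domain extension of a complete local ring is complete local -/
theorem finite_domain_local (C : Type u) [CommRing C] [IsDomain C] [Algebra A C] [Module.Finite A C] :
    ∃ _ : IsLocalRing C, IsNoetherianRing C ∧ IsAdicComplete (maximalIdeal C) C ∧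
      IsLocalHom (algebraMap A C) := by
  haveI : HenselianLocalRing A := Groth.L05.henselianLocalRing_of_henselianRing
  haveI := Groth.L05.isLocalRing_of_finite_domain (A := A) C
  haveI hN : IsNoetherianRing C := IsNoetherianRing.of_finite A C
  haveI : Algebra.IsIntegral A C := Algebra.IsIntegral.of_finite A C
  have hcomap := IsLocalRing.eq_maximalIdeal
    (Ideal.isMaximal_comap_of_isIntegral_of_isMaximal (R := A) (maximalIdeal C))
  have hle : (maximalIdeal A).map (algebraMap A C) ≤ maximalIdeal C := Ideal.map_le_iff_le_comap.mpr hcomap.ge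
  haveI hloc : IsLocalHom (algebraMap A C) :=
    ((IsLocalRing.local_hom_TFAE (algebraMap A C)).out 0 2 rfl rfl).mpr hle
  haveI : IsAdicComplete (maximalIdeal A) C := Groth.Agent.S9405.isAdicComplete_of_finite _ C
  haveI : IsAdicComplete ((maximalIdeal A).map (algebraMap A C)) C :=
    (IsAdicComplete.map_algebraMap_iff _ _).mpr inferInstance
  obtain ⟨N, hN'⟩ := Ideal.exists_pow_le_of_le_radical_of_fg
    (Groth.L05.Henselization.le_radical_map_maximalIdeal A C) (IsNoetherian.noetherian _)
  exact ⟨inferInstance, hN, Groth.Agent.S9405.isAdicComplete_of_pow_le hle hN', hloc⟩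

/-- the part over the punctured spectrum of a linear section of an irreducible component is connected -/
theorem isConnected_section {B : Type u} [CommRing B] (φ : A →+* B) (hφ : φ.Finite) (p : Ideal B) [p.IsPrime]
    (hp : p.comap φ = ⊥) {k d : ℕ} (hd : ringKrullDim A = d) (hk : k + 2 ≤ d) (f : Fin k → A)
    (hf : ∀ i, f i ∈ maximalIdeal A) :
    _root_.IsConnected {y : PrimeSpectrum B | p ≤ y.asIdeal ∧ y.asIdeal.comap φ ≠ maximalIdeal A ∧
      Ideal.span (Set.range f) ≤ y.asIdeal.comap φ} := by
  let g : A →+* B ⧸ p := (Ideal.Quotient.mk p).comp φ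
  letI : Algebra A (B ⧸ p) := g.toAlgebra
  haveI : Module.Finite A (B ⧸ p) :=
    RingHom.Finite.comp (RingHom.Finite.of_surjective _ Ideal.Quotient.mk_surjective) hφ
  haveI : Algebra.IsIntegral A (B ⧸ p) := Algebra.IsIntegral.of_finite A (B ⧸ p)
  obtain ⟨_, _, _, _⟩ := finite_domain_local A (B ⧸ p)
  have hinj : Function.Injective (algebraMap A (B ⧸ p)) := by
    rw [RingHom.injective_iff_ker_eq_bot]
    show RingHom.ker g = ⊥
    rw [← RingHom.comap_ker, Ideal.mk_ker, hp]
  have hdC : ringKrullDim (B ⧸ p) = d := (Groth.L22.AffineDim.ringKrullDim_eq_of_isIntegral hinj).trans hd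
  let f' : Fin k → B ⧸ p := fun i => g (f i)
  have hf' : ∀ i, f' i ∈ maximalIdeal (B ⧸ p) := fun i => map_nonunit (algebraMap A (B ⧸ p)) _ (hf i)
  let C' := (B ⧸ p) ⧸ Ideal.span (Set.range f')
  have hne : Ideal.span (Set.range f') ≠ ⊤ := fun h => (maximalIdeal.isMaximal (B ⧸ p)).ne_top (top_le_iff.1
    (h.ge.trans (Ideal.span_le.2 (Set.range_subset_iff.2 hf'))))
  haveI : Nontrivial C' := Ideal.Quotient.nontrivial_iff.2 hne
  haveI : IsLocalRing C' := IsLocalRing.of_surjective' (Ideal.Quotient.mk _) Ideal.Quotient.mk_surjective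
  let π : B ⧸ p →+* C' := Ideal.Quotient.mk _
  haveI : IsLocalHom π := IsLocalHom.of_surjective π Ideal.Quotient.mk_surjective
  have hc := (isConnected_punctured_quot_of_domain (B ⧸ p) hdC hk f' hf').image
    (PrimeSpectrum.comap (π.comp (Ideal.Quotient.mk p))) (PrimeSpectrum.continuous_comap _).continuousOn
  -- the only prime of `B ⧸ p` over the maximal ideal is the maximal one
  have hover : ∀ Q : PrimeSpectrum (B ⧸ p), Q.asIdeal.comap g = maximalIdeal A ↔ Q = closedPoint (B ⧸ p) := by
    intro Q
    constructor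
    · intro h
      haveI : (Q.asIdeal.comap (algebraMap A (B ⧸ p))).IsMaximal := by
        rw [show Q.asIdeal.comap (algebraMap A (B ⧸ p)) = maximalIdeal A from h]
        infer_instance
      exact PrimeSpectrum.ext (eq_maximalIdeal (Ideal.isMaximal_of_isIntegral_of_isMaximal_comap Q.asIdeal this))
    · rintro rfl
      exact congrArg PrimeSpectrum.asIdeal (IsLocalRing.comap_closedPoint (algebraMap A (B ⧸ p)))
  convert hc using 1
  ext y
  constructor
  · rintro ⟨hpy, hym, hfy⟩
    obtain ⟨Q, rfl⟩ : y ∈ Set.range (PrimeSpectrum.comap (Ideal.Quotient.mk p)) := by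
      rw [range_comap_of_surjective _ _ Ideal.Quotient.mk_surjective, Ideal.mk_ker]
      exact hpy
    obtain ⟨P, rfl⟩ : Q ∈ Set.range (PrimeSpectrum.comap π) := by
      rw [range_comap_of_surjective _ _ Ideal.Quotient.mk_surjective, Ideal.mk_ker,
        PrimeSpectrum.zeroLocus_span, PrimeSpectrum.mem_zeroLocus, Set.range_subset_iff]
      exact fun i => hfy (Ideal.subset_span ⟨i, rfl⟩)
    refine ⟨P, fun hP => hym ?_, rfl⟩
    show (PrimeSpectrum.comap π P).asIdeal.comap g = _
    rw [hover, Set.mem_singleton_iff.1 hP]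
    exact IsLocalRing.comap_closedPoint π
  · rintro ⟨P, hP, rfl⟩
    refine ⟨fun b hb => ?_, fun h => hP ?_, ?_⟩
    · show π (Ideal.Quotient.mk p b) ∈ P.asIdeal
      rw [Ideal.Quotient.eq_zero_iff_mem.2 hb, map_zero]
      exact zero_mem _
    · have := (hover (PrimeSpectrum.comap π P)).1 h
      refine PrimeSpectrum.comap_injective_of_surjective π Ideal.Quotient.mk_surjective ?_
      rw [this, IsLocalRing.comap_closedPoint]
    · rw [Ideal.span_le, Set.range_subset_iff]
      intro i
      show π (g (f i)) ∈ P.asIdeal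
      rw [show π (g (f i)) = 0 from Ideal.Quotient.eq_zero_iff_mem.2 (Ideal.subset_span (Set.mem_range_self (f := f') i))]
      exact zero_mem _

theorem keepsConnected [IsIntegrallyClosed A] {k d : ℕ} (hd : ringKrullDim A = d) (hk : k + 2 ≤ d)
    (f : Fin k → A) (hf : ∀ i, f i ∈ maximalIdeal A) :
    ConnCrit.KeepsConnected
      ((Spec.map (CommRingCat.ofHom (Ideal.Quotient.mk (Ideal.span (Set.range f))))).ker.comap
        (FEt.puncturedSpec A).ι).subschemeι := by
  intro R r _ _ _
  let U := FEt.puncturedSpec A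
  let S := Spec (CommRingCat.of A)
  haveI : IsLocallyNoetherian R := LocallyOfFiniteType.isLocallyNoetherian r
  haveI : CompactSpace ↥U.toScheme := by
    exact isCompact_iff_compactSpace.1 (TopologicalSpace.NoetherianSpace.isCompact (U : Set S))
  haveI : CompactSpace R := QuasiCompact.compactSpace_of_compactSpace r
  haveI : AlgebraicGeometry.IsNoetherian R := ⟨⟩
  haveI hint : IsIntegral R := Groth.L21.NormalTotal.isIntegral_of_connected fun x =>
    ((Groth.L27.EtLocal.normal_stalk_iff r x).2 (normal_stalk A (r x))).1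
  -- the generic point of `R` goes to the generic point
  let η₀ : PrimeSpectrum A := ⟨⊥, Ideal.isPrime_bot⟩
  have hη₀ : η₀ ∈ U := bot_mem_puncturedSpec A hd (by omega)
  let η : R := genericPoint R
  have hη : (r η).1 = η₀ := by
    have hs : (⟨η₀, hη₀⟩ : ↥U.toScheme) ⤳ r η := (Topology.IsInducing.subtypeVal.specializes_iff).1
      ((PrimeSpectrum.le_iff_specializes η₀ (r η).1).1 bot_le)
    obtain ⟨x, hx, hx'⟩ := Flat.generalizingMap r hs
    have hxη : x = η := (hx.antisymm (genericPoint_specializes x)).eq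
    rw [hxη] at hx'
    exact congrArg Subtype.val hx'
  -- compactification over `A`
  haveI : QuasiCompact U.ι := inferInstance
  haveI : LocallyQuasiFinite (r ≫ U.ι) := inferInstance
  obtain ⟨T, j₀, π₀, _, _, _, hjπ₀⟩ := Groth.Agent.S0385.result (r ≫ U.ι)
  haveI : IsAffine T := isAffine_of_isAffineHom π₀
  obtain ⟨φ, hφ⟩ := Spec.map_surjective (T.isoSpec.inv ≫ π₀)
  haveI hπfin : IsFinite (Spec.map φ) := by rw [hφ]; infer_instance
  let j : R ⟶ Spec Γ(T, ⊤) := j₀ ≫ T.isoSpec.hom
  have hjπ : j ≫ Spec.map φ = r ≫ U.ι := by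
    rw [hφ, Category.assoc, Iso.hom_inv_id_assoc, hjπ₀]
  haveI : IsOpenImmersion j := inferInstance
  have hval : ∀ x, Spec.map φ (j x) = (r x).1 := fun x => by
    rw [← Scheme.Hom.comp_apply, hjπ]; rfl
  let p : Ideal Γ(T, ⊤) := (j η).asIdeal
  have hpbot : p.comap φ.hom = ⊥ := congrArg PrimeSpectrum.asIdeal ((hval η).trans hη)
  -- the image of `R`
  let P : (Spec Γ(T, ⊤)).Opens := Spec.map φ ⁻¹ᵁ U
  let j' : R ⟶ P.toScheme := IsOpenImmersion.lift P.ι j (by
    rw [Scheme.Opens.range_ι]
    rintro _ ⟨x, rfl⟩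
    show Spec.map φ (j x) ∈ U
    rw [hval]
    exact (r x).2)
  have hj' : j' ≫ P.ι = j := IsOpenImmersion.lift_fac _ _ _
  have hjr : j' ≫ (Spec.map φ ∣_ U) = r := by
    rw [← cancel_mono U.ι, Category.assoc, morphismRestrict_ι, ← Category.assoc, hj', hjπ]
  haveI : IsFinite j' := by
    haveI : IsFinite (j' ≫ (Spec.map φ ∣_ U)) := by rw [hjr]; infer_instance
    exact IsFinite.of_comp j' (Spec.map φ ∣_ U)
  have himg : j '' (r ⁻¹' Set.range ((Spec.map (CommRingCat.ofHom (Ideal.Quotient.mk
      (Ideal.span (Set.range f))))).ker.comap U.ι).subschemeι) =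
      {y : PrimeSpectrum Γ(T, ⊤) | p ≤ y.asIdeal ∧ y.asIdeal.comap φ.hom ≠ maximalIdeal A ∧
        Ideal.span (Set.range f) ≤ y.asIdeal.comap φ.hom} := by
    rw [range_section]
    ext y
    constructor
    · rintro ⟨x, hx, rfl⟩
      refine ⟨(PrimeSpectrum.le_iff_specializes (j η) (j x)).2 ((genericPoint_specializes x).map j.continuous),
        fun h => (r x).2 ?_, ?_⟩
      · rw [Set.mem_singleton_iff, ← hval]
        exact PrimeSpectrum.ext h
      · have hx' : Ideal.span (Set.range f) ≤ (r x).1.asIdeal := hx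
        rw [← hval x] at hx'
        exact hx'
    · rintro ⟨hpy, hym, hfy⟩
      have hyP : y ∈ P := fun h => hym (congrArg PrimeSpectrum.asIdeal (Set.mem_singleton_iff.1 h))
      have hs : j' η ⤳ (⟨y, hyP⟩ : P) := by
        refine (Topology.IsInducing.subtypeVal.specializes_iff).1 ?_
        have : (j' η).1 = j η := by rw [← hj']; rfl
        rw [this]
        exact (PrimeSpectrum.le_iff_specializes (j η) y).1 hpy
      obtain ⟨x, hx⟩ := hs.mem_closed j'.isClosedMap.isClosed_range ⟨η, rfl⟩
      have hjx : j x = y := by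
        rw [← hj', Scheme.Hom.comp_apply, hx]; rfl
      refine ⟨x, ?_, hjx⟩
      show Ideal.span (Set.range f) ≤ (r x).1.asIdeal
      rw [← hval x, hjx]
      exact hfy
  have hconn : _root_.IsConnected (r ⁻¹' Set.range ((Spec.map (CommRingCat.ofHom (Ideal.Quotient.mk
      (Ideal.span (Set.range f))))).ker.comap U.ι).subschemeι) := by
    have h := isConnected_section A φ.hom ((IsFinite.SpecMap_iff _).1 hπfin) p hpbot hd hk f hf
    rw [← himg] at h
    exact ⟨Set.image_nonempty.1 h.nonempty, j.isOpenEmbedding.isInducing.isPreconnected_image.1 h.isPreconnected⟩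
  rw [← Scheme.Pullback.range_fst] at hconn
  haveI := isConnected_iff_connectedSpace.1 hconn
  exact (pullback.fst r _).isClosedEmbedding.isEmbedding.toHomeomorph.symm.surjective.connectedSpace
    (pullback.fst r _).isClosedEmbedding.isEmbedding.toHomeomorph.symm.continuous

omit [IsAdicComplete (maximalIdeal A) A] in
theorem connectedSpace_puncturedSpec {d : ℕ} (hd : ringKrullDim A = d) (h0 : 0 < d) :
    ConnectedSpace ↥(FEt.puncturedSpec A).toScheme := by
  refine isConnected_iff_connectedSpace.1 (IsConnected.subset_closure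
    (isConnected_singleton (x := (⟨⊥, Ideal.isPrime_bot⟩ : PrimeSpectrum A))) ?_ ?_)
  · exact Set.singleton_subset_iff.2 (bot_mem_puncturedSpec A hd h0)
  · exact fun y _ => ((PrimeSpectrum.le_iff_specializes
      (⟨⊥, Ideal.isPrime_bot⟩ : PrimeSpectrum A) y).1 bot_le).mem_closure

end Groth.L13.FEtLeff.LinSec
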