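import Groth.Agent.L13.FEtLeff.Pres
import Groth.Agent.L11.Bdd.Coh
import Groth.Agent.L18.AlgPushout
import Groth.Agent.Lead.EtCovLevel
import Groth.Prelude.Def_FSch3
import Groth.Prelude.Def_LefX
import Groth.Prelude.Def_FEt

/-!
# Formal covers and the module systems they define
-/

set_option autoImplicit false
set_option linter.style.haveILetI false
set_option linter.unusedSectionVars false
set_option backward.isDefEq.respectTransparency false
set_option backward.isDefEq.respectTransparency.types false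

universe u

open CategoryTheory CategoryTheory.Limits AlgebraicGeometry TopologicalSpace Opposite TensorProduct
open Groth.L18.Frame (rs ro rs_rs ro_ro rs_smul rs_self ro_self pull pull_rs)
open Groth.L19.ProjBdl (IsBasisOn lc coord lc_coord app_rs app_lc rs_lc)
open Groth.L16.HomSh (ext_cover exists_glue)
open Groth.L06.FEtLef (pO)

noncomputable section

namespace Groth.L13.FEtLeff

section Bases

variable {X : Scheme.{u}} {M N : X.Modules}

/-- A family is a basis if it is one on the opens of a basis of the topology. -/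
theorem isBasisOn_of_basis {W : X.Opens} {n : ℕ} {b : Fin n → Γ(M, W)} (𝔅 : Set X.Opens)
    (hcov : ∀ V : X.Opens, V ≤ W → ∀ x ∈ V, ∃ B ∈ 𝔅, x ∈ B ∧ B ≤ V)
    (hbij : ∀ B ∈ 𝔅, ∀ h : B ≤ W, Function.Bijective (lc M b h)) : IsBasisOn M W b := by
  intro V h
  have hinj : ∀ (V : X.Opens) (h : V ≤ W), Function.Injective (lc M b h) := fun V h c c' e => funext fun j => by
    refine local_ext (Coh.structureModule X) fun x hx => ?_
    obtain ⟨B, hB, hxB, hBV⟩ := hcov V h x hx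
    refine ⟨B, hBV, hxB, ?_⟩
    have h2 : (fun j => ro hBV (c j)) = fun j => ro hBV (c' j) := (hbij B hB (hBV.trans h)).1 (by
      rw [← rs_lc b h hBV, ← rs_lc b h hBV, e])
    exact congrFun h2 j
  refine ⟨hinj V h, fun s => ?_⟩
  choose B hB hxB hBV using fun x : V => hcov V h x.1 x.2
  choose c hc using fun x : V => (hbij (B x) (hB x) ((hBV x).trans h)).2 (rs M (hBV x) s)
  have hcomp : ∀ (j : Fin n) (x x' : V), rs (Coh.structureModule X) (inf_le_left : B x ⊓ B x' ≤ B x) (c x j) =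
      rs (Coh.structureModule X) (inf_le_right : B x ⊓ B x' ≤ B x') (c x' j) := fun j x x' => by
    have h2 : (fun j => ro (inf_le_left : B x ⊓ B x' ≤ B x) (c x j)) =
        fun j => ro (inf_le_right : B x ⊓ B x' ≤ B x') (c x' j) := hinj _ _ (by
      rw [← rs_lc b ((hBV x).trans h) inf_le_left, hc, rs_rs]
      refine Eq.trans ?_ (rs_lc b ((hBV x').trans h) inf_le_right (c x'))
      rw [hc, rs_rs])
    exact congrFun h2 j
  choose a ha using fun j => exists_glue (Coh.structureModule X) B hBV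
    (fun x hx => Opens.mem_iSup.2 ⟨⟨x, hx⟩, hxB ⟨x, hx⟩⟩) (fun x => c x j) (hcomp j)
  refine ⟨fun j => a j, local_ext M fun x hx => ⟨B ⟨x, hx⟩, hBV _, hxB _, ?_⟩⟩
  rw [rs_lc b h (hBV ⟨x, hx⟩), ← hc ⟨x, hx⟩]
  exact congrArg _ (funext fun j => ha j ⟨x, hx⟩)

/-- A morphism carrying local bases to bases is an isomorphism. -/
theorem isIso_of_bases (φ : M ⟶ N) (h : ∀ x : X, ∃ (W : X.Opens) (n : ℕ) (e : Fin n → Γ(M, W)),
      x ∈ W ∧ IsBasisOn M W e ∧ IsBasisOn N W fun j => φ.app W (e j)) : IsIso φ := by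
  choose W n e hx hM hN using h
  have hbij : ∀ (x : X) (V : X.Opens), V ≤ W x → Function.Bijective (φ.app V) := fun x V hV => by
    refine (Function.Bijective.of_comp_iff _ (hM x V hV)).1 ?_
    convert hN x V hV using 1
    exact funext fun c => app_lc φ (e x) hV c
  rw [Scheme.Modules.Hom.isIso_iff_isIso_app]
  intro V
  rw [ConcreteCategory.isIso_iff_bijective]
  have hinj : ∀ V : X.Opens, Function.Injective (φ.app V) := fun V s t hst => local_ext M fun x hxV =>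
    ⟨V ⊓ W x, inf_le_left, ⟨hxV, hx x⟩, (hbij x _ inf_le_right).1 (by rw [app_rs, app_rs, hst])⟩
  refine ⟨hinj V, fun s => ?_⟩
  choose t ht using fun x : V => (hbij x.1 (V ⊓ W x.1) inf_le_right).2 (rs N inf_le_left s)
  obtain ⟨y, hy⟩ := exists_glue M (fun x : V => V ⊓ W x.1) (fun _ => inf_le_left)
    (fun z hz => Opens.mem_iSup.2 ⟨⟨z, hz⟩, hz, hx z⟩) t fun x x' => hinj _ (by
      rw [app_rs, app_rs, ht, ht, rs_rs, rs_rs])
  exact ⟨y, local_ext N fun x hxV => ⟨V ⊓ W x, inf_le_left, ⟨hxV, hx x⟩,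
    (app_rs φ _ y).symm.trans ((congrArg (φ.app (V ⊓ W x)) (hy ⟨x, hxV⟩)).trans (ht ⟨x, hxV⟩))⟩⟩

theorem isBasisOn_map {W : X.Opens} {n : ℕ} {b : Fin n → Γ(M, W)} (hb : IsBasisOn M W b) (φ : M ⟶ N) [IsIso φ] :
    IsBasisOn N W fun j => φ.app W (b j) := by
  intro V h
  have h' : Function.Bijective (φ.app V) := ConcreteCategory.bijective_of_isIso (φ.app V)
  rw [show lc N (fun j => φ.app W (b j)) h = ⇑(ConcreteCategory.hom (φ.app V)) ∘ lc M b h from
    funext fun c => (app_lc φ b h c).symm]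
  exact h'.comp (hb V h)

/-- A transposed morphism on pulled back sections. -/
theorem transpose_pull {Y : Scheme.{u}} (f : X ⟶ Y) {L : Y.Modules}
    (g : L ⟶ (Scheme.Modules.pushforward f).obj M) (V : Y.Opens) (b : Γ(L, V)) :
    (((Scheme.Modules.pullbackPushforwardAdjunction f).homEquiv L M).symm g).app (f ⁻¹ᵁ V) (pull f L V b) =
      g.app V b := by
  have h := Equiv.apply_symm_apply ((Scheme.Modules.pullbackPushforwardAdjunction f).homEquiv L M) g
  rw [Adjunction.homEquiv_unit] at h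
  exact congr($(congrArg (fun k => Scheme.Modules.Hom.app k V) h) b)

theorem transIso_app {P Q R : Scheme.{u}} (f : P ⟶ Q) (g : Q ⟶ R) (h : P ⟶ R) (e : f ≫ g = h) (F : R.Modules) :
    ((Scheme.Modules.pullbackComp f g ≪≫ Scheme.Modules.pullbackCongr e).app F).hom =
      (Scheme.Modules.pullbackComp f g).hom.app F ≫ (Scheme.Modules.pullbackCongr e).hom.app F := rfl

end Bases

namespace Sq

variable {P P' Q Q' X : Scheme.{u}} (t : P ⟶ P') (p : P ⟶ Q) (p' : P' ⟶ Q') (s : Q ⟶ Q') (w : t ≫ p' = p ≫ s)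

include w in
theorem pre (V : Q'.Opens) : p ⁻¹ᵁ (s ⁻¹ᵁ V) ≤ t ⁻¹ᵁ (p' ⁻¹ᵁ V) := by
  rw [← Scheme.Hom.comp_preimage, ← Scheme.Hom.comp_preimage, w]

/-- The restriction of functions along a square. -/
def etaHom : pO p' ⟶ (Scheme.Modules.pushforward s).obj (pO p) :=
  Groth.L12.FinCov.mkHom (M := pO p') (N := (Scheme.Modules.pushforward s).obj (pO p))
    (fun V b => t.appLE _ _ (pre t p p' s w V) b) (fun V b b' => map_add _ b b')
    (fun V a b => by
      refine (map_mul (t.appLE _ _ (pre t p p' s w V)).hom (p'.app V a) b).trans ?_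
      refine congrArg (· * _) ?_
      refine (appLE_app_square t p p' s w V (s ⁻¹ᵁ V) le_rfl (pre t p p' s w V) a).trans ?_
      rw [← Scheme.Hom.app_eq_appLE]
      rfl)
    (fun V V' h b => appLE_rf t _ _ _ _ b)

/-- The transposed restriction. -/
def mu : (Scheme.Modules.pullback s).obj (pO p') ⟶ pO p :=
  ((Scheme.Modules.pullbackPushforwardAdjunction s).homEquiv _ _).symm (etaHom t p p' s w)

theorem mu_pull (V : Q'.Opens) (b : Γ(pO p', V)) :
    (mu t p p' s w).app (s ⁻¹ᵁ V) (pull s (pO p') V b) =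
      (show Γ(pO p, s ⁻¹ᵁ V) from t.appLE _ _ (pre t p p' s w V) b) :=
  transpose_pull s (etaHom t p p' s w) V b

theorem isBasisOn_eta [IsClosedImmersion s] [IsAffineHom p'] (sq : IsPullback t p p' s) {m : ℕ} {V : Q'.Opens}
    {e : Fin m → Γ(pO p', V)} (he : IsBasisOn (pO p') V e) :
    IsBasisOn (pO p) (s ⁻¹ᵁ V) fun j => (show Γ(pO p, s ⁻¹ᵁ V) from t.appLE _ _ (pre t p p' s sq.w V) (e j)) := by
  refine isBasisOn_of_basis {B | ∃ V' : Q'.Opens, IsAffineOpen V' ∧ V' ≤ V ∧ s ⁻¹ᵁ V' = B}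
    (fun O hO z hz => ?_) ?_
  · obtain ⟨O', hO', hOe⟩ := s.isEmbedding.isInducing.isOpen_iff.1 O.2
    obtain ⟨_, ⟨V', hV', rfl⟩, hzV', hsub⟩ := Q'.isBasis_affineOpens.exists_subset_of_mem_open
      (show s z ∈ O' ∩ (V : Set _) from ⟨(Set.ext_iff.1 hOe z).2 hz, hO hz⟩) (hO'.inter V.2)
    exact ⟨s ⁻¹ᵁ V', ⟨V', hV', fun y hy => (hsub hy).2, rfl⟩, hzV', fun y hy => (Set.ext_iff.1 hOe y).1 (hsub hy).1⟩
  · rintro _ ⟨V', hV', hV'V, rfl⟩ h
    let A' := Γ(Q', V')
    let A := Γ(Q, s ⁻¹ᵁ V')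
    let S := Γ(P', p' ⁻¹ᵁ V')
    let B := Γ(P, p ⁻¹ᵁ (s ⁻¹ᵁ V'))
    letI : Algebra A' A := (s.appLE V' (s ⁻¹ᵁ V') le_rfl).hom.toAlgebra
    letI : Algebra A' S := (p'.appLE V' (p' ⁻¹ᵁ V') le_rfl).hom.toAlgebra
    letI : Algebra A B := (p.appLE (s ⁻¹ᵁ V') (p ⁻¹ᵁ (s ⁻¹ᵁ V')) le_rfl).hom.toAlgebra
    letI : Algebra S B := (t.appLE (p' ⁻¹ᵁ V') (p ⁻¹ᵁ (s ⁻¹ᵁ V')) (pre t p p' s sq.w V')).hom.toAlgebra
    letI : Algebra A' B := ((algebraMap A B).comp (algebraMap A' A)).toAlgebra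
    haveI : IsScalarTower A' A B := IsScalarTower.of_algebraMap_eq fun _ => rfl
    have hpo := Groth.L18.AlgPushout.isPushout_appLE s p' p t sq.flip hV'
    haveI : IsScalarTower A' S B := IsScalarTower.of_algebraMap_eq fun a => congr($(hpo.w) a)
    haveI : Algebra.IsPushout A' A S B := CommRingCat.isPushout_iff_isPushout.mp hpo
    have hlc : ∀ a : Fin m → A', lc (pO p') e hV'V a =
        Fintype.linearCombination A' (fun j => (show S from rs (pO p') hV'V (e j))) a := fun a => by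
      rw [Fintype.linearCombination_apply]
      refine Finset.sum_congr rfl fun j _ => ?_
      show _ = p'.appLE V' (p' ⁻¹ᵁ V') le_rfl (a j) * _
      rw [← Scheme.Hom.app_eq_appLE]
      rfl
    have hb := he V' hV'V
    let c : Module.Basis (Fin m) A' S := Module.Basis.ofEquivFun (LinearEquiv.ofBijective
      (Fintype.linearCombination A' fun j => (show S from rs (pO p') hV'V (e j)))
      ⟨fun a a' haa => hb.1 ((hlc a).trans (haa.trans (hlc a').symm)),
        fun z => let ⟨a, ha⟩ := hb.2 z; ⟨a, (hlc a).symm.trans ha⟩⟩).symm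
    let c' : Module.Basis (Fin m) A B := (c.baseChange A).map (Algebra.IsPushout.equiv A' A S B).toLinearEquiv
    have hc' : ∀ j, c' j = t.appLE _ _ (pre t p p' s sq.w V') (show S from rs (pO p') hV'V (e j)) := fun j => by
      classical
      show Algebra.IsPushout.equiv A' A S B (c.baseChange A j) = _
      rw [Module.Basis.baseChange_apply, Algebra.IsPushout.equiv_tmul, map_one, one_mul]
      show algebraMap S B (c j) = _
      refine congrArg (algebraMap S B) ?_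
      simp only [c, Module.Basis.coe_ofEquivFun, LinearEquiv.symm_symm, LinearEquiv.ofBijective_apply,
        Fintype.linearCombination_apply]
      rw [Finset.sum_eq_single j
        (fun i _ hi => by rw [Pi.single_eq_of_ne hi]; exact (Algebra.smul_def _ _).trans (by rw [map_zero, zero_mul]))
        (fun hj => (hj (Finset.mem_univ j)).elim), Pi.single_eq_same]
      exact (Algebra.smul_def _ _).trans (by rw [map_one, one_mul])
    have hl : ∀ a : Fin m → A, lc (pO p)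
        (fun j => (show Γ(pO p, s ⁻¹ᵁ V) from t.appLE _ _ (pre t p p' s sq.w V) (e j))) h a =
          c'.equivFun.symm a := fun a => by
      rw [Module.Basis.equivFun_symm_apply]
      refine Finset.sum_congr rfl fun j _ => ?_
      rw [hc']
      refine congrArg₂ (fun (x y : B) => x * y) (congr($(p.app_eq_appLE (U := s ⁻¹ᵁ V')) (a j))) ?_
      exact (appLE_rf t (p'.preimage_mono hV'V) (p.preimage_mono h) _ _ (e j)).symm
    have hb' := c'.equivFun.symm.bijective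
    exact ⟨fun a a' haa => hb'.1 ((hl a).symm.trans (haa.trans (hl a'))),
      fun z => let ⟨a, ha⟩ := hb'.2 z; ⟨a, (hl a).trans ha⟩⟩

theorem isIso_mu [IsClosedImmersion s] [IsAffineHom p'] (sq : IsPullback t p p' s)
    (hfree : FlatMod.IsFinLocFree (pO p')) : IsIso (mu t p p' s sq.w) := by
  refine isIso_of_bases (mu t p p' s sq.w) fun z => ?_
  obtain ⟨V, m, e, -, hzV, -, he⟩ := Groth.L19.ProjBdl.exists_basisOn hfree (s z) ⊤ trivial
  refine ⟨s ⁻¹ᵁ V, m, _, hzV, he.pullback s, ?_⟩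
  simp only [mu_pull]
  exact isBasisOn_eta t p p' s sq he

/-- Compatibility of two levels of an identification with functions on covers. -/
theorem comm_pull {ι₀ : Q ⟶ X} {ι₁ : Q' ⟶ X} (hι : s ≫ ι₁ = ι₀) {F : X.Modules}
    (κ₀ : (Scheme.Modules.pullback ι₀).obj F ⟶ pO p) (κ₁ : (Scheme.Modules.pullback ι₁).obj F ⟶ pO p')
    (hc : (Scheme.Modules.pullback s).map κ₁ ≫ mu t p p' s w =
      ((Scheme.Modules.pullbackComp s ι₁).hom.app F ≫ (Scheme.Modules.pullbackCongr hι).hom.app F) ≫ κ₀)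
    (V : X.Opens) (x : Γ(F, V)) (e' : p ⁻¹ᵁ (ι₀ ⁻¹ᵁ V) ≤ t ⁻¹ᵁ (p' ⁻¹ᵁ (ι₁ ⁻¹ᵁ V))) :
    t.appLE _ _ e' (show Γ(P', p' ⁻¹ᵁ (ι₁ ⁻¹ᵁ V)) from κ₁.app _ (pull ι₁ F V x)) =
      (show Γ(P, p ⁻¹ᵁ (ι₀ ⁻¹ᵁ V)) from κ₀.app _ (pull ι₀ F V x)) := by
  subst hι
  have h := congr($(congrArg (fun k => Scheme.Modules.Hom.app k (s ⁻¹ᵁ (ι₁ ⁻¹ᵁ V))) hc)
    (pull s _ (ι₁ ⁻¹ᵁ V) (pull ι₁ F V x)))
  refine Eq.trans ?_ (h.trans (congrArg (κ₀.app (s ⁻¹ᵁ (ι₁ ⁻¹ᵁ V))) (Groth.L17.BC.PullSec.comp_pull s ι₁ F V x)))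
  exact ((congrArg ((mu t p p' s w).app _) (Groth.L17.BC.PullSec.map_pull s κ₁ _ (pull ι₁ F V x))).trans
    (mu_pull t p p' s w (ι₁ ⁻¹ᵁ V) (κ₁.app _ (pull ι₁ F V x)))).symm

/-- A section of a module as a function on a cover. -/
def vHom {ι : Q ⟶ X} {F : X.Modules} (κ : (Scheme.Modules.pullback ι).obj F ⟶ pO p) :
    F ⟶ (Scheme.Modules.pushforward (p ≫ ι)).obj (Coh.structureModule P) :=
  Groth.L12.FinCov.mkHom (M := F) (N := (Scheme.Modules.pushforward (p ≫ ι)).obj (Coh.structureModule P))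
    (fun V x => (show Γ(P, (p ≫ ι) ⁻¹ᵁ V) from κ.app (ι ⁻¹ᵁ V) (pull ι F V x)))
    (fun V x y => (congrArg (κ.app (ι ⁻¹ᵁ V))
      (map_add (((Scheme.Modules.pullbackPushforwardAdjunction ι).unit.app F).app V).hom x y)).trans
      (map_add _ _ _))
    (fun V r x => by
      refine (congrArg (κ.app (ι ⁻¹ᵁ V)) (Groth.L18.Frame.pull_smul ι _ r x)).trans ?_
      refine (κ.app_smul _ _).trans ?_
      rfl)
    (fun V V' h x => (congrArg (κ.app (ι ⁻¹ᵁ V')) (pull_rs ι F h x).symm).trans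
      (app_rs κ _ _))

theorem vHom_app {ι : Q ⟶ X} {F : X.Modules} (κ : (Scheme.Modules.pullback ι).obj F ⟶ pO p) (V : X.Opens)
    (x : Γ(F, V)) :
    (vHom p κ).app V x = (show Γ(P, (p ≫ ι) ⁻¹ᵁ V) from κ.app (ι ⁻¹ᵁ V) (pull ι F V x)) := rfl

end Sq

variable {X : Scheme.{u}} {𝓘 : X.IdealSheafData}

theorem isFormal_completion : (FSch.completionAlong X 𝓘).IsFormal := fun n => by
  have hfac : ltr 𝓘 n ≫ lι 𝓘 (n + 1) = lι 𝓘 n := ltr_ι 𝓘 n
  haveI : IsClosedImmersion (ltr 𝓘 n ≫ lι 𝓘 (n + 1)) := by rw [hfac]; infer_instance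
  refine ⟨IsClosedImmersion.of_comp (ltr 𝓘 n) (lι 𝓘 (n + 1)), fun z => ?_⟩
  have hz : lι 𝓘 (n + 1) z ∈ Set.range (lι 𝓘 n) := by
    rw [Groth.L18.LefConnected.range_pow, ← Groth.L18.LefConnected.range_pow 𝓘 (n + 1)]
    exact ⟨z, rfl⟩
  obtain ⟨w, hw⟩ := hz
  refine ⟨w, (lι 𝓘 (n + 1)).isClosedEmbedding.injective ?_⟩
  rw [← hw, ← hfac]
  rfl

/-- A finite étale cover of the closed subscheme spreads to all levels. -/
theorem exists_cover_of_fEt (R : FEt.Cat (lvl 𝓘 0)) :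
    ∃ (C : Cover 𝓘) (e : C.R 0 ≅ R.left), e.hom ≫ R.hom = C.p 0 := by
  haveI := Groth.Lead.EtCovLevel.isEquivalence_level (isFormal_completion (𝓘 := 𝓘))
  obtain ⟨S, ⟨e⟩⟩ := Functor.EssSurj.mem_essImage (F := FSch.EtCov.level (FSch.completionAlong X 𝓘) 0) R
  let C : Cover 𝓘 :=
    { R := fun n => S.obj.left.X n
      p := fun n => (S.obj.hom : FSch.Hom _ _).app n
      fin := fun n => (S.property.2 n).1
      et := fun n => (S.property.2 n).2
      t := fun n => S.obj.left.ι n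
      sq := fun n => S.property.1 n }
  exact ⟨C, (MorphismProperty.Over.forget _ ⊤ _ ⋙ CategoryTheory.Over.forget _).mapIso e,
    MorphismProperty.Over.w e.hom⟩

namespace Cover

variable (C : Cover 𝓘)

/-- The levels of the module system. -/
abbrev pM (n : ℕ) : (lvl 𝓘 n).Modules := pO (C.p n)

theorem isFinLocFree_pM (n : ℕ) : FlatMod.IsFinLocFree (C.pM n) :=
  (Groth.L19.FinLocPush.isFinLocFree_push (C.p n) ⟨inferInstance, inferInstance, inferInstance⟩).2

theorem isIso_mu (n : ℕ) : IsIso (Sq.mu (C.t n) (C.p n) (C.p (n + 1)) (ltr 𝓘 n) (C.sq n).w) :=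
  haveI : IsClosedImmersion (ltr 𝓘 n) := (isFormal_completion (𝓘 := 𝓘) n).1
  Sq.isIso_mu (C.t n) (C.p n) (C.p (n + 1)) (ltr 𝓘 n) (C.sq n) (C.isFinLocFree_pM (n + 1))

/-- The system of modules of functions on the covers. -/
def modSys : FSch.ModSys (FSch.completionAlong X 𝓘) where
  F n := C.pM n
  e n := haveI := C.isIso_mu n; asIso (Sq.mu (C.t n) (C.p n) (C.p (n + 1)) (ltr 𝓘 n) (C.sq n).w)

theorem levelwiseFinLocFree_modSys : LefX.LevelwiseFinLocFree C.modSys := C.isFinLocFree_pM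

/-- A module whose completion is the system of functions on the covers. -/
structure Datum (F : X.Modules) where
  /-- the identification -/
  κ : ∀ n, (Scheme.Modules.pullback (lι 𝓘 n)).obj F ≅ C.pM n
  comm : ∀ (n : ℕ) (V : X.Opens) (x : Γ(F, V)),
    C.tB n V ((Sq.vHom (C.p (n + 1)) (κ (n + 1)).hom).app V x) = (Sq.vHom (C.p n) (κ n).hom).app V x

/-- The components of an isomorphism with the system. -/
def kappa {F : X.Modules} (φ : FSch.complMod 𝓘 F ≅ C.modSys) (n : ℕ) :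
    (Scheme.Modules.pullback (lι 𝓘 n)).obj F ≅ C.pM n where
  hom := (φ.hom : FSch.ModSys.Hom _ _).app n
  inv := (φ.inv : FSch.ModSys.Hom _ _).app n
  hom_inv_id := congr_fun (congrArg FSch.ModSys.Hom.app φ.hom_inv_id) n
  inv_hom_id := congr_fun (congrArg FSch.ModSys.Hom.app φ.inv_hom_id) n

theorem comm_level {F : X.Modules} (n : ℕ) (κ₀ : (Scheme.Modules.pullback (lι 𝓘 n)).obj F ⟶ C.pM n)
    (κ₁ : (Scheme.Modules.pullback (lι 𝓘 (n + 1))).obj F ⟶ C.pM (n + 1))
    (hc : (Scheme.Modules.pullback (ltr 𝓘 n)).map κ₁ ≫ Sq.mu (C.t n) (C.p n) (C.p (n + 1)) (ltr 𝓘 n) (C.sq n).w =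
      ((FSch.complTransIso 𝓘 n).app F).hom ≫ κ₀) (V : X.Opens) (x : Γ(F, V)) :
    C.tB n V ((Sq.vHom (C.p (n + 1)) κ₁).app V x) = (Sq.vHom (C.p n) κ₀).app V x :=
  Sq.comm_pull (C.t n) (C.p n) (C.p (n + 1)) (ltr 𝓘 n) (C.sq n).w (ltr_ι 𝓘 n) κ₀ κ₁
    (hc.trans (congrArg (· ≫ κ₀) (transIso_app (ltr 𝓘 n) (lι 𝓘 (n + 1)) (lι 𝓘 n) (ltr_ι 𝓘 n) F)))
    V x (C.t_pre n V)

theorem kappa_comm {F : X.Modules} (φ : FSch.complMod 𝓘 F ≅ C.modSys) (n : ℕ) :
    (Scheme.Modules.pullback (ltr 𝓘 n)).map (C.kappa φ (n + 1)).hom ≫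
      Sq.mu (C.t n) (C.p n) (C.p (n + 1)) (ltr 𝓘 n) (C.sq n).w =
      ((FSch.complTransIso 𝓘 n).app F).hom ≫ (C.kappa φ n).hom := (φ.hom : FSch.ModSys.Hom _ _).comm n

/-- An isomorphism of the completion with the system gives a datum. -/
theorem nonempty_datum {F : X.Modules} (h : Nonempty (FSch.complMod 𝓘 F ≅ C.modSys)) : Nonempty (C.Datum F) :=
  h.elim fun φ => ⟨{
    κ := fun n => C.kappa φ n
    comm := fun n => C.comm_level n (C.kappa φ n).hom (C.kappa φ (n + 1)).hom (C.kappa_comm φ n) }⟩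

variable {C} in
/-- The reduction maps of a datum. -/
def Datum.vHom {F : X.Modules} (d : C.Datum F) (n : ℕ) : F ⟶ C.Bmod n := Sq.vHom (C.p n) (d.κ n).hom

variable {C} in
/-- A datum for a locally free module gives a presentation. -/
def Datum.pres {F : X.Modules} (d : C.Datum F) : Pres C F where
  v := d.vHom
  v_t n := Groth.L12.FinCov.hom_ext fun V x => d.comm n V x
  v_frame n _ _ _ he := isBasisOn_map (he.pullback (lι 𝓘 n)) (d.κ n).hom

end Cover

end Groth.L13.FEtLeff
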