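import Groth.Agent.L13.FEtLeff.Spec
import Groth.Agent.L13.FEtLeff.Make
import Groth.Agent.L06.FEtLef.Full
import Groth.Agent.L06.FEtLef.Compl

/-!
# Essential surjectivity of restriction of finite étale covers from formal data
-/

set_option autoImplicit false
set_option linter.style.haveILetI false
set_option linter.unusedSectionVars false
set_option backward.isDefEq.respectTransparency false
set_option backward.isDefEq.respectTransparency.types false

universe u

open CategoryTheory CategoryTheory.Limits AlgebraicGeometry TopologicalSpace Opposite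

noncomputable section

namespace Groth.L13.FEtLeff

variable {U : Scheme.{u}} (𝓙 : U.IdealSheafData)

theorem exists_subscheme_iso {U : Scheme.{u}} (K L : U.IdealSheafData) (h : K = L) :
    ∃ j : K.subscheme ≅ L.subscheme, j.hom ≫ L.subschemeι = K.subschemeι := by
  subst h
  exact ⟨Iso.refl _, Category.id_comp _⟩

/-- The zeroth level is the closed subscheme. -/
theorem exists_lvlZero : ∃ j : lvl 𝓙 0 ≅ 𝓙.subscheme, j.hom ≫ 𝓙.subschemeι = lι 𝓙 0 :=
  exists_subscheme_iso (𝓙 ^ (0 + 1)) 𝓙 (pow_one 𝓙)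

/-- A cover of the closed subscheme as the zeroth level of a system of covers. -/
theorem exists_cover_of_subscheme (R : FEt.Cat 𝓙.subscheme) :
    ∃ (C : Cover 𝓙) (j : lvl 𝓙 0 ≅ 𝓙.subscheme) (e : C.R 0 ≅ R.left),
      j.hom ≫ 𝓙.subschemeι = lι 𝓙 0 ∧ e.hom ≫ R.hom = C.p 0 ≫ j.hom := by
  obtain ⟨j, hj⟩ := exists_lvlZero 𝓙
  haveI : IsFinite R.hom := R.prop.1
  haveI : AlgebraicGeometry.Etale R.hom := R.prop.2
  obtain ⟨C, e, he⟩ := exists_cover_of_fEt (MorphismProperty.Over.mk ⊤ (R.hom ≫ j.inv)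
    (show FEt.prop (R.hom ≫ j.inv) from ⟨inferInstance, inferInstance⟩))
  refine ⟨C, j, e, hj, ?_⟩
  rw [← he]
  show e.hom ≫ R.hom = (e.hom ≫ R.hom ≫ j.inv) ≫ j.hom
  simp only [Category.assoc, Iso.inv_hom_id, Category.comp_id]

/-- A presentation of a system of covers gives a cover of the ambient scheme restricting to the given one. -/
theorem exists_restrict_iso (hD : HomBij 𝓙) {R : FEt.Cat 𝓙.subscheme} {C : Cover 𝓙}
    {j : lvl 𝓙 0 ≅ 𝓙.subscheme} {e : C.R 0 ≅ R.left} (hj : j.hom ≫ 𝓙.subschemeι = lι 𝓙 0)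
    (he : e.hom ≫ R.hom = C.p 0 ≫ j.hom) {E : U.Modules} (hE : FlatMod.IsFinLocFree E) (P : Pres C E) :
    ∃ W : FEt.Cat U, Nonempty ((FEt.restrict 𝓙.subschemeι).obj W ≅ R) := by
  obtain ⟨W, g, q, hg, hg', hpb⟩ := P.exists_cover hE hD
  refine ⟨MorphismProperty.Over.mk ⊤ g (show FEt.prop g from ⟨hg, hg'⟩), ?_⟩
  have h : IsPullback (e.inv ≫ q) R.hom g 𝓙.subschemeι :=
    hpb.of_iso e (Iso.refl _) j (Iso.refl _) (by simp) he.symm (by simp) (by simp [hj])
  exact ⟨MorphismProperty.Over.isoMk h.isoPullback.symm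
    (by show h.isoPullback.inv ≫ R.hom = pullback.snd g 𝓙.subschemeι; exact h.isoPullback_inv_snd)⟩

/-- Formal algebraization of levelwise locally free systems gives essential surjectivity. -/
theorem essSurj_restrict (hD : HomBij 𝓙)
    (hess : ∀ C : Cover 𝓙, ∃ F : U.Modules, FlatMod.IsFinLocFree F ∧ Nonempty (FSch.complMod 𝓙 F ≅ C.modSys)) :
    (FEt.restrict 𝓙.subschemeι).EssSurj := ⟨fun R => by
  obtain ⟨C, j, e, hj, he⟩ := exists_cover_of_subscheme 𝓙 R
  obtain ⟨F, hF, hiso⟩ := hess C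
  obtain ⟨d⟩ := C.nonempty_datum hiso
  obtain ⟨W, hW⟩ := exists_restrict_iso 𝓙 hD hj he hF d.pres
  exact ⟨W, hW⟩⟩

end Groth.L13.FEtLeff
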