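import Groth.Agent.L13.FEtLeff.QuasiAffineLef
import Groth.Agent.L06.CTensPS
import Groth.Agent.L12.PowSer
import Groth.Agent.S11650
import Groth.Agent.L04.Depth

/-! Power series over a ring of depth two along the ideal of the variables. -/

set_option autoImplicit false
set_option linter.style.haveILetI false
set_option linter.unusedSectionVars false
set_option backward.isDefEq.respectTransparency false
set_option backward.isDefEq.respectTransparency.types false

universe u

open CategoryTheory CategoryTheory.Limits AlgebraicGeometry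
open IsLocalRing (maximalIdeal closedPoint)
open RingTheory.Sequence

noncomputable section

namespace Groth.L13.FEtLeff.PowSer

variable {A : Type u} [CommRing A] {d : ℕ}

/-- The ideal of the variables. -/
abbrev J (A : Type u) [CommRing A] (d : ℕ) : Ideal (MvPowerSeries (Fin d) A) :=
  Ideal.span (Set.range MvPowerSeries.X)

theorem mem_pow_iff (n : ℕ) (f : MvPowerSeries (Fin d) A) :
    f ∈ J A d ^ n ↔ ∀ e : Fin d →₀ ℕ, e.degree < n → MvPowerSeries.coeff e f = 0 := by
  refine ⟨fun hf e he => MvPowerSeries.coeff_of_lt_order (lt_of_lt_of_le (by exact_mod_cast he)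
    (show (n : ℕ∞) ≤ f.order from ?_)), fun h => ?_⟩
  · clear he e
    induction n generalizing f with
    | zero => simp
    | succ n ih =>
      rw [pow_succ] at hf
      refine Submodule.mul_induction_on hf (fun a ha b hb => ?_) fun a b ha hb => le_trans (le_min ha hb) MvPowerSeries.min_order_le_add
      have hb1 : (1 : ℕ∞) ≤ b.order := by
        rw [MvPowerSeries.one_le_order_iff_constCoeff_eq_zero]
        have hle : J A d ≤ RingHom.ker (MvPowerSeries.constantCoeff : MvPowerSeries (Fin d) A →+* A) :=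
          Ideal.span_le.2 (by rintro _ ⟨i, rfl⟩; exact MvPowerSeries.constantCoeff_X i)
        exact hle hb
      push_cast
      exact (add_le_add (ih a ha) hb1).trans MvPowerSeries.le_order_mul
  · have h0 : MvPowerSeries.truncTotal n f = 0 := by
      refine MvPolynomial.ext _ _ fun e => ?_
      by_cases he : e.degree < n
      · rw [MvPowerSeries.coeff_truncTotal _ he, h e he, MvPolynomial.coeff_zero]
      · rw [MvPowerSeries.coeff_truncTotal_eq_zero _ (not_lt.1 he), MvPolynomial.coeff_zero]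
    have := Groth.L12.sub_truncTotal_mem f n
    rwa [h0, MvPolynomial.coe_zero, sub_zero] at this

theorem ker_constantCoeff :
    RingHom.ker (MvPowerSeries.constantCoeff : MvPowerSeries (Fin d) A →+* A) = J A d := by
  ext f
  rw [RingHom.mem_ker, show f ∈ J A d ↔ f ∈ J A d ^ 1 by rw [pow_one], mem_pow_iff]
  refine ⟨fun h e he => ?_, fun h => ?_⟩
  · rw [(Finsupp.degree_eq_zero_iff e).1 (Nat.lt_one_iff.1 he), MvPowerSeries.coeff_zero_eq_constantCoeff_apply, h]
  · rw [← MvPowerSeries.coeff_zero_eq_constantCoeff_apply]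
    exact h 0 (by simp)

instance isAdicComplete_J : IsAdicComplete (J A d) (MvPowerSeries (Fin d) A) where
  toIsHausdorff := ⟨fun f hf => MvPowerSeries.ext fun e => by
    have h := SModEq.sub_mem.1 (hf (e.degree + 1))
    rw [sub_zero, smul_eq_mul, Ideal.mul_top, mem_pow_iff] at h
    rw [map_zero]
    exact h e (Nat.lt_succ_self _)⟩
  toIsPrecomplete := ⟨fun f hf => by
    refine ⟨fun e => MvPowerSeries.coeff e (f (e.degree + 1)), fun n => ?_⟩
    rw [SModEq.sub_mem, smul_eq_mul, Ideal.mul_top, mem_pow_iff]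
    intro e he
    have h := SModEq.sub_mem.1 (hf (show e.degree + 1 ≤ n by omega))
    rw [smul_eq_mul, Ideal.mul_top, mem_pow_iff] at h
    have h' := h e (Nat.lt_succ_self _)
    rw [map_sub, sub_eq_zero] at h' ⊢
    exact h'.symm⟩

theorem coeff_mem {I : Ideal A} {f : MvPowerSeries (Fin d) A}
    (hf : f ∈ I.map (MvPowerSeries.C : A →+* MvPowerSeries (Fin d) A)) (e : Fin d →₀ ℕ) :
    MvPowerSeries.coeff e f ∈ I := by
  have hle : I.map (MvPowerSeries.C : A →+* MvPowerSeries (Fin d) A) ≤
      RingHom.ker (MvPowerSeries.map (σ := Fin d) (Ideal.Quotient.mk I)) :=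
    Ideal.map_le_iff_le_comap.2 fun r hr => by
      show MvPowerSeries.map (Ideal.Quotient.mk I) (MvPowerSeries.C r) = 0
      rw [MvPowerSeries.map_C, Ideal.Quotient.eq_zero_iff_mem.2 hr, map_zero]
  have h := congrArg (MvPowerSeries.coeff e) (RingHom.mem_ker.1 (hle hf))
  rw [MvPowerSeries.coeff_map, map_zero] at h
  exact Ideal.Quotient.eq_zero_iff_mem.1 h

theorem mem_sup_pow_iff (I : Ideal A) (n : ℕ) (f : MvPowerSeries (Fin d) A) :
    f ∈ I.map (MvPowerSeries.C : A →+* MvPowerSeries (Fin d) A) ⊔ J A d ^ n ↔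
      ∀ e : Fin d →₀ ℕ, e.degree < n → MvPowerSeries.coeff e f ∈ I := by
  classical
  refine ⟨fun h e he => ?_, fun h => ?_⟩
  · obtain ⟨a, ha, b, hb, rfl⟩ := Submodule.mem_sup.1 h
    rw [map_add, (mem_pow_iff n b).1 hb e he, add_zero]
    exact coeff_mem ha e
  · let q := MvPowerSeries.truncTotal n f
    have hq : q ∈ I.map (MvPolynomial.C : A →+* MvPolynomial (Fin d) A) := MvPolynomial.mem_map_C_iff.2 fun e => by
      by_cases he : e.degree < n
      · rw [MvPowerSeries.coeff_truncTotal _ he]; exact h e he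
      · rw [MvPowerSeries.coeff_truncTotal_eq_zero _ (not_lt.1 he)]; exact I.zero_mem
    have hq' : (q : MvPowerSeries (Fin d) A) ∈ I.map (MvPowerSeries.C : A →+* MvPowerSeries (Fin d) A) := by
      have := Ideal.mem_map_of_mem (MvPolynomial.coeToMvPowerSeries.ringHom (σ := Fin d) (R := A)) hq
      rw [Ideal.map_map] at this
      refine (le_of_eq (congrArg (fun φ => Ideal.map φ I) (RingHom.ext fun a => ?_))) this
      exact MvPolynomial.coe_C a
    rw [show f = (q : MvPowerSeries (Fin d) A) + (f - q) by ring]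
    exact Submodule.add_mem_sup hq' (Groth.L12.sub_truncTotal_mem f n)

/-- Regular sequences of constants stay regular modulo powers of the variables. -/
theorem isWeaklyRegular_level (rs : List A) (h : IsWeaklyRegular A rs) (n : ℕ) :
    IsWeaklyRegular (MvPowerSeries (Fin d) A ⧸ J A d ^ n) (rs.map (MvPowerSeries.C : A →+* MvPowerSeries (Fin d) A)) := by
  refine ⟨fun i hi => ?_⟩
  rw [List.length_map] at hi
  have hreg := h.regular_mod_prev i hi
  let I : Ideal A := Ideal.ofList (rs.take i)
  let K := Ideal.ofList ((rs.map (MvPowerSeries.C : A →+* MvPowerSeries (Fin d) A)).take i)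
  have hK : K = I.map (MvPowerSeries.C : A →+* MvPowerSeries (Fin d) A) := by
    rw [Ideal.map_ofList, List.map_take]
  have hmem : ∀ g : MvPowerSeries (Fin d) A,
      (Ideal.Quotient.mk (J A d ^ n) g ∈ K • (⊤ : Submodule (MvPowerSeries (Fin d) A) (MvPowerSeries (Fin d) A ⧸ J A d ^ n))) ↔
        ∀ e : Fin d →₀ ℕ, e.degree < n → MvPowerSeries.coeff e g ∈ I := fun g => by
    rw [Ideal.smul_top_eq_map, Submodule.restrictScalars_mem, ← mem_sup_pow_iff, ← hK]
    show Ideal.Quotient.mk _ g ∈ K.map (Ideal.Quotient.mk (J A d ^ n)) ↔ _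
    rw [← Ideal.mem_comap, Ideal.comap_map_of_surjective _ Ideal.Quotient.mk_surjective, ← RingHom.ker_eq_comap_bot,
      Ideal.mk_ker]
  rw [isSMulRegular_quotient_iff_mem_of_smul_mem] at hreg ⊢
  intro x hx
  obtain ⟨g, rfl⟩ := Ideal.Quotient.mk_surjective x
  rw [List.getElem_map, show MvPowerSeries.C rs[i] • Ideal.Quotient.mk (J A d ^ n) g =
    Ideal.Quotient.mk (J A d ^ n) (MvPowerSeries.C rs[i] * g) from rfl, hmem] at hx
  rw [hmem]
  intro e he
  have h1 := hreg (MvPowerSeries.coeff e g) (by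
    have := hx e he
    rw [MvPowerSeries.coeff_C_mul] at this
    rw [smul_eq_mul, Ideal.mul_top]
    exact this)
  rwa [smul_eq_mul, Ideal.mul_top] at h1

variable [IsLocalRing A] [IsNoetherianRing A]

theorem C_mem_maximalIdeal {a : A} (ha : a ∈ maximalIdeal A) :
    MvPowerSeries.C a ∈ maximalIdeal (MvPowerSeries (Fin d) A) := by
  rw [Groth.L12.ps_mem_maximalIdeal_iff, MvPowerSeries.constantCoeff_C]
  exact ha

theorem exists_regular_two (hA : (2 : ℕ∞) ≤ LocCoh.depth A A) :
    ∃ rs : List A, rs.length = 2 ∧ (∀ r ∈ rs, r ∈ maximalIdeal A) ∧ IsWeaklyRegular A rs := by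
  obtain ⟨rs, hlen, hrs, hI⟩ := Groth.L04.exists_of_le_idealDepth
    (Groth.L04.smul_top_ne_top_of_nontrivial (IsLocalRing.maximalIdeal.isMaximal A).ne_top)
    (show ((2 : ℕ) : ℕ∞) ≤ LocCoh.idealDepth (maximalIdeal A) A from hA)
  exact ⟨rs, hlen, hI, hrs⟩

theorem depth_level (hA : (2 : ℕ∞) ≤ LocCoh.depth A A) (n : ℕ)
    [IsLocalRing (MvPowerSeries (Fin d) A ⧸ J A d ^ n)] :
    (2 : ℕ∞) ≤ LocCoh.depth (MvPowerSeries (Fin d) A ⧸ J A d ^ n) (MvPowerSeries (Fin d) A ⧸ J A d ^ n) := by
  haveI : IsNoetherianRing (MvPowerSeries (Fin d) A) := Groth.L06.CTens.isNoetherianRing_ps A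
  obtain ⟨rs, hlen, hm, hrs⟩ := exists_regular_two hA
  let B := MvPowerSeries (Fin d) A
  let Q := B ⧸ J A d ^ n
  have hmax : (maximalIdeal B).map (algebraMap B Q) = maximalIdeal Q :=
    IsLocalRing.map_maximalIdeal_of_surjective _ Ideal.Quotient.mk_surjective
  have h := Groth.L04.length_le_idealDepth (I := maximalIdeal B) (isWeaklyRegular_level rs hrs n) (by
    intro r hr
    obtain ⟨a, ha, rfl⟩ := List.mem_map.1 hr
    exact C_mem_maximalIdeal (hm a ha))
  rw [List.length_map, hlen, Groth.L04.idealDepth_eq_idealDepth_map_of_finite (B := Q) (maximalIdeal B), hmax] at h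
  exact h

theorem depth_ge (hA : (2 : ℕ∞) ≤ LocCoh.depth A A) :
    ((d + 2 : ℕ) : ℕ∞) ≤ LocCoh.depth (MvPowerSeries (Fin d) A) (MvPowerSeries (Fin d) A) := by
  haveI : IsNoetherianRing (MvPowerSeries (Fin d) A) := Groth.L06.CTens.isNoetherianRing_ps A
  obtain ⟨rs, hlen, hm, hrs⟩ := exists_regular_two hA
  let B := MvPowerSeries (Fin d) A
  let xs := List.ofFn fun i => (MvPowerSeries.X i : B)
  have hX : Ideal.ofList xs = J A d := congrArg Ideal.span (Set.ext fun x => List.mem_ofFn)
  have happ : IsWeaklyRegular B (xs ++ rs.map (MvPowerSeries.C : A →+* B)) := by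
    rw [isWeaklyRegular_append_iff]
    refine ⟨Groth.L06.CTens.isWeaklyRegular_X A, ?_⟩
    have h1 := isWeaklyRegular_level (d := d) rs hrs 1
    refine ((Submodule.quotEquivOfEq _ _ ?_).isWeaklyRegular_congr _).2 h1
    rw [hX, smul_eq_mul, Ideal.mul_top, pow_one]
  have h := Groth.L04.length_le_idealDepth (I := maximalIdeal B) happ (by
    intro r hr
    rcases List.mem_append.1 hr with hr | hr
    · obtain ⟨i, rfl⟩ := List.mem_ofFn.1 hr
      exact Groth.L12.X_mem_maximalIdeal i
    · obtain ⟨a, ha, rfl⟩ := List.mem_map.1 hr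
      exact C_mem_maximalIdeal (hm a ha))
  rw [List.length_append, List.length_ofFn, List.length_map, hlen] at h
  exact h

theorem eq_closedPoint_of_le {r : PrimeSpectrum (MvPowerSeries (Fin d) A)}
    (hm : maximalIdeal (MvPowerSeries (Fin d) A) ≤ r.asIdeal) : r = closedPoint _ :=
  PrimeSpectrum.ext ((IsLocalRing.maximalIdeal.isMaximal _).eq_of_le r.2.ne_top hm).symm

/-- Primes off an open containing the punctured zero locus of the variables have depth two. -/
theorem depth_off (hA : (2 : ℕ∞) ≤ LocCoh.depth A A) (V : (Spec (CommRingCat.of (MvPowerSeries (Fin d) A))).Opens)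
    (hV : ∀ y : PrimeSpectrum (MvPowerSeries (Fin d) A), J A d ≤ y.asIdeal → y ≠ closedPoint _ → y ∈ V)
    (q : PrimeSpectrum (MvPowerSeries (Fin d) A)) (hq : q ∉ V) :
    (2 : ℕ∞) ≤ LocCoh.depth (Localization.AtPrime q.asIdeal) (Localization.AtPrime q.asIdeal) := by
  haveI : IsNoetherianRing (MvPowerSeries (Fin d) A) := Groth.L06.CTens.isNoetherianRing_ps A
  let B := MvPowerSeries (Fin d) A
  let 𝔪 := maximalIdeal B
  haveI : IsLocalRing (B ⧸ q.asIdeal) := Groth.L01.isLocalRing_quotient q.2.ne_top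
  let qh : B →+* B ⧸ q.asIdeal := Ideal.Quotient.mk q.asIdeal
  have hmap : 𝔪.map qh = maximalIdeal (B ⧸ q.asIdeal) :=
    IsLocalRing.map_maximalIdeal_of_surjective _ Ideal.Quotient.mk_surjective
  -- the variables cut out the closed point on `V(q)`
  have hmin : maximalIdeal (B ⧸ q.asIdeal) ∈
      (Ideal.span (qh '' Set.range (MvPowerSeries.X : Fin d → B))).minimalPrimes := by
    rw [← Ideal.map_span]
    refine ⟨⟨inferInstance, hmap ▸ Ideal.map_mono (Ideal.span_le.2 ?_)⟩, fun P hP _ => ?_⟩
    · rintro _ ⟨i, rfl⟩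
      exact Groth.L12.X_mem_maximalIdeal i
    · haveI := hP.1
      by_contra hne
      let y : PrimeSpectrum B := ⟨P.comap qh, inferInstance⟩
      have hqy : q ≤ y := fun a ha => by
        show qh a ∈ P
        rw [Ideal.Quotient.eq_zero_iff_mem.2 ha]
        exact P.zero_mem
      have hyV : y ∈ V := by
        refine hV y (Ideal.map_le_iff_le_comap.1 hP.2) fun he => hne ?_
        rw [← Ideal.map_comap_of_surjective qh Ideal.Quotient.mk_surjective P,
          show P.comap qh = 𝔪 from congrArg PrimeSpectrum.asIdeal he, hmap]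
      exact hq (((PrimeSpectrum.le_iff_specializes q y).1 hqy).mem_open V.2 hyV)
  have hdim : (𝔪.map qh).height ≤ (d : ℕ∞) := by
    rw [hmap]
    refine (Ideal.height_le_card_of_mem_minimalPrimes_span ((Set.finite_range _).image qh) hmin).trans
      (Nat.cast_le.2 ((Set.ncard_image_le (Set.finite_range _)).trans ?_))
    rw [← Nat.card_coe_set_eq]
    exact (Finite.card_range_le _).trans (by simp)
  have h1 := Groth.Agent.S11650.result B B q.asIdeal 𝔪 (IsLocalRing.le_maximalIdeal q.2.ne_top)
  have e : B ≃+* Localization.AtPrime 𝔪 := (IsLocalization.atUnits B 𝔪.primeCompl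
    (fun a ha => IsLocalRing.notMem_maximalIdeal.1 ha)).toRingEquiv
  have h2 : ((d + 2 : ℕ) : ℕ∞) ≤ LocCoh.depth (Localization.AtPrime 𝔪) (Localization.AtPrime 𝔪) :=
    (depth_ge hA).trans (Groth.L06.FlatFibre.depth_eq_of_ringEquiv e).ge
  have h3 := (h2.trans h1).trans (add_le_add le_rfl hdim)
  change _ ≤ LocCoh.depth (Localization.AtPrime q.asIdeal) (Localization.AtPrime q.asIdeal) + _ at h3
  push_cast at h3
  rw [add_comm (d : ℕ∞) 2] at h3
  exact (ENat.add_le_add_iff_right (ENat.coe_ne_top d)).1 h3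

/-- Restriction from an open containing the punctured zero locus of the variables is fully faithful. -/
theorem fullyFaithful (hA : (2 : ℕ∞) ≤ LocCoh.depth A A)
    (V : (Spec (CommRingCat.of (MvPowerSeries (Fin d) A))).Opens)
    (hV : ∀ y : PrimeSpectrum (MvPowerSeries (Fin d) A), J A d ≤ y.asIdeal → y ≠ closedPoint _ → y ∈ V) :
    (FEt.restrict (pullback.fst V.ι (Spec.map (CommRingCat.ofHom
      (MvPowerSeries.constantCoeff : MvPowerSeries (Fin d) A →+* A))))).Full ∧
    (FEt.restrict (pullback.fst V.ι (Spec.map (CommRingCat.ofHom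
      (MvPowerSeries.constantCoeff : MvPowerSeries (Fin d) A →+* A))))).Faithful := by
  haveI : IsNoetherianRing (MvPowerSeries (Fin d) A) := Groth.L06.CTens.isNoetherianRing_ps A
  refine QALef.fullyFaithful_restrict V (J A d) (depth_off hA V hV) (fun n r hr => ?_)
    MvPowerSeries.constantCoeff (fun a => ⟨MvPowerSeries.C a, MvPowerSeries.constantCoeff_C a⟩) ker_constantCoeff
  let B := MvPowerSeries (Fin d) A
  let K := J A d ^ (n + 1)
  haveI : IsLocalRing (B ⧸ K) := Groth.L01.isLocalRing_quotient fun h => r.2.ne_top (by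
    haveI := (Ideal.Quotient.subsingleton_iff (I := K)).2 h
    exact Subsingleton.elim _ _)
  let y : PrimeSpectrum B := PrimeSpectrum.comap (Ideal.Quotient.mk K) r
  have hy : J A d ≤ y.asIdeal := fun a ha => y.2.mem_of_pow_mem (n + 1) (by
    show Ideal.Quotient.mk K (a ^ (n + 1)) ∈ r.asIdeal
    rw [Ideal.Quotient.eq_zero_iff_mem.2 (Ideal.pow_mem_pow ha (n + 1))]
    exact r.asIdeal.zero_mem)
  have hyc : y = closedPoint B := by
    by_contra hne
    exact hr (hV y hy hne)
  have hrm : r.asIdeal = maximalIdeal (B ⧸ K) := by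
    rw [← Ideal.map_comap_of_surjective _ Ideal.Quotient.mk_surjective r.asIdeal,
      show r.asIdeal.comap (Ideal.Quotient.mk K) = maximalIdeal B from congrArg PrimeSpectrum.asIdeal hyc,
      IsLocalRing.map_maximalIdeal_of_surjective _ Ideal.Quotient.mk_surjective]
  have key : ∀ (p : Ideal (B ⧸ K)) [p.IsPrime], p = maximalIdeal (B ⧸ K) →
      (2 : ℕ∞) ≤ LocCoh.depth (Localization.AtPrime p) (Localization.AtPrime p) := by
    rintro p hp rfl
    have e : B ⧸ K ≃+* Localization.AtPrime (maximalIdeal (B ⧸ K)) := (IsLocalization.atUnits _ (maximalIdeal (B ⧸ K)).primeCompl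
      (fun a ha => IsLocalRing.notMem_maximalIdeal.1 ha)).toRingEquiv
    exact (depth_level hA (n + 1)).trans (Groth.L06.FlatFibre.depth_eq_of_ringEquiv e).ge
  exact key r.asIdeal hrm

end Groth.L13.FEtLeff.PowSer
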