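import Groth.Agent.L13.FEtLeff.Cover
import Groth.Agent.L13.FEtLeff.Bilinear

/-!
# Locally free modules with a formal identification with the functions on a system of covers

The trace pairing lifts to a perfect pairing, so morphisms into the module are given by formal data.
-/

set_option autoImplicit false
set_option linter.style.haveILetI false
set_option linter.unusedSectionVars false
set_option backward.isDefEq.respectTransparency false
set_option backward.isDefEq.respectTransparency.types false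

universe u

open CategoryTheory CategoryTheory.Limits AlgebraicGeometry TopologicalSpace Opposite
open Groth.L18.Frame (rs ro rs_rs ro_ro rs_smul rs_self ro_self)
open Groth.L19.ProjBdl (IsBasisOn lc coord lc_coord coord_eq rs_lc app_lc exists_basisOn app_rs)
open Groth.L16.HomSh (Sec ev sec_ext secEquiv homMod unitFam ev_unitFam sec_ext_basis ext_cover exists_glue)

noncomputable section

namespace Groth.L13.FEtLeff

variable {U : Scheme.{u}}

/-- Sections are equal when they are so near every point. -/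
theorem local_ext (N : U.Modules) {W : U.Opens} {s t : Γ(N, W)}
    (h : ∀ x ∈ W, ∃ (V : U.Opens) (hV : V ≤ W), x ∈ V ∧ rs N hV s = rs N hV t) : s = t := by
  choose V hV hxV he using h
  exact ext_cover N (fun x : W => V x.1 x.2) (fun x => hV x.1 x.2)
    (fun x hx => Opens.mem_iSup.2 ⟨⟨x, hx⟩, hxV x hx⟩) fun x => he x.1 x.2

theorem isFinLocFree_O : FlatMod.IsFinLocFree (Coh.structureModule U) := fun x =>
  ⟨⊤, 1, trivial, ⟨Scheme.Modules.restrictUnitIso _ ≪≫
    (coproductUniqueIso fun _ : Fin 1 => Coh.structureModule (⊤ : U.Opens).toScheme).symm⟩⟩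

/-- A locally free module identified, level by level, with the functions on a system of covers. -/
structure Pres {𝓙 : U.IdealSheafData} (C : Cover 𝓙) (E : U.Modules) where
  /-- the reductions -/
  v : ∀ n, E ⟶ C.Bmod n
  v_t : ∀ n, v (n + 1) ≫ C.tHom n = v n
  v_frame : ∀ (n m : ℕ) (W : U.Opens) (e : Fin m → Γ(E, W)), IsBasisOn E W e →
    C.IsFrame n W fun j => (v n).app W (e j)

/-- The Lefschetz property: morphisms to the structure module are the formal ones. -/
abbrev HomBij (𝓙 : U.IdealSheafData) : Prop :=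
  ∀ D : U.Modules, FlatMod.IsFinLocFree D → Lef.HomToFormalBijective 𝓙 D

namespace Pres

variable {𝓙 : U.IdealSheafData} {C : Cover 𝓙} {E : U.Modules} (P : Pres C E)
  (hE : FlatMod.IsFinLocFree E) (hD : HomBij 𝓙)

/-- The reduction of a section. -/
abbrev vS (n : ℕ) (W : U.Opens) (x : Γ(E, W)) : C.B n W := (P.v n).app W x

theorem vS_add (n : ℕ) (W : U.Opens) (x y : Γ(E, W)) : P.vS n W (x + y) = P.vS n W x + P.vS n W y :=
  map_add ((P.v n).app W).hom x y

theorem vS_sum (n : ℕ) (W : U.Opens) {ι : Type*} (s : Finset ι) (f : ι → Γ(E, W)) :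
    P.vS n W (∑ i ∈ s, f i) = ∑ i ∈ s, P.vS n W (f i) := map_sum ((P.v n).app W).hom _ _

theorem vS_smul (n : ℕ) (W : U.Opens) (a : Γ(U, W)) (x : Γ(E, W)) :
    P.vS n W (a • x) = C.qB n W a * P.vS n W x := (P.v n).app_smul a x

theorem vS_rs (n : ℕ) {W W' : U.Opens} (h : W' ≤ W) (x : Γ(E, W)) :
    P.vS n W' (rs E h x) = rf _ ((C.r n).preimage_mono h) (P.vS n W x) := app_rs (P.v n) h x

theorem vS_t (n : ℕ) (W : U.Opens) (x : Γ(E, W)) : C.tB n W (P.vS (n + 1) W x) = P.vS n W x :=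
  congr($(congrArg (fun k => Scheme.Modules.Hom.app k W) (P.v_t n)) x)

include P in
/-- Frames at all levels near a point. -/
theorem exists_frames (hE : FlatMod.IsFinLocFree E) (x : U) (O : U.Opens) (hx : x ∈ O) :
    ∃ (V : U.Opens) (m : ℕ) (e : Fin m → Γ(E, V)), IsAffineOpen V ∧ x ∈ V ∧ V ≤ O ∧ IsBasisOn E V e ∧
      ∀ n, C.IsFrame n V fun j => P.vS n V (e j) := by
  obtain ⟨V, m, e, hV, hxV, hVO, he⟩ := exists_basisOn hE x O hx
  exact ⟨V, m, e, hV, hxV, hVO, he, fun n => P.v_frame n m V e he⟩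

include P hE in
/-- Traces are compatible with the transitions. -/
theorem tA_trB (n : ℕ) (W : U.Opens) (b : C.B (n + 1) W) :
    C.tA n W (C.trB (n + 1) W b) = C.trB n W (C.tB n W b) := by
  refine local_ext (ClSub.quotMod (𝓙 ^ (n + 1))) fun x hx => ?_
  obtain ⟨V, m, e, hV, hxV, hVW, -, hf⟩ := P.exists_frames hE x W hx
  refine ⟨V, hVW, hxV, ?_⟩
  show rf _ _ (C.tA n W (C.trB (n + 1) W b)) = rf _ _ (C.trB n W (C.tB n W b))
  rw [← C.tA_rf n hVW, ← C.trB_rf (n + 1) hVW, ← C.trB_rf n hVW, ← C.tB_rf n hVW]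
  have hc' : C.IsFrame n V fun j => C.tB n V (P.vS (n + 1) V (e j)) := by
    simp only [P.vS_t]
    exact hf n
  exact C.tA_trB n hV (hf (n + 1)) hc' _

variable {M N : U.Modules}

include hD in
/-- Lifting bilinear formal families. -/
theorem lift_bil (hT : FlatMod.IsFinLocFree (CohB1.tensorMod M N))
    (β : ∀ (n : ℕ) (W : U.Opens), Γ(M, W) → Γ(N, W) → C.A n W)
    (hβ : ∀ n, IsBil (P := ClSub.quotMod (𝓙 ^ (n + 1))) (β n))
    (ht : ∀ n W a b, C.tA n W (β (n + 1) W a b) = β n W a b) :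
    ∃ φ : ∀ W : U.Opens, Γ(M, W) → Γ(N, W) → Γ(U, W), IsBil (P := Coh.structureModule U) φ ∧
      ∀ n W a b, C.qA n W (φ W a b) = β n W a b := by
  choose y hy using fun n => exists_hom_bil (hβ n)
  obtain ⟨φ, hφ⟩ := (hD _ hT).2 y fun n => bil_ext fun W a b => by
    refine (congrArg ((Lef.quotMap (Lef.pow_succ_le 𝓙 n)).app W) (hy (n + 1) W a b)).trans ?_
    exact ((quotMap_app 𝓙 n W (β (n + 1) W a b)).trans (ht n W a b)).trans (hy n W a b).symm
  exact ⟨_, isBil_of_hom φ, fun n W a b =>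
    (congr($(congrArg (fun k => Scheme.Modules.Hom.app k W) (hφ n)) (tp M N W a b))).trans (hy n W a b)⟩

include hD in
/-- Bilinear functions agreeing formally agree. -/
theorem eq_of_formal (hT : FlatMod.IsFinLocFree (CohB1.tensorMod M N))
    {φ ψ : ∀ W : U.Opens, Γ(M, W) → Γ(N, W) → Γ(U, W)} (hφ : IsBil (P := Coh.structureModule U) φ)
    (hψ : IsBil (P := Coh.structureModule U) ψ) (h : ∀ n W a b, C.qA n W (φ W a b) = C.qA n W (ψ W a b))
    (W : U.Opens) (a : Γ(M, W)) (b : Γ(N, W)) : φ W a b = ψ W a b := by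
  obtain ⟨f, hf⟩ := exists_hom_bil hφ
  obtain ⟨g, hg⟩ := exists_hom_bil hψ
  have hfg : f = g := (hD _ hT).1 f g fun n => bil_ext fun W a b => by
    show C.qA n W (f.app W _) = C.qA n W (g.app W _)
    rw [hf, hg]
    exact h n W a b
  exact (hf W a b).symm.trans (hfg ▸ hg W a b)

/-- The formal trace pairing. -/
def trPair (n : ℕ) (W : U.Opens) (a b : Γ(E, W)) : C.A n W := C.trB n W (P.vS n W a * P.vS n W b)

theorem isBil_trPair (n : ℕ) : IsBil (P := ClSub.quotMod (𝓙 ^ (n + 1))) (P.trPair n) where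
  add_left W a a' b := by
    show C.trB n W (P.vS n W (a + a') * _) = _
    rw [vS_add, add_mul]
    exact C.trB_add n W _ _
  add_right W a b b' := by
    show C.trB n W (_ * P.vS n W (b + b')) = _
    rw [vS_add, mul_add]
    exact C.trB_add n W _ _
  smul_left W r a b := by
    show C.trB n W (P.vS n W (r • a) * _) = _
    rw [vS_smul, mul_assoc]
    exact C.trB_qB n W r _
  smul_right W r a b := by
    show C.trB n W (_ * P.vS n W (r • b)) = _
    rw [vS_smul, mul_left_comm]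
    exact C.trB_qB n W r _
  res W V h a b := by
    show C.trB n V (P.vS n V (rs E h a) * P.vS n V (rs E h b)) = rf _ _ (C.trB n W (_ * _))
    rw [vS_rs, vS_rs, ← map_mul]
    exact C.trB_rf n h _

include hE in
theorem trPair_t (n : ℕ) (W : U.Opens) (a b : Γ(E, W)) : C.tA n W (P.trPair (n + 1) W a b) = P.trPair n W a b := by
  rw [trPair, P.tA_trB hE, map_mul, vS_t, vS_t]
  rfl

include hE hD in
theorem exists_beta : ∃ φ : ∀ W : U.Opens, Γ(E, W) → Γ(E, W) → Γ(U, W),
    IsBil (P := Coh.structureModule U) φ ∧ ∀ n W a b, C.qA n W (φ W a b) = P.trPair n W a b :=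
  lift_bil hD (Groth.L29.DC.isFinLocFree_tensor hE hE) _ P.isBil_trPair (P.trPair_t hE)

/-- The lifted trace pairing. -/
def beta (W : U.Opens) (a b : Γ(E, W)) : Γ(U, W) := (P.exists_beta hE hD).choose W a b

theorem isBil_beta : IsBil (P := Coh.structureModule U) (P.beta hE hD) := (P.exists_beta hE hD).choose_spec.1

theorem qA_beta (n : ℕ) (W : U.Opens) (a b : Γ(E, W)) :
    C.qA n W (P.beta hE hD W a b) = C.trB n W (P.vS n W a * P.vS n W b) :=
  (P.exists_beta hE hD).choose_spec.2 n W a b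

theorem beta_comm (W : U.Opens) (a b : Γ(E, W)) : P.beta hE hD W a b = P.beta hE hD W b a :=
  eq_of_formal (C := C) hD (Groth.L29.DC.isFinLocFree_tensor hE hE) (P.isBil_beta hE hD)
    (P.isBil_beta hE hD).swap (fun n W a b => by rw [qA_beta, qA_beta, mul_comm]) W a b

section Ell

/-- The dual of `E`. -/
abbrev Ed (E : U.Modules) : U.Modules := homMod E (Coh.structureModule U)

include hE in
theorem isFinLocFree_Ed : FlatMod.IsFinLocFree (Ed E) := Groth.L16.HomSh.isFinLocFree_homMod hE isFinLocFree_O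

/-- The value of a functional at a section. -/
abbrev evd (W : U.Opens) (μ : Γ(Ed E, W)) (x : Γ(E, W)) : Γ(U, W) := ev (secEquiv W μ) le_rfl x

theorem isBil_evd : IsBil (P := Coh.structureModule U) (evd (E := E)) := isBil_uncurry (𝟙 (Ed E))

theorem evd_rs {W W' : U.Opens} (h : W' ≤ W) (μ : Γ(Ed E, W)) (x : Γ(E, W')) :
    evd W' (rs (Ed E) h μ) x = ev (secEquiv W μ) h x := rfl

/-- `b` represents the functional `μ` on the `n`-th cover. -/
def IsEll (n : ℕ) (W : U.Opens) (μ : Γ(Ed E, W)) (b : C.B n W) : Prop :=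
  ∀ (W' : U.Opens) (h : W' ≤ W) (x : Γ(E, W')),
    C.trB n W' (rf _ ((C.r n).preimage_mono h) b * P.vS n W' x) = C.qA n W' (ev (secEquiv W μ) h x)

theorem IsEll.res {n : ℕ} {W W' : U.Opens} (h : W' ≤ W) {μ : Γ(Ed E, W)} {b : C.B n W}
    (hb : P.IsEll n W μ b) : P.IsEll n W' (rs (Ed E) h μ) (rf _ ((C.r n).preimage_mono h) b) := by
  intro W'' h' x
  rw [rf_rf]
  exact hb W'' (h'.trans h) x

include hE in
theorem isEll_unique (n : ℕ) (W : U.Opens) (μ : Γ(Ed E, W)) {b b' : C.B n W} (hb : P.IsEll n W μ b)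
    (hb' : P.IsEll n W μ b') : b = b' := by
  refine local_ext (C.Bmod n) fun x hx => ?_
  obtain ⟨V, m, e, hV, hxV, hVW, -, hf⟩ := P.exists_frames hE x W hx
  exact ⟨V, hVW, hxV, C.eq_of_trB_eq n hV (hf n) fun j => (hb V hVW (e j)).trans (hb' V hVW (e j)).symm⟩

include hE in
theorem exists_isEll (n : ℕ) (W : U.Opens) (μ : Γ(Ed E, W)) : ∃ b : C.B n W, P.IsEll n W μ b := by
  classical
  have loc : ∀ x : W, ∃ (V : U.Opens) (h : V ≤ W), x.1 ∈ V ∧ ∃ b : C.B n V, P.IsEll n V (rs (Ed E) h μ) b := by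
    intro x
    obtain ⟨V, m, e, hV, hxV, hVW, he, hf⟩ := P.exists_frames hE x.1 W x.2
    obtain ⟨b, hb⟩ := C.exists_trB_eq n hV (hf n) fun j => C.qA n V (ev (secEquiv W μ) hVW (e j))
    refine ⟨V, hVW, hxV, b, fun W' h y => ?_⟩
    rw [← lc_coord he h y]
    simp only [lc]
    rw [vS_sum, Finset.mul_sum, C.trB_sum, map_sum, map_sum]
    refine Finset.sum_congr rfl fun j _ => ?_
    rw [vS_smul, mul_left_comm, C.trB_qB, vS_rs, ← map_mul, C.trB_rf n h, hb, Groth.L16.HomSh.ev_smul,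
      ← Groth.L16.HomSh.ev_rs _ le_rfl h]
    show _ = C.qA n W' (_ * _)
    rw [map_mul, ← C.qA_rf n h]
    rfl
  choose V hVW hxV b hb using loc
  obtain ⟨y, hy⟩ := exists_glue (C.Bmod n) V hVW (fun z hz => Opens.mem_iSup.2 ⟨⟨z, hz⟩, hxV ⟨z, hz⟩⟩) b
    fun x x' => by
      refine P.isEll_unique hE n _ (rs (Ed E) (inf_le_left.trans (hVW x)) μ) ?_ ?_
      · have := (hb x).res P (inf_le_left : V x ⊓ V x' ≤ V x)
        rwa [rs_rs] at this
      · have := (hb x').res P (inf_le_right : V x ⊓ V x' ≤ V x')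
        rwa [rs_rs] at this
  let y' : C.B n W := y
  refine ⟨y', fun W' h x => local_ext (ClSub.quotMod (𝓙 ^ (n + 1))) fun z hz => ?_⟩
  refine ⟨W' ⊓ V ⟨z, h hz⟩, inf_le_left, ⟨hz, hxV ⟨z, h hz⟩⟩, ?_⟩
  show rf _ _ (C.trB n W' _) = rf _ _ (C.qA n W' _)
  refine (C.trB_rf n inf_le_left _).symm.trans ?_
  refine (congrArg (C.trB n _) ((map_mul _ _ _).trans (congrArg₂ (· * ·) (rf_rf (C.R n) _ _ y')
    (P.vS_rs n inf_le_left x).symm))).trans ?_
  refine ((congrArg (fun c => C.trB n _ (c * _)) ?_).trans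
    (hb ⟨z, h hz⟩ (W' ⊓ V ⟨z, h hz⟩) inf_le_right (rs E inf_le_left x))).trans ?_
  · rw [← hy ⟨z, h hz⟩]
    exact (rf_rf (C.R n) _ _ y).symm
  · rw [← C.qA_rf n inf_le_left]
    refine congrArg (C.qA n _) ?_
    exact (Groth.L16.HomSh.ev_rs (secEquiv W μ) h inf_le_left x).symm

/-- The representative of a functional. -/
def ell (n : ℕ) (W : U.Opens) (μ : Γ(Ed E, W)) : C.B n W := (P.exists_isEll hE n W μ).choose

theorem isEll_ell (n : ℕ) (W : U.Opens) (μ : Γ(Ed E, W)) : P.IsEll n W μ (P.ell hE n W μ) :=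
  (P.exists_isEll hE n W μ).choose_spec

theorem ell_add (n : ℕ) (W : U.Opens) (μ ν : Γ(Ed E, W)) :
    P.ell hE n W (μ + ν) = P.ell hE n W μ + P.ell hE n W ν :=
  P.isEll_unique hE n W _ (P.isEll_ell hE n W _) fun W' h x => by
    rw [show rf (C.R n) ((C.r n).preimage_mono h) (P.ell hE n W μ + P.ell hE n W ν) = rf _ _ (P.ell hE n W μ) +
      rf _ _ (P.ell hE n W ν) from map_add _ _ _, add_mul, C.trB_add, P.isEll_ell hE n W μ W' h x,
      P.isEll_ell hE n W ν W' h x, ← map_add (C.qA n W')]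
    refine congrArg (C.qA n W') ?_
    rw [map_add]
    rfl

theorem ell_smul (n : ℕ) (W : U.Opens) (r : Γ(U, W)) (μ : Γ(Ed E, W)) :
    P.ell hE n W (r • μ) = C.qB n W r * P.ell hE n W μ :=
  P.isEll_unique hE n W _ (P.isEll_ell hE n W _) fun W' h x => by
    rw [show rf (C.R n) ((C.r n).preimage_mono h) (C.qB n W r * P.ell hE n W μ) = rf _ _ (C.qB n W r) *
      rf _ _ (P.ell hE n W μ) from map_mul _ _ _, ← C.qB_rf n h, mul_assoc, C.trB_qB, P.isEll_ell hE n W μ W' h x,
      ← map_mul (C.qA n W')]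
    refine congrArg (C.qA n W') ?_
    rw [map_smul, Groth.L16.HomSh.ev_smulSec]
    rfl

theorem ell_rs (n : ℕ) {W W' : U.Opens} (h : W' ≤ W) (μ : Γ(Ed E, W)) :
    P.ell hE n W' (rs (Ed E) h μ) = rf _ ((C.r n).preimage_mono h) (P.ell hE n W μ) :=
  P.isEll_unique hE n W' _ (P.isEll_ell hE n W' _) ((P.isEll_ell hE n W μ).res P h)

theorem ell_t (n : ℕ) (W : U.Opens) (μ : Γ(Ed E, W)) :
    C.tB n W (P.ell hE (n + 1) W μ) = P.ell hE n W μ :=
  P.isEll_unique hE n W μ (fun W' h x => by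
    rw [← C.tB_rf n h, ← P.vS_t, ← map_mul, ← P.tA_trB hE, P.isEll_ell hE (n + 1) W μ W' h x, C.tA_qA])
    (P.isEll_ell hE n W μ)

/-- The formal inverse pairing. -/
def ellPair (n : ℕ) (W : U.Opens) (μ ν : Γ(Ed E, W)) : C.A n W :=
  C.trB n W (P.ell hE n W μ * P.ell hE n W ν)

include hD in
theorem exists_delta : ∃ φ : ∀ W : U.Opens, Γ(Ed E, W) → Γ(Ed E, W) → Γ(U, W),
    IsBil (P := Coh.structureModule U) φ ∧ ∀ n W a b, C.qA n W (φ W a b) = P.ellPair hE n W a b := by
  refine lift_bil hD (Groth.L29.DC.isFinLocFree_tensor (isFinLocFree_Ed hE) (isFinLocFree_Ed hE)) _ (fun n => ?_)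
    fun n W a b => ?_
  · refine ⟨fun W a a' b => ?_, fun W a b b' => ?_, fun W r a b => ?_, fun W r a b => ?_, fun W V h a b => ?_⟩
    · show C.trB n W (P.ell hE n W (a + a') * _) = _
      rw [ell_add, add_mul]
      exact C.trB_add n W _ _
    · show C.trB n W (_ * P.ell hE n W (b + b')) = _
      rw [ell_add, mul_add]
      exact C.trB_add n W _ _
    · show C.trB n W (P.ell hE n W (r • a) * _) = _
      rw [ell_smul, mul_assoc]
      exact C.trB_qB n W r _
    · show C.trB n W (_ * P.ell hE n W (r • b)) = _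
      rw [ell_smul, mul_left_comm]
      exact C.trB_qB n W r _
    · show C.trB n V (P.ell hE n V (rs _ h a) * P.ell hE n V (rs _ h b)) = rf _ _ (C.trB n W (_ * _))
      rw [ell_rs, ell_rs, ← map_mul]
      exact C.trB_rf n h _
  · rw [ellPair, P.tA_trB hE, map_mul, ell_t, ell_t]
    rfl

/-- The lifted inverse pairing. -/
def delta (W : U.Opens) (μ ν : Γ(Ed E, W)) : Γ(U, W) := (P.exists_delta hE hD).choose W μ ν

theorem isBil_delta : IsBil (P := Coh.structureModule U) (P.delta hE hD) := (P.exists_delta hE hD).choose_spec.1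

theorem qA_delta (n : ℕ) (W : U.Opens) (μ ν : Γ(Ed E, W)) :
    C.qA n W (P.delta hE hD W μ ν) = C.trB n W (P.ell hE n W μ * P.ell hE n W ν) :=
  (P.exists_delta hE hD).choose_spec.2 n W μ ν

end Ell

section Perfect

/-- The pairing as a map to the dual. -/
def betaHom : E ⟶ Ed E := (exists_curry (P.isBil_beta hE hD)).choose

theorem ev_betaHom (W : U.Opens) (a : Γ(E, W)) (W' : U.Opens) (h : W' ≤ W) (b : Γ(E, W')) :
    ev (secEquiv W ((P.betaHom hE hD).app W a)) h b = P.beta hE hD W' (rs E h a) b :=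
  (exists_curry (P.isBil_beta hE hD)).choose_spec W a W' h b

theorem ell_betaHom (n : ℕ) (W : U.Opens) (a : Γ(E, W)) :
    P.ell hE n W ((P.betaHom hE hD).app W a) = P.vS n W a :=
  P.isEll_unique hE n W _ (P.isEll_ell hE n W _) fun W' h x => by
    rw [ev_betaHom, qA_beta, vS_rs]

/-- `x` corresponds to the functional `λ` under the inverse pairing. -/
def IsInv (W : U.Opens) (μ : Γ(Ed E, W)) (x : Γ(E, W)) : Prop :=
  ∀ (W' : U.Opens) (h : W' ≤ W) (ν : Γ(Ed E, W')),
    evd W' ν (rs E h x) = P.delta hE hD W' (rs (Ed E) h μ) ν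

theorem IsInv.res {W W' : U.Opens} (h : W' ≤ W) {μ : Γ(Ed E, W)} {x : Γ(E, W)}
    (hx : P.IsInv hE hD W μ x) : P.IsInv hE hD W' (rs (Ed E) h μ) (rs E h x) := by
  intro W'' h' ν
  rw [rs_rs, rs_rs]
  exact hx W'' (h'.trans h) ν

/-- The dual basis. -/
def dualB {m : ℕ} {V : U.Opens} {e : Fin m → Γ(E, V)} (he : IsBasisOn E V e) (j : Fin m) : Γ(Ed E, V) :=
  (secEquiv V).symm (unitFam he j (show Γ(Coh.structureModule U, V) from (1 : Γ(U, V))))

theorem ev_dualB {m : ℕ} {V : U.Opens} {e : Fin m → Γ(E, V)} (he : IsBasisOn E V e) (j : Fin m)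
    {W : U.Opens} (h : W ≤ V) (x : Γ(E, W)) :
    evd W (rs (Ed E) h (dualB he j)) x = coord he h x j := by
  rw [evd_rs, dualB, LinearEquiv.apply_symm_apply]
  show coord he h x j * (show Γ(U, W) from ro h (1 : Γ(U, V))) = _
  rw [show ro h (1 : Γ(U, V)) = 1 from map_one _, mul_one]

theorem eq_sum_dualB {m : ℕ} {V : U.Opens} {e : Fin m → Γ(E, V)} (he : IsBasisOn E V e)
    {W : U.Opens} (h : W ≤ V) (ν : Γ(Ed E, W)) :
    ν = ∑ j, evd W ν (rs E h (e j)) • rs (Ed E) h (dualB he j) := by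
  refine (secEquiv W).injective (sec_ext_basis he h fun k => ?_)
  rw [map_sum]
  show evd W ν (rs E h (e k)) = _
  have : ∀ (f : Fin m → Sec E (Coh.structureModule U) W) (y : Γ(E, W)),
      ev (∑ j, f j) le_rfl y = ∑ j, ev (f j) le_rfl y := fun f y => by
    exact map_sum (AddMonoidHom.mk' (fun φ : Sec E (Coh.structureModule U) W => ev φ le_rfl y) fun _ _ => rfl) _ _
  rw [this, Finset.sum_eq_single k]
  · rw [map_smul, Groth.L16.HomSh.ev_smulSec, ro_self]
    show _ = (show Γ(U, W) from evd W ν (rs E h (e k))) * evd W (rs (Ed E) h (dualB he k)) (rs E h (e k))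
    rw [ev_dualB, Groth.L16.HomSh.coord_basis, Pi.single_eq_same, mul_one]
  · intro j _ hj
    rw [map_smul, Groth.L16.HomSh.ev_smulSec]
    show (show Γ(U, W) from ro _ (evd W ν (rs E h (e j)))) * evd W (rs (Ed E) h (dualB he j)) (rs E h (e k)) = 0
    rw [ev_dualB, Groth.L16.HomSh.coord_basis, Pi.single_eq_of_ne hj, mul_zero]
  · exact fun hk => (hk (Finset.mem_univ k)).elim

theorem isInv_unique (W : U.Opens) (μ : Γ(Ed E, W)) {x x' : Γ(E, W)} (hx : P.IsInv hE hD W μ x)
    (hx' : P.IsInv hE hD W μ x') : x = x' := by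
  refine local_ext E fun z hz => ?_
  obtain ⟨V, m, e, -, hzV, hVW, he⟩ := exists_basisOn hE z W hz
  refine ⟨V, hVW, hzV, ?_⟩
  rw [← lc_coord he le_rfl (rs E hVW x), ← lc_coord he le_rfl (rs E hVW x')]
  refine congrArg _ (funext fun j => ?_)
  rw [← ev_dualB he j le_rfl, ← ev_dualB he j le_rfl]
  exact (hx V hVW _).trans (hx' V hVW _).symm

include hE hD in
theorem exists_isInv (W : U.Opens) (μ : Γ(Ed E, W)) : ∃ x : Γ(E, W), P.IsInv hE hD W μ x := by
  classical
  have loc : ∀ z : W, ∃ (V : U.Opens) (h : V ≤ W), z.1 ∈ V ∧ ∃ x : Γ(E, V), P.IsInv hE hD V (rs (Ed E) h μ) x := by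
    intro z
    obtain ⟨V, m, e, -, hzV, hVW, he⟩ := exists_basisOn hE z.1 W z.2
    refine ⟨V, hVW, hzV, ∑ j, P.delta hE hD V (rs (Ed E) hVW μ) (dualB he j) • e j, fun W' h ν => ?_⟩
    have hδ := P.isBil_delta hE hD
    let F : Γ(Ed E, W') →+ Γ(U, W') :=
      AddMonoidHom.mk' (P.delta hE hD W' (rs (Ed E) h (rs (Ed E) hVW μ))) (hδ.add_right W' _)
    let G : Γ(E, W') →+ Γ(U, W') := AddMonoidHom.mk' (evd W' ν) (isBil_evd.add_right W' ν)
    show G (rs E h (∑ j, _)) = F ν
    rw [Groth.L19.ProjBdl.rs_sum, map_sum, eq_sum_dualB he h ν, map_sum]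
    refine Finset.sum_congr rfl fun j _ => ?_
    rw [rs_smul]
    show evd W' ν (ro h (P.delta hE hD V (rs (Ed E) hVW μ) (dualB he j)) • rs E h (e j)) =
      P.delta hE hD W' (rs (Ed E) h (rs (Ed E) hVW μ)) (evd W' ν (rs E h (e j)) • rs (Ed E) h (dualB he j))
    rw [hδ.smul_right, isBil_evd.smul_right, hδ.res V W' h]
    show (show Γ(U, W') from ro h _) * _ = _ * (show Γ(U, W') from ro h _)
    rw [mul_comm]
  choose V hVW hzV x hx using loc
  obtain ⟨y, hy⟩ := exists_glue E V hVW (fun z hz => Opens.mem_iSup.2 ⟨⟨z, hz⟩, hzV ⟨z, hz⟩⟩) x fun z z' => by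
    refine P.isInv_unique hE hD _ (rs (Ed E) (inf_le_left.trans (hVW z)) μ) ?_ ?_
    · have := (hx z).res P hE hD (inf_le_left : V z ⊓ V z' ≤ V z)
      rwa [rs_rs] at this
    · have := (hx z').res P hE hD (inf_le_right : V z ⊓ V z' ≤ V z')
      rwa [rs_rs] at this
  refine ⟨y, fun W' h ν => local_ext (Coh.structureModule U) fun z hz => ?_⟩
  refine ⟨W' ⊓ V ⟨z, h hz⟩, inf_le_left, ⟨hz, hzV ⟨z, h hz⟩⟩, ?_⟩
  refine ((isBil_evd (E := E)).res W' _ inf_le_left ν (rs E h y)).symm.trans (Eq.trans ?_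
    ((P.isBil_delta hE hD).res W' _ inf_le_left (rs (Ed E) h μ) ν))
  rw [rs_rs, rs_rs]
  refine Eq.trans ?_ ((hx ⟨z, h hz⟩ _ inf_le_right (rs (Ed E) inf_le_left ν)).trans (by rw [rs_rs]))
  rw [← hy ⟨z, h hz⟩, rs_rs]

/-- The inverse of the pairing. -/
def gInv (W : U.Opens) (μ : Γ(Ed E, W)) : Γ(E, W) := (P.exists_isInv hE hD W μ).choose

theorem isInv_gInv (W : U.Opens) (μ : Γ(Ed E, W)) : P.IsInv hE hD W μ (P.gInv hE hD W μ) :=
  (P.exists_isInv hE hD W μ).choose_spec

theorem gInv_add (W : U.Opens) (μ ν : Γ(Ed E, W)) :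
    P.gInv hE hD W (μ + ν) = P.gInv hE hD W μ + P.gInv hE hD W ν :=
  P.isInv_unique hE hD W _ (P.isInv_gInv hE hD W _) fun W' h κ => by
    rw [show rs E h (P.gInv hE hD W μ + P.gInv hE hD W ν) = rs E h _ + rs E h _ from map_add _ _ _,
      show rs (Ed E) h (μ + ν) = rs (Ed E) h μ + rs (Ed E) h ν from map_add _ _ _]
    refine (isBil_evd.add_right W' κ _ _).trans ?_
    rw [P.isInv_gInv hE hD W μ W' h κ, P.isInv_gInv hE hD W ν W' h κ]
    exact ((P.isBil_delta hE hD).add_left W' _ _ κ).symm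

theorem gInv_smul (W : U.Opens) (r : Γ(U, W)) (μ : Γ(Ed E, W)) :
    P.gInv hE hD W (r • μ) = r • P.gInv hE hD W μ :=
  P.isInv_unique hE hD W _ (P.isInv_gInv hE hD W _) fun W' h κ => by
    rw [rs_smul, rs_smul]
    refine (isBil_evd.smul_right W' _ κ _).trans ?_
    rw [P.isInv_gInv hE hD W μ W' h κ]
    exact ((P.isBil_delta hE hD).smul_left W' _ _ κ).symm

theorem gInv_rs {W W' : U.Opens} (h : W' ≤ W) (μ : Γ(Ed E, W)) :
    P.gInv hE hD W' (rs (Ed E) h μ) = rs E h (P.gInv hE hD W μ) :=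
  P.isInv_unique hE hD W' _ (P.isInv_gInv hE hD W' _) ((P.isInv_gInv hE hD W μ).res P hE hD h)

/-- The inverse of the pairing as a morphism. -/
def gHom : Ed E ⟶ E :=
  Groth.L12.FinCov.mkHom (M := Ed E) (N := E) (P.gInv hE hD) (P.gInv_add hE hD) (P.gInv_smul hE hD)
    (fun _ _ h μ => P.gInv_rs hE hD h μ)

theorem beta_gInv (W : U.Opens) (μ : Γ(Ed E, W)) (x : Γ(E, W)) :
    P.beta hE hD W (P.gInv hE hD W μ) x = evd W μ x := by
  have h1 : IsBil (P := Coh.structureModule U) fun W (μ : Γ(Ed E, W)) (x : Γ(E, W)) =>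
      P.beta hE hD W (P.gInv hE hD W μ) x := by
    have hb := P.isBil_beta hE hD
    refine ⟨fun W a a' b => ?_, fun W a b b' => hb.add_right W _ b b', fun W r a b => ?_,
      fun W r a b => hb.smul_right W r _ b, fun W V h a b => ?_⟩
    · show P.beta hE hD W (P.gInv hE hD W (a + a')) b = _
      rw [gInv_add]
      exact hb.add_left W _ _ b
    · show P.beta hE hD W (P.gInv hE hD W (r • a)) b = _
      rw [gInv_smul]
      exact hb.smul_left W r _ b
    · show P.beta hE hD V (P.gInv hE hD V (rs _ h a)) _ = _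
      rw [gInv_rs]
      exact hb.res W V h _ b
  refine eq_of_formal (C := C) hD (Groth.L29.DC.isFinLocFree_tensor (isFinLocFree_Ed hE) hE) h1 isBil_evd
    (fun n W μ x => ?_) W μ x
  have e1 : P.beta hE hD W (P.gInv hE hD W μ) x = P.delta hE hD W μ ((P.betaHom hE hD).app W x) := by
    rw [beta_comm]
    refine Eq.trans ?_ (((P.isInv_gInv hE hD W μ) W le_rfl _).trans (by rw [rs_self]))
    show _ = ev (secEquiv W ((P.betaHom hE hD).app W x)) le_rfl _
    rw [ev_betaHom, rs_self, rs_self]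
  rw [e1, qA_delta, ell_betaHom]
  refine (congrArg (fun c => C.trB n W (c * _)) ?_).trans (P.isEll_ell hE n W μ W le_rfl x)
  exact (congr($((C.R n).presheaf.map_id _) _)).symm

theorem gHom_betaHom : P.gHom hE hD ≫ P.betaHom hE hD = 𝟙 (Ed E) := by
  refine Groth.L16.HomSh.hom_ext_ev fun W μ W' h x => ?_
  show ev (secEquiv W ((P.betaHom hE hD).app W (P.gInv hE hD W μ))) h x = ev (secEquiv W μ) h x
  rw [ev_betaHom, ← gInv_rs, beta_gInv]
  rfl

/-- The pairing is perfect. -/
theorem betaHom_injective (W : U.Opens) : Function.Injective ((P.betaHom hE hD).app W) := by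
  intro x x' hxx
  refine local_ext E fun z hz => ?_
  obtain ⟨V, m, e, -, hzV, hVW, he⟩ := exists_basisOn hE z W hz
  refine ⟨V, hVW, hzV, ?_⟩
  have hx : (P.betaHom hE hD).app V (rs E hVW x) = (P.betaHom hE hD).app V (rs E hVW x') := by
    rw [app_rs, app_rs, hxx]
  let L : (Fin m → Γ(U, V)) →ₗ[Γ(U, V)] (Fin m → Γ(U, V)) :=
    { toFun := fun c j => evd V ((P.betaHom hE hD).app V (lc E e le_rfl c)) (e j)
      map_add' := fun c c' => funext fun j => by
        show evd V _ (e j) = evd V _ (e j) + evd V _ (e j)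
        rw [show lc E e le_rfl (c + c') = lc E e le_rfl c + lc E e le_rfl c' by
          simp only [lc, Pi.add_apply, add_smul, Finset.sum_add_distrib], map_add]
        exact isBil_evd.add_left V _ _ _
      map_smul' := fun r c => funext fun j => by
        show evd V _ (e j) = r * evd V _ (e j)
        rw [show lc E e le_rfl (r • c) = r • lc E e le_rfl c by
          simp only [lc, Pi.smul_apply, smul_eq_mul, mul_smul, Finset.smul_sum], Scheme.Modules.Hom.app_smul]
        exact isBil_evd.smul_left V r _ _ }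
  have hsurj : Function.Surjective L := fun c => by
    let μ : Γ(Ed E, V) := ∑ j, c j • dualB he j
    refine ⟨coord he le_rfl (P.gInv hE hD V μ), funext fun k => ?_⟩
    show evd V ((P.betaHom hE hD).app V (lc E e le_rfl _)) (e k) = c k
    rw [lc_coord]
    show evd V ((P.gHom hE hD ≫ P.betaHom hE hD).app V μ) (e k) = c k
    rw [gHom_betaHom]
    show evd V (∑ j, c j • dualB he j) (e k) = c k
    refine (map_sum (AddMonoidHom.mk' (fun ν => evd V ν (e k)) fun a b => isBil_evd.add_left V a b _) _ _).trans ?_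
    have hd : ∀ j, evd V (dualB he j) (e k) = (Pi.single k 1 : Fin m → Γ(U, V)) j := fun j => by
      have := ev_dualB he j le_rfl (rs E le_rfl (e k))
      rw [Groth.L16.HomSh.coord_basis, rs_self, rs_self] at this
      exact this
    rw [Finset.sum_eq_single k]
    · show evd V (c k • dualB he k) (e k) = c k
      rw [isBil_evd.smul_left, hd, Pi.single_eq_same]
      exact mul_one _
    · intro j _ hj
      show evd V (c j • dualB he j) (e k) = 0
      rw [isBil_evd.smul_left, hd, Pi.single_eq_of_ne hj]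
      exact mul_zero _
    · exact fun hk => (hk (Finset.mem_univ k)).elim
  have hinj := OrzechProperty.injective_of_surjective_endomorphism L hsurj
  rw [← lc_coord he le_rfl (rs E hVW x), ← lc_coord he le_rfl (rs E hVW x')]
  refine congrArg _ (hinj (funext fun j => ?_))
  show evd V _ (e j) = evd V _ (e j)
  rw [lc_coord, lc_coord, hx]

theorem betaHom_gHom : P.betaHom hE hD ≫ P.gHom hE hD = 𝟙 E :=
  Groth.L12.FinCov.hom_ext fun W x => P.betaHom_injective hE hD W
    (congr($(congrArg (fun k => Scheme.Modules.Hom.app k W) (P.gHom_betaHom hE hD)) _))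

end Perfect

section Lift

variable {D : U.Modules}

include hE hD in
/-- Morphisms into `E` agreeing on all levels agree. -/
theorem hom_ext_formal (hDf : FlatMod.IsFinLocFree D) {φ ψ : D ⟶ E}
    (h : ∀ n, φ ≫ P.v n = ψ ≫ P.v n) : φ = ψ := by
  refine Groth.L12.FinCov.hom_ext fun W d => P.betaHom_injective hE hD W ?_
  refine (secEquiv W).injective (sec_ext fun W' hW' x => ?_)
  rw [ev_betaHom, ev_betaHom, ← app_rs, ← app_rs]
  have hb := P.isBil_beta hE hD
  have hbil : ∀ χ : D ⟶ E, IsBil (P := Coh.structureModule U) fun W (d : Γ(D, W)) (x : Γ(E, W)) =>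
      P.beta hE hD W (χ.app W d) x := fun χ =>
    ⟨fun W a a' b => (congrArg (fun z => P.beta hE hD W z b) (map_add (χ.app W).hom a a')).trans (hb.add_left W _ _ b),
      fun W a b b' => hb.add_right W _ b b',
      fun W r a b => (congrArg (fun z => P.beta hE hD W z b) (χ.app_smul r a)).trans (hb.smul_left W r _ b),
      fun W r a b => hb.smul_right W r _ b,
      fun W V h a b => (congrArg (fun z => P.beta hE hD V z (rs E h b)) (app_rs χ h a)).trans (hb.res W V h _ b)⟩
  refine eq_of_formal (C := C) hD (Groth.L29.DC.isFinLocFree_tensor hDf hE) (hbil φ) (hbil ψ)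
    (fun n W d x => ?_) W' _ x
  rw [qA_beta, qA_beta]
  exact congrArg (fun c => C.trB n W (c * _)) (congr($(congrArg (fun k => Scheme.Modules.Hom.app k W) (h n)) d))

include hE hD in
/-- Formal morphisms into `E` come from morphisms. -/
theorem exists_lift (hDf : FlatMod.IsFinLocFree D) (y : ∀ n, D ⟶ C.Bmod n)
    (hy : ∀ n, y (n + 1) ≫ C.tHom n = y n) : ∃ φ : D ⟶ E, ∀ n, φ ≫ P.v n = y n := by
  let yS : ∀ n (W : U.Opens), Γ(D, W) → C.B n W := fun n W d => (y n).app W d
  obtain ⟨φ₀, hφ₀, hq⟩ := lift_bil (C := C) hD (Groth.L29.DC.isFinLocFree_tensor hDf hE)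
    (fun n W d x => C.trB n W (yS n W d * P.vS n W x)) (fun n => by
      refine ⟨fun W a a' b => ?_, fun W a b b' => ?_, fun W r a b => ?_, fun W r a b => ?_, fun W V h a b => ?_⟩
      · show C.trB n W (yS n W (a + a') * _) = _
        rw [show yS n W (a + a') = yS n W a + yS n W a' from map_add ((y n).app W).hom a a', add_mul]
        exact C.trB_add n W _ _
      · show C.trB n W (_ * P.vS n W (b + b')) = _
        rw [vS_add, mul_add]
        exact C.trB_add n W _ _
      · show C.trB n W (yS n W (r • a) * _) = _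
        rw [show yS n W (r • a) = C.qB n W r * yS n W a from (y n).app_smul r a, mul_assoc]
        exact C.trB_qB n W r _
      · show C.trB n W (_ * P.vS n W (r • b)) = _
        rw [vS_smul, mul_left_comm]
        exact C.trB_qB n W r _
      · show C.trB n V (yS n V (rs D h a) * P.vS n V (rs E h b)) = rf _ _ (C.trB n W (_ * _))
        rw [vS_rs, show yS n V (rs D h a) = rf _ ((C.r n).preimage_mono h) (yS n W a) from app_rs (y n) h a,
          ← map_mul]
        exact C.trB_rf n h _)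
    fun n W d x => by
      rw [P.tA_trB hE, map_mul, vS_t]
      exact congrArg (fun c => C.trB n W (c * _)) (congr($(congrArg (fun k => Scheme.Modules.Hom.app k W) (hy n)) d))
  obtain ⟨χ, hχ⟩ := exists_curry hφ₀
  refine ⟨χ ≫ P.gHom hE hD, fun n => Groth.L12.FinCov.hom_ext fun W d => ?_⟩
  show P.vS n W (P.gInv hE hD W (χ.app W d)) = yS n W d
  refine P.isEll_unique hE n W (χ.app W d) ?_ fun W' h x => ?_
  · intro W' h x
    rw [← P.vS_rs n h, ← P.gInv_rs hE hD h, ← qA_beta P hE hD, beta_gInv]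
    rfl
  · rw [hχ, hq]
    exact congrArg (fun c => C.trB n W' (c * _)) (app_rs (y n) h d).symm

end Lift

end Pres

end Groth.L13.FEtLeff
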