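import Groth.Agent.L13.FEtLeff.VDimPurity

/-! Purity for rings of virtual dimension at least three. -/

set_option autoImplicit false
set_option maxSynthPendingDepth 3
set_option linter.style.haveILetI false
set_option backward.isDefEq.respectTransparency false
set_option backward.isDefEq.respectTransparency.types false

universe u

open IsLocalRing RingTheory.Sequence
open scoped Pointwise

noncomputable section

namespace Groth.L13.FEtLeff

variable {S : Type u} [CommRing S] [IsRegularLocalRing S] [IsAdicComplete (maximalIdeal S) S]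

theorem ne_top_of_mem (l : List S) (h : ∀ x ∈ l, x ∈ maximalIdeal S) : Ideal.ofList l ≠ ⊤ :=
  ne_top_of_le_ne_top (maximalIdeal.isMaximal S).ne_top (Ideal.span_le.2 h)

/-- Adding the remaining equations one at a time, in general position. -/
theorem purity_rec {d : ℕ} (hd : ringKrullDim S = d) : ∀ (rest gs : List S),
    (∀ x ∈ gs ++ rest, x ∈ maximalIdeal S) → gs.length + rest.length + 3 ≤ d →
    (∀ P : Ideal S, ∀ _ : P.IsPrime, Ideal.ofList gs ≤ P → ¬ Ideal.ofList (gs ++ rest) ≤ P →
      IsWeaklyRegular (Localization.AtPrime P) (gs.map (algebraMap S (Localization.AtPrime P)))) →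
    (∀ (B : Type u) [CommRing B] [IsLocalRing B] (π : S →+* B), Function.Surjective π →
      RingHom.ker π = Ideal.ofList gs → FEt.PurityHolds B) →
    ∀ (B : Type u) [CommRing B] [IsLocalRing B] (π : S →+* B), Function.Surjective π →
      RingHom.ker π = Ideal.ofList (gs ++ rest) → FEt.PurityHolds B
  | [], gs, _, _, _, hpure, B, _, _, π, hπ, hker => hpure B π hπ (by rwa [List.append_nil] at hker)
  | x :: rest, gs, hm, hlen, hinv, hpure, B, _, _, π, hπ, hker => by
    classical
    set I := Ideal.ofList (gs ++ x :: rest) with hI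
    let T : Set (Ideal S) := {q ∈ associatedPrimes S (S ⧸ Ideal.ofList gs) | ¬ I ≤ q}
    obtain ⟨a, ha, hav⟩ := exists_coset_avoid T ((associatedPrimes.finite S _).subset fun q hq => hq.1)
      (fun q hq => hq.1.isPrime) x (Ideal.ofList rest) (fun q hq hx hr => by
        refine hq.2 ?_
        have hgs : Ideal.ofList gs ≤ q := by
          have h := hq.1.annihilator_le
          simpa [Submodule.annihilator_top, Ideal.annihilator_quotient] using h
        rw [hI, Ideal.ofList_append, Ideal.ofList_cons]
        exact sup_le hgs (sup_le ((Ideal.span_singleton_le_iff_mem _).2 hx) hr))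
    let g := x + a
    have hspan : Ideal.ofList ((gs ++ [g]) ++ rest) = I := by
      rw [hI, Ideal.ofList_append, Ideal.ofList_append, Ideal.ofList_append, Ideal.ofList_cons,
        Ideal.ofList_cons, Ideal.ofList_nil, sup_bot_eq, sup_assoc]
      congr 1
      refine le_antisymm (sup_le ((Ideal.span_singleton_le_iff_mem _).2 ?_) le_sup_right)
        (sup_le ((Ideal.span_singleton_le_iff_mem _).2 ?_) le_sup_right)
      · exact add_mem (Submodule.mem_sup_left (Ideal.mem_span_singleton_self x)) (Submodule.mem_sup_right ha)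
      · have h1 : g ∈ Ideal.span {g} ⊔ Ideal.ofList rest := Submodule.mem_sup_left (Ideal.mem_span_singleton_self g)
        simpa [g] using sub_mem h1 (Submodule.mem_sup_right ha : a ∈ Ideal.span {g} ⊔ Ideal.ofList rest)
    have hIm : I ≤ maximalIdeal S := Ideal.span_le.2 hm
    have hgI : g ∈ I := hspan.le (Ideal.subset_span (s := {z | z ∈ (gs ++ [g]) ++ rest}) (by simp))
    have hm' : ∀ y ∈ (gs ++ [g]) ++ rest, y ∈ maximalIdeal S := fun y hy =>
      hIm (hspan.le (Ideal.subset_span (s := {z | z ∈ (gs ++ [g]) ++ rest}) hy))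
    have hinv' : ∀ P : Ideal S, ∀ _ : P.IsPrime, Ideal.ofList (gs ++ [g]) ≤ P →
        ¬ Ideal.ofList ((gs ++ [g]) ++ rest) ≤ P →
        IsWeaklyRegular (Localization.AtPrime P) ((gs ++ [g]).map (algebraMap S (Localization.AtPrime P))) := by
      intro P hP hle hnle
      rw [hspan] at hnle
      rw [Ideal.ofList_append] at hle
      rw [List.map_append, List.map_singleton, isWeaklyRegular_append_iff, isWeaklyRegular_singleton_iff]
      refine ⟨hinv P hP (le_sup_left.trans hle) hnle, fun z₁ z₂ h12 => sub_eq_zero.1 ?_⟩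
      have hz := sub_eq_zero.2 h12
      beta_reduce at hz
      rw [← smul_sub] at hz
      obtain ⟨z, hze⟩ := Submodule.Quotient.mk_surjective _ (z₁ - z₂)
      rw [← hze] at hz ⊢
      rw [← Submodule.Quotient.mk_smul, Submodule.Quotient.mk_eq_zero, smul_eq_mul, smul_eq_mul, Ideal.mul_top,
        ← Ideal.map_ofList] at hz
      rw [Submodule.Quotient.mk_eq_zero, smul_eq_mul, Ideal.mul_top, ← Ideal.map_ofList]
      exact isSMulRegular_localized (Ideal.ofList gs) P g
        (fun q hq hqP hgq => hav q ⟨hq, fun h => hnle (h.trans hqP)⟩ hgq) z hz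
    refine purity_rec hd rest (gs ++ [g]) hm' (by simp at hlen ⊢; omega) hinv' (fun C _ _ ρ hρ hkρ => ?_)
      B π hπ (hker.trans hspan.symm)
    haveI : IsLocalRing (S ⧸ Ideal.ofList gs) :=
      Groth.L01.isLocalRing_quotient (ne_top_of_mem gs fun y hy => hm y (List.mem_append_left _ hy))
    exact purity_step hd gs g (by simp at hlen; omega) (hIm hgI)
      (fun P hP hle hgP => hinv P hP hle fun h => hgP (h hgI))
      (S ⧸ Ideal.ofList gs) (Ideal.Quotient.mk _) Ideal.Quotient.mk_surjective Ideal.mk_ker
      (hpure _ _ Ideal.Quotient.mk_surjective Ideal.mk_ker) C ρ hρ hkρ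

/-- Purity for a quotient of a complete regular local ring of dimension `d` by at most `d - 3` elements. -/
theorem purityHolds_quot_of_vdim {d : ℕ} (hd : ringKrullDim S = d) (s : Finset S) (hs : s.card + 3 ≤ d)
    (B : Type u) [CommRing B] [IsLocalRing B] (π : S →+* B) (hπ : Function.Surjective π)
    (hker : RingHom.ker π = Ideal.span (s : Set S)) : FEt.PurityHolds B := by
  have hl : Ideal.ofList s.toList = Ideal.span (s : Set S) := congrArg Ideal.span (by ext; simp)
  have hm : ∀ x ∈ s.toList, x ∈ maximalIdeal S := fun x hx =>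
    IsLocalRing.le_maximalIdeal (RingHom.ker_ne_top π)
      (hker.ge (Ideal.subset_span (Finset.mem_toList.1 hx)))
  refine purity_rec hd s.toList [] (by simpa using hm) (by simpa using hs)
    (fun P _ _ _ => IsWeaklyRegular.nil _ _) (fun C _ _ ρ hρ hkρ => ?_) B π hπ (by simpa [hl] using hker)
  rw [Ideal.ofList_nil] at hkρ
  let e := RingEquiv.ofBijective ρ ⟨(RingHom.injective_iff_ker_eq_bot ρ).2 hkρ, hρ⟩
  exact purityHolds_of_ringEquiv e (Groth.Agent.S0247.result S (by rw [hd]; exact_mod_cast (by omega : 2 ≤ d)))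

/-- Purity for a Noetherian local ring of virtual dimension at least three. -/
theorem purityHolds_of_vdim (A : Type u) [CommRing A] [IsNoetherianRing A] [IsLocalRing A]
    {d : ℕ} (hd : ringKrullDim S = d) (s : Finset S) (hs : s.card + 3 ≤ d)
    (e : AdicCompletion (maximalIdeal A) A ≃+* S ⧸ Ideal.span (s : Set S)) : FEt.PurityHolds A := by
  refine purityHolds_of_completion (purityHolds_quot_of_vdim hd s hs _
    (e.symm.toRingHom.comp (Ideal.Quotient.mk _)) (e.symm.surjective.comp Ideal.Quotient.mk_surjective) ?_)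
  rw [← RingHom.comap_ker, (RingHom.injective_iff_ker_eq_bot e.symm.toRingHom).1 e.symm.injective,
    ← RingHom.ker_eq_comap_bot, Ideal.mk_ker]

end Groth.L13.FEtLeff
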