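import Groth.Agent.L13.FEtLeff.VDimFF
import Groth.Agent.L13.FEtLeff.VDimPurityMain
import Groth.Agent.L16.PureQuot.Main
import Groth.Agent.L07.RegularQuotient
import Groth.Agent.L04.Canon.Transfer
import Groth.Prelude.Def_CInt

/-! Pure local rings: complete intersections in low codimension. -/

set_option autoImplicit false
set_option maxSynthPendingDepth 3
set_option linter.style.haveILetI false
set_option backward.isDefEq.respectTransparency false
set_option backward.isDefEq.respectTransparency.types false

universe u

open IsLocalRing RingTheory.Sequence CategoryTheory AlgebraicGeometry Groth.L10.FormCat Groth.L04.Canon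
open Groth.L18.LocPic (dim_depth)

noncomputable section

namespace Groth.L13.FEtLeff

/-- A local ring of virtual dimension at least three is pure, and so is its completion. -/
theorem isPurePair_of_presentation {R B : Type u} [CommRing R] [IsRegularLocalRing R] [CommRing B] [IsLocalRing B]
    [IsNoetherianRing B] (π : R →+* B) (hπ : Function.Surjective π) (t : Finset R)
    (hker : RingHom.ker π = Ideal.span (t : Set R)) {d : ℕ} (hd : ringKrullDim R = d) (ht : t.card + 3 ≤ d) :
    SGA2.IsPurePair (Spec (CommRingCat.of B)) (FEt.puncturedSpec B) ∧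
      SGA2.IsPurePair (Spec (CommRingCat.of (AdicCompletion (maximalIdeal B) B)))
        (FEt.puncturedSpec (AdicCompletion (maximalIdeal B) B)) := by
  classical
  let Rh := AdicCompletion (maximalIdeal R) R
  haveI := Groth.L01.AnalUnram.isNoetherianRing_completion R
  haveI := Groth.L01.AnalUnram.isNoetherianRing_completion B
  haveI : IsRegularLocalRing Rh := (Groth.L01.CompletionReg.isRegularLocalRing_iff_completion R).1 inferInstance
  have hdh : ringKrullDim Rh = d := (Groth.L01.CompletionReg.ringKrullDim_completion R).trans hd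
  obtain ⟨E⟩ := Groth.L07.RegQuot.exists_completionQuotEquiv π hπ
  let t' : Finset Rh := t.image (algebraMap R Rh)
  have hspan : (RingHom.ker π).map (algebraMap R Rh) = Ideal.span (t' : Set Rh) := by
    rw [hker, Ideal.map_span, Finset.coe_image]
  have hcard : t'.card + 3 ≤ d := (Nat.add_le_add_right Finset.card_image_le _).trans ht
  let e : AdicCompletion (maximalIdeal B) B ≃+* Rh ⧸ Ideal.span (t' : Set Rh) :=
    E.symm.trans (Ideal.quotEquivOfEq hspan)
  let Bh := AdicCompletion (maximalIdeal B) B
  let e' : AdicCompletion (maximalIdeal Bh) Bh ≃+* Rh ⧸ Ideal.span (t' : Set Rh) :=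
    (AdicCompletion.ofAlgEquiv (maximalIdeal Bh)).toRingEquiv.symm.trans e
  constructor
  · obtain ⟨⟨h1, h2⟩, -⟩ := fullyFaithful_of_vdim B Rh hdh t' (by omega) e
    exact Groth.L16.PureQuot.isPurePair_punctured
      { faithful := h2, full := h1, essSurj := purityHolds_of_vdim B hdh t' hcard e }
  · obtain ⟨⟨h1, h2⟩, -⟩ := fullyFaithful_of_vdim Bh Rh hdh t' (by omega) e'
    exact Groth.L16.PureQuot.isPurePair_punctured
      { faithful := h2, full := h1, essSurj := purityHolds_of_vdim Bh hdh t' hcard e' }

/-- Localizations at primes of height at least three of a ring which is a complete intersection in low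
codimension have virtual dimension at least three. -/
theorem exists_presentation_at {R : Type u} [CommRing R] [IsRegularLocalRing R] (s : Finset R)
    [IsLocalRing (R ⧸ Ideal.span (s : Set R))] (c : ℕ)
    (hc : ringKrullDim R = ringKrullDim (R ⧸ Ideal.span (↑s : Set R)) + (c : WithBot ℕ∞))
    (hci : ∀ (Q : Ideal (R ⧸ Ideal.span (↑s : Set R))) [Q.IsPrime], Q.height + (c : ℕ∞) ≤ ((2 + s.card : ℕ) : ℕ∞) →
      CInt.IsRegularIdeal ((Ideal.span (↑s : Set R)).map (algebraMap R
        (Localization.AtPrime (Q.comap (Ideal.Quotient.mk (Ideal.span (↑s : Set R))))))))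
    (Q : Ideal (R ⧸ Ideal.span (↑s : Set R))) [Q.IsPrime] (hQ : (3 : ℕ∞) ≤ Q.height) :
    ∃ (R' : Type u) (_ : CommRing R') (_ : IsRegularLocalRing R') (π : R' →+* Localization.AtPrime Q)
      (t : Finset R') (d : ℕ), Function.Surjective π ∧ RingHom.ker π = Ideal.span (t : Set R') ∧
      ringKrullDim R' = d ∧ t.card + 3 ≤ d := by
  classical
  let A := R ⧸ Ideal.span (↑s : Set R)
  let mk : R →+* A := Ideal.Quotient.mk _
  let P := Q.comap mk
  haveI : IsRegularLocalRing (Localization.AtPrime P) := Groth.Agent.S0564.result R P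
  let g : Localization.AtPrime P →+* Localization.AtPrime Q := Localization.localRingHom P Q mk rfl
  have hg : Function.Surjective g := RingHom.surjective_localRingHom_of_surjective mk Ideal.Quotient.mk_surjective Q
  have hgker : RingHom.ker g = (Ideal.span (↑s : Set R)).map (algebraMap R (Localization.AtPrime P)) := by
    refine (IsLocalization.ker_map (S := Localization.AtPrime P) (Localization.AtPrime Q) mk
      (M := P.primeCompl) (T := Q.primeCompl)
      (by exact Submonoid.map_comap_eq_of_surjective Ideal.Quotient.mk_surjective Q.primeCompl)).trans ?_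
    rw [Ideal.mk_ker]
  -- the numbers
  obtain ⟨n, hn⟩ := Groth.L04.Canon.exists_quotDim_eq (R := R) (K := Ideal.span (↑s : Set R))
    (fun h => (not_subsingleton A) (Ideal.Quotient.subsingleton_iff.2 h))
  obtain ⟨hQ', q, hQ'h, -, hle⟩ := exists_le_height_add_qd_le (A := A) ⟨Q, inferInstance⟩
  have hqn : qd q ≤ n := qd_le hn q
  have e : (R ⧸ P) ≃+* A ⧸ Q := RingEquiv.ofBijective (Ideal.quotientMap Q mk le_rfl)
    ⟨Ideal.quotientMap_injective, Ideal.quotientMap_surjective Ideal.Quotient.mk_surjective⟩
  have hcat := Groth.L04.height_add_ringKrullDim_quotient (R := R) P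
  rw [ringKrullDim_eq_of_ringEquiv e, dim_quot (⟨Q, inferInstance⟩ : PrimeSpectrum A), hc, hn] at hcat
  obtain ⟨d, hd, hdle⟩ : ∃ d : ℕ, P.height = d ∧ qd (⟨Q, inferInstance⟩ : PrimeSpectrum A) + d = n + c := by
    revert hcat
    generalize P.height = a
    intro h
    cases a with
    | top =>
      exfalso
      have h0 : ((qd (⟨Q, inferInstance⟩ : PrimeSpectrum A) : ℕ∞) + ⊤ : ℕ∞) = ((n + c : ℕ) : ℕ∞) := by exact_mod_cast h
      rw [add_top] at h0
      exact ENat.natCast_ne_top _ h0.symm
    | coe a => exact ⟨a, rfl, by exact_mod_cast h⟩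
  have hd3 : hQ' + c ≤ d := by omega
  have hQ3 : 3 ≤ hQ' := by
    rw [show Q.height = (hQ' : ℕ∞) from hQ'h] at hQ
    exact_mod_cast hQ
  have hdim : ringKrullDim (Localization.AtPrime P) = d := by
    rw [IsLocalization.AtPrime.ringKrullDim_eq_height P (Localization.AtPrime P), hd]; rfl
  by_cases hsmall : hQ' + c ≤ 2 + s.card
  · obtain ⟨rs, hrs, hrsI⟩ := hci Q (by rw [show Q.height = (hQ' : ℕ∞) from hQ'h]; exact_mod_cast hsmall)
    rw [← hgker] at hrsI
    have hm : ∀ x ∈ rs, x ∈ maximalIdeal (Localization.AtPrime P) := fun x hx =>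
      IsLocalRing.le_maximalIdeal (RingHom.ker_ne_top g) (hrsI.le (Ideal.subset_span hx))
    obtain ⟨h1, -⟩ := dim_depth rs.length rs rfl hm hrs.toIsWeaklyRegular g hg hrsI.symm
    rw [IsLocalization.AtPrime.ringKrullDim_eq_height Q (Localization.AtPrime Q), hdim,
      show Q.height = (hQ' : ℕ∞) from hQ'h] at h1
    have h1' : hQ' + rs.length = d := by exact_mod_cast h1
    refine ⟨_, inferInstance, inferInstance, g, rs.toFinset, d, hg, ?_, hdim, ?_⟩
    · rw [← hrsI]
      exact congrArg Ideal.span (List.coe_toFinset rs).symm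
    · have := rs.toFinset_card_le
      omega
  · refine ⟨_, inferInstance, inferInstance, g, s.image (algebraMap R (Localization.AtPrime P)), d, hg, ?_, hdim, ?_⟩
    · rw [hgker, Ideal.map_span, Finset.coe_image]
    · have := Finset.card_image_le (s := s) (f := algebraMap R (Localization.AtPrime P))
      omega

end Groth.L13.FEtLeff
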