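import Groth.Prelude.Def_FEt
import Groth.Agent.L16.PureQuot.Main

/-! Purity of local rings is invariant under isomorphisms. -/

set_option autoImplicit false
set_option linter.style.haveILetI false
set_option backward.isDefEq.respectTransparency.types false

universe u

open CategoryTheory CategoryTheory.Limits AlgebraicGeometry TopologicalSpace

namespace Groth.L13.FEtLeff

open Groth.L16.PureQuot (restrictCompIso' isEquivalence_of_isIso)

theorem purityHolds_of_ringEquiv {A B : Type u} [CommRing A] [CommRing B] [IsLocalRing A] [IsLocalRing B]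
    (e : A ≃+* B) (h : FEt.PurityHolds A) : FEt.PurityHolds B := by
  haveI : (FEt.restrict (FEt.puncturedSpec A).ι).EssSurj := h
  let σ : Spec (CommRingCat.of B) ⟶ Spec (CommRingCat.of A) := Spec.map e.toCommRingCatIso.hom
  haveI : IsIso σ := inferInstanceAs (IsIso (Spec.map e.toCommRingCatIso.hom))
  haveI : IsLocalHom e.toRingHom := ⟨fun a ha => by
    simpa using ha.map e.symm.toRingHom⟩
  have hc : σ (IsLocalRing.closedPoint B) = IsLocalRing.closedPoint A :=
    IsLocalRing.comap_closedPoint e.toRingHom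
  let UA := FEt.puncturedSpec A
  let UB := FEt.puncturedSpec B
  have hpre : σ ⁻¹ᵁ UA = UB := by
    ext z
    show σ z ≠ IsLocalRing.closedPoint A ↔ z ≠ IsLocalRing.closedPoint B
    exact not_congr ⟨fun h => σ.homeomorph.injective (h.trans hc.symm), fun h => h ▸ hc⟩
  let θ : UB.toScheme ⟶ UA.toScheme := IsOpenImmersion.lift UA.ι (UB.ι ≫ σ) (by
    rintro _ ⟨z, rfl⟩
    rw [Scheme.Opens.range_ι]
    show z.1 ∈ σ ⁻¹ᵁ UA
    rw [hpre]
    exact z.2)
  have hθ : θ ≫ UA.ι = UB.ι ≫ σ := IsOpenImmersion.lift_fac _ _ _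
  haveI : IsIso θ := by
    haveI : IsOpenImmersion (θ ≫ UA.ι) := by rw [hθ]; infer_instance
    haveI : IsOpenImmersion θ := IsOpenImmersion.of_comp θ UA.ι
    haveI : Surjective θ := ⟨fun w => by
      obtain ⟨z, hz⟩ := σ.surjective (UA.ι w)
      have hzU : z ∈ UB := by rw [← hpre]; show σ z ∈ UA; rw [hz]; exact w.2
      exact ⟨⟨z, hzU⟩, UA.ι.isOpenEmbedding.injective (by
        rw [← Scheme.Hom.comp_apply, hθ, Scheme.Hom.comp_apply]; exact hz)⟩⟩
    exact (isIso_iff_isOpenImmersion_and_surjective θ).2 ⟨inferInstance, inferInstance⟩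
  haveI := isEquivalence_of_isIso θ
  let φ : FEt.restrict UA.ι ⋙ FEt.restrict θ ≅ FEt.restrict σ ⋙ FEt.restrict UB.ι :=
    (restrictCompIso' θ UA.ι).symm ≪≫ MorphismProperty.Over.pullbackCongr hθ ≪≫ restrictCompIso' UB.ι σ
  show (FEt.restrict UB.ι).EssSurj
  refine ⟨fun V => ?_⟩
  obtain ⟨W, ⟨f⟩⟩ := Functor.EssSurj.mem_essImage (F := FEt.restrict UA.ι ⋙ FEt.restrict θ) V
  exact ⟨(FEt.restrict σ).obj W, ⟨(φ.app W).symm ≪≫ f⟩⟩

end Groth.L13.FEtLeff
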