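import Groth.Agent.L20.Pinch.Affine
import Groth.Agent.S1186
import Groth.Agent.S0238
import Groth.Agent.L13.FEtLeff.Descend

/-! Gluing of covers of opens along a fibre product of rings. -/

set_option autoImplicit false
set_option linter.style.haveILetI false
set_option linter.unusedSectionVars false
set_option backward.isDefEq.respectTransparency.types false

universe u

open CategoryTheory CategoryTheory.Limits AlgebraicGeometry TopologicalSpace
open Groth.L09.Patch (sp sp_comp jaw awMap)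

noncomputable section

namespace Groth.L13.FEtLeff

open Groth.L20.Pinch

variable {T T1 T2 T0 : Type u} [CommRing T] [CommRing T1] [CommRing T2] [CommRing T0]
  {φ1 : T →+* T1} {φ2 : T →+* T2} {ψ1 : T1 →+* T0} {ψ2 : T2 →+* T0}

/-- The fibre product after inverting an element. -/
theorem isFib_away (h : IsFib φ1 φ2 ψ1 ψ2) (α : T) :
    ∃ (L : Type u) (_ : CommRing L) (_ : Algebra T0 L) (k1 : Localization.Away (φ1 α) →+* L)
      (k2 : Localization.Away (φ2 α) →+* L),
      k1.comp (algebraMap T1 _) = (algebraMap T0 L).comp ψ1 ∧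
      k2.comp (algebraMap T2 _) = (algebraMap T0 L).comp ψ2 ∧
      IsFib (awMap φ1 α) (awMap φ2 α) k1 k2 := by
  let L := Localization.Away (ψ1 (φ1 α))
  have ec : ψ2 (φ2 α) = ψ1 (φ1 α) := (h.comm_apply α).symm
  have hu2 : IsUnit ((algebraMap T0 L).comp ψ2 (φ2 α)) := by
    rw [RingHom.comp_apply, ec]; exact IsLocalization.Away.algebraMap_isUnit _
  have hu1 : IsUnit ((algebraMap T0 L).comp ψ1 (φ1 α)) := by
    rw [RingHom.comp_apply]; exact IsLocalization.Away.algebraMap_isUnit _
  let k1 : Localization.Away (φ1 α) →+* L := IsLocalization.Away.lift (φ1 α) hu1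
  let k2 : Localization.Away (φ2 α) →+* L := IsLocalization.Away.lift (φ2 α) hu2
  have hk1 : k1.comp (algebraMap T1 _) = (algebraMap T0 L).comp ψ1 := IsLocalization.Away.lift_comp _ _
  have hk2 : k2.comp (algebraMap T2 _) = (algebraMap T0 L).comp ψ2 := IsLocalization.Away.lift_comp _ _
  refine ⟨L, inferInstance, inferInstance, k1, k2, hk1, hk2, ⟨?_, h.isPB.toIsJoint.eq_zero_away α,
    fun x y hxy => h.isPB.glue_away α x y k1 hk1 k2 hk2 hxy, fun z => ?_⟩⟩
  · refine IsLocalization.ringHom_ext (Submonoid.powers α) (RingHom.ext fun t => ?_)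
    simp only [RingHom.comp_apply]
    rw [← RingHom.comp_apply (awMap φ1 α), Groth.L09.Patch.awMap_comp, ← RingHom.comp_apply (awMap φ2 α),
      Groth.L09.Patch.awMap_comp, RingHom.comp_apply, RingHom.comp_apply,
      ← RingHom.comp_apply k1, hk1, ← RingHom.comp_apply k2, hk2, RingHom.comp_apply, RingHom.comp_apply]
    exact congrArg (algebraMap T0 L) (h.comm_apply t)
  · obtain ⟨⟨z₀, ⟨_, n, rfl⟩⟩, hz⟩ := IsLocalization.surj (Submonoid.powers (ψ1 (φ1 α))) z
    obtain ⟨y₀, rfl⟩ := h.surj z₀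
    refine ⟨IsLocalization.mk' _ y₀ (⟨_, n, rfl⟩ : Submonoid.powers (φ2 α)), ?_⟩
    refine ((IsLocalization.map_units L (⟨_, n, rfl⟩ : Submonoid.powers (ψ1 (φ1 α)))).mul_left_inj).mp ?_
    refine Eq.trans ?_ hz.symm
    change k2 (IsLocalization.mk' _ y₀ _) * algebraMap T0 L (ψ1 (φ1 α) ^ n) = algebraMap T0 L (ψ2 y₀)
    rw [show ψ1 (φ1 α) ^ n = ψ2 (φ2 α ^ n) by rw [map_pow]; exact congrArg (· ^ n) ec.symm,
      ← RingHom.comp_apply (algebraMap T0 L) ψ2, ← hk2, RingHom.comp_apply, ← map_mul,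
      IsLocalization.mk'_spec, ← RingHom.comp_apply k2, hk2, RingHom.comp_apply]

/-- The square of the fibre product over an open of the spectrum is a pushout. -/
theorem isPushout_open (h : IsFib φ1 φ2 ψ1 ψ2) (W : (Spec (CommRingCat.of T)).Opens)
    (i : pullback W.ι (sp (ψ1.comp φ1)) ⟶ pullback W.ι (sp φ1))
    (j : pullback W.ι (sp (ψ1.comp φ1)) ⟶ pullback W.ι (sp φ2))
    (hi1 : i ≫ pullback.fst _ _ = pullback.fst _ _) (hi2 : i ≫ pullback.snd _ _ = pullback.snd _ _ ≫ sp ψ1)
    (hj1 : j ≫ pullback.fst _ _ = pullback.fst _ _) (hj2 : j ≫ pullback.snd _ _ = pullback.snd _ _ ≫ sp ψ2) :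
    IsPushout i j (pullback.fst W.ι (sp φ1)) (pullback.fst W.ι (sp φ2)) := by
  have key : ∀ {Q : Scheme.{u}} (a : pullback W.ι (sp φ1) ⟶ Q) (b : pullback W.ι (sp φ2) ⟶ Q),
      i ≫ a = j ≫ b → ∃ H : (W : Scheme.{u}) ⟶ Q, pullback.fst _ _ ≫ H = a ∧ pullback.fst _ _ ≫ H = b := by
    intro Q a b hab
    have hloc : ∀ p : W, ∃ (α : T) (l : Spec (CommRingCat.of (Localization.Away α)) ⟶ (W : Scheme.{u})),
        p ∈ Set.range l ∧ l ≫ W.ι = jaw α := by
      intro p
      obtain ⟨_, ⟨α, rfl⟩, hpα, hα⟩ :=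
        PrimeSpectrum.isTopologicalBasis_basic_opens.exists_subset_of_mem_open p.2 W.isOpen
      have hr : Set.range (jaw α) ⊆ Set.range W.ι := by
        rw [Groth.L09.Patch.range_jaw, Scheme.Opens.range_ι]; exact hα
      refine ⟨α, IsOpenImmersion.lift W.ι (jaw α) hr, ?_, IsOpenImmersion.lift_fac _ _ _⟩
      obtain ⟨z, hz⟩ : (p.1 : Spec (CommRingCat.of T)) ∈ Set.range (jaw α) := by
        rw [Groth.L09.Patch.range_jaw]; exact hpα
      exact ⟨z, W.ι.isOpenEmbedding.injective (by rw [← Scheme.Hom.comp_apply, IsOpenImmersion.lift_fac]; exact hz)⟩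
    choose α l hp hl using hloc
    have hH : ∀ p, ∃ H : Spec (CommRingCat.of (Localization.Away (α p))) ⟶ Q,
        (∀ {Z : Scheme.{u}} (v : Z ⟶ Spec (CommRingCat.of (Localization.Away (α p)))) (w : Z ⟶ pullback W.ι (sp φ1)),
          v ≫ l p = w ≫ pullback.fst _ _ → v ≫ H = w ≫ a) ∧
        (∀ {Z : Scheme.{u}} (v : Z ⟶ Spec (CommRingCat.of (Localization.Away (α p)))) (w : Z ⟶ pullback W.ι (sp φ2)),
          v ≫ l p = w ≫ pullback.fst _ _ → v ≫ H = w ≫ b) := by
      intro p
      obtain ⟨L, _, _, k1, k2, hk1, hk2, hfib⟩ := isFib_away h (α p)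
      let c1 : Spec (CommRingCat.of (Localization.Away (φ1 (α p)))) ⟶ pullback W.ι (sp φ1) :=
        pullback.lift (sp (awMap φ1 (α p)) ≫ l p) (jaw _) (by
          rw [Category.assoc, hl, Groth.L09.Patch.sp_awMap_jaw])
      let c2 : Spec (CommRingCat.of (Localization.Away (φ2 (α p)))) ⟶ pullback W.ι (sp φ2) :=
        pullback.lift (sp (awMap φ2 (α p)) ≫ l p) (jaw _) (by
          rw [Category.assoc, hl, Groth.L09.Patch.sp_awMap_jaw])
      let c0 : Spec (CommRingCat.of L) ⟶ pullback W.ι (sp (ψ1.comp φ1)) :=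
        pullback.lift (sp k1 ≫ sp (awMap φ1 (α p)) ≫ l p) (sp (algebraMap T0 L)) (by
          rw [Category.assoc, Category.assoc, hl, Groth.L09.Patch.sp_awMap_jaw, sp_comp, sp_comp, sp_comp,
            ← RingHom.comp_assoc, hk1, RingHom.comp_assoc])
      have h01 : c0 ≫ i = sp k1 ≫ c1 := by
        apply pullback.hom_ext
        · rw [Category.assoc, hi1, pullback.lift_fst, Category.assoc, pullback.lift_fst]
        · rw [Category.assoc, hi2, pullback.lift_snd_assoc, Category.assoc, pullback.lift_snd, sp_comp, sp_comp, hk1]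
      have h02 : c0 ≫ j = sp k2 ≫ c2 := by
        apply pullback.hom_ext
        · rw [Category.assoc, hj1, pullback.lift_fst, Category.assoc, pullback.lift_fst, ← Category.assoc,
            ← Category.assoc (sp k2), sp_comp, sp_comp, hfib.comm]
        · rw [Category.assoc, hj2, pullback.lift_snd_assoc, Category.assoc, pullback.lift_snd, sp_comp, sp_comp, hk2]
      obtain ⟨H, hH1, hH2⟩ := hfib.exists_desc_hom (c1 ≫ a) (c2 ≫ b) (by
        rw [← Category.assoc, ← h01, Category.assoc, hab, ← Category.assoc, h02, Category.assoc])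
      refine ⟨H, fun v w hvw => ?_, fun v w hvw => ?_⟩
      · obtain ⟨w', hw', hv⟩ := Groth.L09.Patch.exists_factor φ1 (α p) v (w ≫ pullback.snd _ _) (by
          rw [← hl, ← Category.assoc, hvw, Category.assoc, pullback.condition, Category.assoc])
        rw [← hv, Category.assoc, hH1, ← Category.assoc]
        congr 1
        apply pullback.hom_ext
        · rw [Category.assoc, pullback.lift_fst, ← Category.assoc, hv]
          exact hvw
        · rw [Category.assoc, pullback.lift_snd, hw']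
      · obtain ⟨w', hw', hv⟩ := Groth.L09.Patch.exists_factor φ2 (α p) v (w ≫ pullback.snd _ _) (by
          rw [← hl, ← Category.assoc, hvw, Category.assoc, pullback.condition, Category.assoc])
        rw [← hv, Category.assoc, hH2, ← Category.assoc]
        congr 1
        apply pullback.hom_ext
        · rw [Category.assoc, pullback.lift_fst, ← Category.assoc, hv]
          exact hvw
        · rw [Category.assoc, pullback.lift_snd, hw']
    choose H hH1 hH2 using hH
    let 𝒰 : (W : Scheme.{u}).OpenCover :=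
      { I₀ := W
        X := fun p => Spec (CommRingCat.of (Localization.Away (α p)))
        f := l
        mem₀ := (Scheme.ofArrows_mem_precoverage_iff _).mpr ⟨fun p => ⟨p, hp p⟩, fun p => by
          haveI : IsOpenImmersion (l p ≫ W.ι) := by rw [hl]; infer_instance
          exact IsOpenImmersion.of_comp (l p) W.ι⟩ }
    have hglue : ∀ p q, pullback.fst (l p) (l q) ≫ H p = pullback.snd (l p) (l q) ≫ H q := by
      intro p q
      haveI : ∀ p, IsOpenImmersion (l p) := fun p => 𝒰.map_prop p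
      refine h.isPB.toIsJoint.hom_ext (pullback.fst (l p) (l q) ≫ l p ≫ W.ι) _ _
        (fun {Z} v w hvw => ?_) (fun {Z} v w hvw => ?_)
      · let w' := pullback.lift (v ≫ pullback.fst (l p) (l q) ≫ l p) w (by simpa only [Category.assoc] using hvw)
        rw [← Category.assoc, hH1 p _ w' (by simp only [w', pullback.lift_fst, Category.assoc]),
          ← Category.assoc, hH1 q _ w' (by
            rw [pullback.lift_fst, Category.assoc, pullback.condition])]
      · let w' := pullback.lift (v ≫ pullback.fst (l p) (l q) ≫ l p) w (by simpa only [Category.assoc] using hvw)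
        rw [← Category.assoc, hH2 p _ w' (by simp only [w', pullback.lift_fst, Category.assoc]),
          ← Category.assoc, hH2 q _ w' (by
            rw [pullback.lift_fst, Category.assoc, pullback.condition])]
    let G := 𝒰.glueMorphisms H hglue
    have hG : ∀ p, l p ≫ G = H p := fun p => 𝒰.ι_glueMorphisms H hglue p
    refine ⟨G, ?_, ?_⟩
    · refine Scheme.Cover.hom_ext (𝒰.pullback₁ (pullback.fst W.ι (sp φ1))) _ _ fun (p : W) => ?_
      show pullback.fst (pullback.fst W.ι (sp φ1)) (l p) ≫ pullback.fst _ _ ≫ G = pullback.fst _ (l p) ≫ a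
      rw [← Category.assoc, pullback.condition, Category.assoc, hG]
      exact hH1 p _ _ pullback.condition.symm
    · refine Scheme.Cover.hom_ext (𝒰.pullback₁ (pullback.fst W.ι (sp φ2))) _ _ fun (p : W) => ?_
      show pullback.fst (pullback.fst W.ι (sp φ2)) (l p) ≫ pullback.fst _ _ ≫ G = pullback.fst _ (l p) ≫ b
      rw [← Category.assoc, pullback.condition, Category.assoc, hG]
      exact hH2 p _ _ pullback.condition.symm
  have hext : ∀ {Q : Scheme.{u}} (f f' : (W : Scheme.{u}) ⟶ Q),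
      pullback.fst W.ι (sp φ1) ≫ f = pullback.fst W.ι (sp φ1) ≫ f' →
      pullback.fst W.ι (sp φ2) ≫ f = pullback.fst W.ι (sp φ2) ≫ f' → f = f' :=
    fun f f' h1 h2 => h.hom_ext W.ι f f' h1 h2
  refine ⟨⟨by rw [hi1, hj1]⟩, ⟨PushoutCocone.IsColimit.mk _ (fun c => (key c.inl c.inr c.condition).choose)
    (fun c => (key c.inl c.inr c.condition).choose_spec.1) (fun c => (key c.inl c.inr c.condition).choose_spec.2)
    (fun c m hm1 hm2 => hext _ _ (hm1.trans (key c.inl c.inr c.condition).choose_spec.1.symm)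
      (hm2.trans (key c.inl c.inr c.condition).choose_spec.2.symm))⟩⟩

/-- A map between the traces of two closed subschemes on an open. -/
def traceMap {A B C : Type u} [CommRing A] [CommRing B] [CommRing C] (V : (Spec (CommRingCat.of A)).Opens)
    (χ : A →+* B) (κ : B →+* C) : pullback V.ι (sp (κ.comp χ)) ⟶ pullback V.ι (sp χ) :=
  pullback.lift (pullback.fst _ _) (pullback.snd _ _ ≫ sp κ) (by
    rw [Category.assoc, sp_comp, pullback.condition])

theorem isPullback_traceMap {A B C : Type u} [CommRing A] [CommRing B] [CommRing C]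
    (V : (Spec (CommRingCat.of A)).Opens) (χ : A →+* B) (κ : B →+* C) :
    IsPullback (pullback.snd V.ι (sp (κ.comp χ))) (traceMap V χ κ) (sp κ) (pullback.snd V.ι (sp χ)) := by
  refine IsPullback.of_bot ?_ (pullback.lift_snd _ _ _).symm (IsPullback.of_hasPullback V.ι (sp χ)).flip
  rw [sp_comp, traceMap, pullback.lift_fst]
  exact (IsPullback.of_hasPullback V.ι (sp (κ.comp χ))).flip

theorem isClosedImmersion_traceMap {A B C : Type u} [CommRing A] [CommRing B] [CommRing C]
    (V : (Spec (CommRingCat.of A)).Opens) (χ : A →+* B) (κ : B →+* C) (hκ : Function.Surjective κ) :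
    IsClosedImmersion (traceMap V χ κ) :=
  MorphismProperty.of_isPullback (isPullback_traceMap V χ κ) (IsClosedImmersion.spec_of_surjective _ hκ)

theorem surjective_traceMap {A B C : Type u} [CommRing A] [CommRing B] [CommRing C]
    (V : (Spec (CommRingCat.of A)).Opens) (χ : A →+* B) (κ : B →+* C) (hκ : Function.Surjective κ)
    (hnil : RingHom.ker κ ≤ nilradical B) : Surjective (traceMap V χ κ) := by
  refine MorphismProperty.of_isPullback (isPullback_traceMap V χ κ) ⟨fun p => ?_⟩
  have : p ∈ Set.range (PrimeSpectrum.comap κ) := by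
    rw [range_comap_of_surjective _ _ hκ]
    exact hnil.trans (nilradical_le_prime (p : PrimeSpectrum B).asIdeal)
  exact this

/-- A cover of the trace of `V(g)` extends to a neighbourhood once it does so on `Spec T1`, if `Spec T2` is a
nilpotent thickening of `V(g)` inside `Spec T`. -/
theorem exists_extension_glue (h : IsFib φ1 φ2 ψ1 ψ2) (hψ1 : Function.Surjective ψ1)
    {S0 S1 : Type u} [CommRing S0] [CommRing S1]
    (g : T →+* S0) (κ : T2 →+* S0) (hκ : Function.Surjective κ) (hnil : RingHom.ker κ ≤ nilradical T2)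
    (hg : κ.comp φ2 = g)
    (g1 : T1 →+* S1) (κ1 : T0 →+* S1) (hκ1 : Function.Surjective κ1) (hnil1 : RingHom.ker κ1 ≤ nilradical T0)
    (hg1 : κ1.comp ψ1 = g1)
    (U : (Spec (CommRingCat.of T)).Opens)
    (hyp : ∀ V₀ : FEt.Cat (pullback (sp φ1 ⁻¹ᵁ U).ι (sp g1)),
      ∃ (U' : (Spec (CommRingCat.of T1)).Opens) (_ : U' ≤ sp φ1 ⁻¹ᵁ U)
        (u' : pullback (sp φ1 ⁻¹ᵁ U).ι (sp g1) ⟶ (U' : Scheme.{u}))
        (_ : u' ≫ U'.ι = pullback.fst (sp φ1 ⁻¹ᵁ U).ι (sp g1) ≫ (sp φ1 ⁻¹ᵁ U).ι)
        (V' : FEt.Cat (U' : Scheme.{u})), Nonempty ((FEt.restrict u').obj V' ≅ V₀))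
    (V₀ : FEt.Cat (pullback U.ι (sp g))) :
    ∃ (U' : (Spec (CommRingCat.of T)).Opens) (_ : U' ≤ U) (u' : pullback U.ι (sp g) ⟶ (U' : Scheme.{u}))
      (_ : u' ≫ U'.ι = pullback.fst U.ι (sp g) ≫ U.ι) (V' : FEt.Cat (U' : Scheme.{u})),
      Nonempty ((FEt.restrict u').obj V' ≅ V₀) := by
  subst hg hg1
  -- the thickening
  haveI := isClosedImmersion_traceMap U φ2 κ hκ
  haveI := surjective_traceMap U φ2 κ hκ hnil
  haveI := Groth.Agent.S0238.result (traceMap U φ2 κ)
  obtain ⟨E2, ⟨e2⟩⟩ := Functor.EssSurj.mem_essImage (F := FEt.restrict (traceMap U φ2 κ)) V₀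
  let U1 := sp φ1 ⁻¹ᵁ U
  -- the bottom of the square, over the whole open
  let Z := pullback U.ι (sp (ψ1.comp φ1))
  let jU : Z ⟶ pullback U.ι (sp φ2) := pullback.lift (pullback.fst _ _) (pullback.snd _ _ ≫ sp ψ2) (by
    rw [Category.assoc, sp_comp, ← h.comm, pullback.condition])
  let m : pullback U1.ι (sp (κ1.comp ψ1)) ⟶ Z :=
    pullback.lift (pullback.fst _ _ ≫ sp φ1 ∣_ U) (pullback.snd _ _ ≫ sp κ1) (by
      rw [Category.assoc, morphismRestrict_ι, pullback.condition_assoc, Category.assoc, sp_comp, sp_comp,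
        RingHom.comp_assoc])
  obtain ⟨U1', hU1', u1, hu1, E1, ⟨e1⟩⟩ := hyp ((FEt.restrict m).obj ((FEt.restrict jU).obj E2))
  -- the open
  haveI hsp1 : IsClosedImmersion (sp φ1) := IsClosedImmersion.spec_of_surjective _ h.surj1
  let bad : Set (Spec (CommRingCat.of T)) := sp φ1 '' (U1' : Set (Spec (CommRingCat.of T1)))ᶜ
  have hbad : IsClosed bad := (sp φ1).isClosedMap _ U1'.isOpen.isClosed_compl
  let V : (Spec (CommRingCat.of T)).Opens := ⟨(U : Set (Spec (CommRingCat.of T))) ∩ badᶜ, U.2.inter hbad.isOpen_compl⟩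
  have hVU : V ≤ U := fun x hx => hx.1
  have hUV : sp φ1 ⁻¹ᵁ V = U1' := by
    refine TopologicalSpace.Opens.ext (Set.ext fun y => ⟨fun hy => by_contra fun hn => hy.2 ⟨y, hn, rfl⟩,
      fun hy => ⟨hU1' hy, ?_⟩⟩)
    rintro ⟨y', hy', he⟩
    exact hy' ((sp φ1).isClosedEmbedding.injective he ▸ hy)
  -- the trace of `V(g)` lies in it
  have hmem : Set.range (pullback.fst U.ι (sp (κ.comp φ2)) ≫ U.ι) ⊆ Set.range V.ι := by
    rintro _ ⟨z, rfl⟩
    rw [Scheme.Opens.range_ι]
    refine ⟨(pullback.fst U.ι (sp (κ.comp φ2)) z).2, ?_⟩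
    rintro ⟨y, hy, hyz⟩
    apply hy
    -- `y` lies over the intersection, and the intersection thickens the trace in `Spec T1`
    let x := (pullback.snd U.ι (sp (κ.comp φ2))) z
    have hx : sp φ2 (sp κ x) = sp φ1 y := by
      rw [← Scheme.Hom.comp_apply (sp κ), sp_comp, ← Scheme.Hom.comp_apply, ← pullback.condition, Scheme.Hom.comp_apply]
      exact hyz.symm
    obtain ⟨q', hyq⟩ : (y : Spec (CommRingCat.of T1)) ∈ Set.range (sp ψ1) := by
      show (y : PrimeSpectrum T1) ∈ Set.range (PrimeSpectrum.comap ψ1)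
      rw [range_comap_of_surjective _ _ hψ1]
      intro t ht
      obtain ⟨s, hs1, hs2⟩ := h.glue t 0 ((RingHom.mem_ker.1 ht).trans (map_zero ψ2).symm)
      have h1 : s ∈ (PrimeSpectrum.comap φ2 (sp κ x : PrimeSpectrum T2)).asIdeal := by
        show φ2 s ∈ (sp κ x : PrimeSpectrum T2).asIdeal
        rw [hs2]
        exact Ideal.zero_mem _
      rw [show PrimeSpectrum.comap φ2 (sp κ x : PrimeSpectrum T2) = PrimeSpectrum.comap φ1 y from hx] at h1
      exact hs1 ▸ h1
    have hnq : q' ∈ Set.range (sp κ1) := by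
      show (q' : PrimeSpectrum T0) ∈ Set.range (PrimeSpectrum.comap κ1)
      rw [range_comap_of_surjective _ _ hκ1]
      exact hnil1.trans (nilradical_le_prime (q' : PrimeSpectrum T0).asIdeal)
    obtain ⟨r, hr⟩ := hnq
    have hyU : y ∈ U1 := by
      show sp φ1 y ∈ U
      rw [hyz]; exact (pullback.fst U.ι (sp (κ.comp φ2)) z).2
    obtain ⟨w, hw, -⟩ := Scheme.Pullback.exists_preimage_pullback (f := U1.ι) (g := sp (κ1.comp ψ1)) ⟨y, hyU⟩ r (by
      rw [← sp_comp, Scheme.Hom.comp_apply, hr, hyq]; rfl)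
    have : U1'.ι (u1 w) = y := by
      rw [← Scheme.Hom.comp_apply, hu1, Scheme.Hom.comp_apply, hw]; rfl
    exact this ▸ (u1 w).2
  let u' := IsOpenImmersion.lift V.ι (pullback.fst U.ι (sp (κ.comp φ2)) ≫ U.ι) hmem
  have hu' : u' ≫ V.ι = pullback.fst U.ι (sp (κ.comp φ2)) ≫ U.ι := IsOpenImmersion.lift_fac _ _ _
  refine ⟨V, hVU, u', hu', ?_⟩
  -- the square over `V`
  let X := pullback V.ι (sp φ1)
  let ZV := pullback V.ι (sp (ψ1.comp φ1))
  let i : ZV ⟶ X := traceMap V φ1 ψ1
  let j : ZV ⟶ pullback V.ι (sp φ2) := pullback.lift (pullback.fst _ _) (pullback.snd _ _ ≫ sp ψ2) (by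
    rw [Category.assoc, sp_comp, ← h.comm, pullback.condition])
  haveI : IsClosedImmersion i := isClosedImmersion_traceMap V φ1 ψ1 hψ1
  haveI : IsClosedImmersion j := by
    haveI : IsClosedImmersion (pullback.fst V.ι (sp (ψ1.comp φ1))) :=
      MorphismProperty.pullback_fst _ _ (IsClosedImmersion.spec_of_surjective _ (hψ1.comp h.surj1))
    haveI : IsClosedImmersion (j ≫ pullback.fst V.ι (sp φ2)) := by rw [pullback.lift_fst]; infer_instance
    exact IsClosedImmersion.of_comp j (pullback.fst V.ι (sp φ2))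
  let eX : X ⟶ (U1' : Scheme.{u}) := IsOpenImmersion.lift U1'.ι (pullback.snd V.ι (sp φ1)) (by
    rintro _ ⟨z, rfl⟩
    rw [Scheme.Opens.range_ι, ← hUV]
    show sp φ1 _ ∈ V
    rw [← Scheme.Hom.comp_apply, ← pullback.condition, Scheme.Hom.comp_apply]
    exact (pullback.fst V.ι (sp φ1) z).2)
  have heX : eX ≫ U1'.ι = pullback.snd V.ι (sp φ1) := IsOpenImmersion.lift_fac _ _ _
  let eY : pullback V.ι (sp φ2) ⟶ pullback U.ι (sp φ2) :=
    pullback.map _ _ _ _ ((Spec (CommRingCat.of T)).homOfLE hVU) (𝟙 _) (𝟙 _) (by simp) (by simp)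
  let eZ : ZV ⟶ Z :=
    pullback.map _ _ _ _ ((Spec (CommRingCat.of T)).homOfLE hVU) (𝟙 _) (𝟙 _) (by simp) (by simp)
  -- the trace in `Spec T1` thickens to `ZV`
  let l : pullback U1.ι (sp (κ1.comp ψ1)) ⟶ ZV :=
    pullback.lift (IsOpenImmersion.lift V.ι (u1 ≫ U1'.ι ≫ sp φ1) (by
      rintro _ ⟨w, rfl⟩
      rw [Scheme.Opens.range_ι]
      exact ((SetLike.ext_iff.1 hUV (U1'.ι (u1 w))).2 (u1 w).2))) (pullback.snd _ _ ≫ sp κ1) (by
      rw [IsOpenImmersion.lift_fac, ← Category.assoc, hu1, pullback.condition, Category.assoc, Category.assoc,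
        sp_comp, sp_comp, RingHom.comp_assoc])
  have hleZ : l ≫ eZ = m := by
    apply pullback.hom_ext
    · rw [Category.assoc, pullback.lift_fst, pullback.lift_fst_assoc, pullback.lift_fst, ← cancel_mono U.ι,
        Category.assoc, Category.assoc, Scheme.homOfLE_ι, IsOpenImmersion.lift_fac, morphismRestrict_ι,
        reassoc_of% hu1]
    · rw [Category.assoc, pullback.lift_snd, Category.comp_id, pullback.lift_snd, pullback.lift_snd]
  have hleX : l ≫ i ≫ eX = u1 := by
    rw [← cancel_mono U1'.ι, Category.assoc, Category.assoc, heX, hu1]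
    simp only [i, l, traceMap, pullback.lift_snd, pullback.lift_snd_assoc]
    rw [Category.assoc, sp_comp, ← pullback.condition]
  haveI : IsClosedImmersion l := by
    haveI : IsClosedImmersion m := by
      haveI : IsClosedImmersion (pullback.fst U.ι (sp (ψ1.comp φ1))) :=
        MorphismProperty.pullback_fst _ _ (IsClosedImmersion.spec_of_surjective _ (hψ1.comp h.surj1))
      haveI : IsClosedImmersion (pullback.fst U1.ι (sp (κ1.comp ψ1))) :=
        MorphismProperty.pullback_fst _ _ (IsClosedImmersion.spec_of_surjective _ (hκ1.comp hψ1))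
      haveI : IsClosedImmersion (sp φ1 ∣_ U) := IsZariskiLocalAtTarget.restrict hsp1 U
      haveI : IsClosedImmersion (m ≫ pullback.fst U.ι (sp (ψ1.comp φ1))) := by rw [pullback.lift_fst]; infer_instance
      exact IsClosedImmersion.of_comp m (pullback.fst U.ι (sp (ψ1.comp φ1)))
    haveI : IsClosedImmersion (l ≫ eZ) := by rw [hleZ]; infer_instance
    exact IsClosedImmersion.of_comp l eZ
  haveI : Surjective l := by
    refine ⟨fun z => ?_⟩
    let q : PrimeSpectrum T0 := pullback.snd V.ι (sp (ψ1.comp φ1)) z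
    have hq : (q : Spec (CommRingCat.of T0)) ∈ Set.range (sp κ1) := by
      show q ∈ Set.range (PrimeSpectrum.comap κ1)
      rw [range_comap_of_surjective _ _ hκ1]
      exact hnil1.trans (nilradical_le_prime q.asIdeal)
    obtain ⟨r, hr⟩ := hq
    have hq' : sp φ1 (sp ψ1 (pullback.snd V.ι (sp (ψ1.comp φ1)) z)) = V.ι (pullback.fst V.ι (sp (ψ1.comp φ1)) z) := by
      rw [← Scheme.Hom.comp_apply, ← Scheme.Hom.comp_apply (pullback.fst _ _), pullback.condition, sp_comp]
      rfl
    have hyU : sp ψ1 (pullback.snd V.ι (sp (ψ1.comp φ1)) z) ∈ U1 := by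
      show sp φ1 _ ∈ U
      rw [hq']
      exact hVU (pullback.fst V.ι (sp (ψ1.comp φ1)) z).2
    obtain ⟨w, -, hw⟩ := Scheme.Pullback.exists_preimage_pullback (f := U1.ι) (g := sp (κ1.comp ψ1)) ⟨_, hyU⟩ r (by
      refine (congrArg (sp ψ1) hr.symm).trans ?_
      rw [← Scheme.Hom.comp_apply, sp_comp])
    refine ⟨w, (pullback.snd V.ι (sp (ψ1.comp φ1))).isOpenEmbedding.injective ?_⟩
    rw [← Scheme.Hom.comp_apply, pullback.lift_snd, Scheme.Hom.comp_apply, hw, hr]
  haveI := Groth.Agent.S0238.result l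
  have hfac : i ≫ eX = i ≫ eX := rfl
  have hjY : j ≫ eY = eZ ≫ jU := by
    apply pullback.hom_ext
    · simp only [j, eY, eZ, jU, Category.assoc, pullback.lift_fst, pullback.lift_fst_assoc]
    · simp only [j, eY, eZ, jU, Category.assoc, pullback.lift_snd, pullback.lift_snd_assoc, Category.comp_id]
  let EX := (FEt.restrict eX).obj E1
  let EY := (FEt.restrict eY).obj E2
  let a : (FEt.restrict l).obj ((FEt.restrict i).obj EX) ≅ (FEt.restrict l).obj ((FEt.restrict j).obj EY) :=
    (FEt.restrict l).mapIso ((restrictFacIso (rfl : i ≫ eX = _)).app E1).symm ≪≫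
      ((restrictFacIso hleX).app E1).symm ≪≫ e1 ≪≫
      ((restrictFacIso (show m ≫ jU = m ≫ jU from rfl)).app E2).symm ≪≫
      (restrictFacIso (show l ≫ (j ≫ eY) = m ≫ jU by rw [hjY, ← Category.assoc, hleZ])).app E2 ≪≫
      (FEt.restrict l).mapIso ((restrictFacIso (rfl : j ≫ eY = _)).app E2)
  let e : (FEt.restrict i).obj EX ≅ (FEt.restrict j).obj EY := (FEt.restrict l).preimageIso a
  obtain ⟨E, -, ⟨eE⟩⟩ := Groth.Agent.S1186.result i j (fun y => exists_affine_of_isClosedImmersion (i := i) (j := j) y |>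
    fun ⟨O, hO, hz⟩ => ⟨O, hO, fun z hz' => hz hz'⟩) _ _
    (isPushout_open h V i j (pullback.lift_fst _ _ _) (pullback.lift_snd _ _ _) (pullback.lift_fst _ _ _) (pullback.lift_snd _ _ _))
    EX EY e
  refine ⟨E, ⟨?_⟩⟩
  let n : pullback U.ι (sp (κ.comp φ2)) ⟶ pullback V.ι (sp φ2) :=
    pullback.lift u' (pullback.snd _ _ ≫ sp κ) (by rw [hu', pullback.condition, Category.assoc, sp_comp])
  have hn1 : n ≫ pullback.fst V.ι (sp φ2) = u' := pullback.lift_fst _ _ _
  have hn2 : n ≫ eY = traceMap U φ2 κ := by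
    apply pullback.hom_ext
    · simp only [eY, traceMap, n, Category.assoc, pullback.lift_fst, pullback.lift_fst_assoc]
      rw [← cancel_mono U.ι, Category.assoc, Scheme.homOfLE_ι, hu']
    · simp only [eY, traceMap, n, Category.assoc, pullback.lift_snd, pullback.lift_snd_assoc, Category.comp_id]
  exact (restrictFacIso hn1).app E ≪≫ (FEt.restrict n).mapIso eE ≪≫ ((restrictFacIso hn2).app E2).symm ≪≫ e2

end Groth.L13.FEtLeff
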