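import Groth.Agent.L18.GrFreeFEt
import Groth.Agent.L29.Formal.NormFlatSections
import Groth.Agent.L13.FEtLeff.Descend

/-! Full faithfulness of restriction of covers from an open of a complete affine scheme. -/

set_option autoImplicit false
set_option linter.style.haveILetI false
set_option linter.unusedSectionVars false
set_option backward.isDefEq.respectTransparency false
set_option backward.isDefEq.respectTransparency.types false

universe u

open CategoryTheory CategoryTheory.Limits AlgebraicGeometry TopologicalSpace Opposite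
open IsLocalRing (maximalIdeal closedPoint)
open Groth.L18.GenLoc (secOf homOfSection_secOf secOf_homOfSection)

noncomputable section

namespace Groth.L13.FEtLeff.QALef

variable {A : Type u} [CommRing A] [IsNoetherianRing A]

/-- Sections over an open with depth two outside are the elements of the ring. -/
theorem bijective_open (V : (Spec (CommRingCat.of A)).Opens)
    (hd : ∀ r : PrimeSpectrum A, r ∉ V →
      (2 : ℕ∞) ≤ LocCoh.depth (Localization.AtPrime r.asIdeal) (Localization.AtPrime r.asIdeal)) :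
    Function.Bijective fun a : A => V.ι.appTop ((Scheme.ΓSpecIso (CommRingCat.of A)).inv a) := by
  let X := Spec (CommRingCat.of A)
  have hdepth : ∀ x : X, x ∉ V → (2 : ℕ∞) ≤ LocCoh.depth (X.presheaf.stalk x) (X.presheaf.stalk x) := by
    intro x hx
    let P : PrimeSpectrum A := x
    letI : Algebra A (X.presheaf.stalk x) := StructureSheaf.stalkAlgebra A P
    haveI : IsLocalization.AtPrime (X.presheaf.stalk x) P.asIdeal := StructureSheaf.IsLocalization.to_stalk A P
    exact (hd P hx).trans_eq (Groth.L06.FlatFibre.depth_eq_of_ringEquiv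
      (IsLocalization.algEquiv P.asIdeal.primeCompl (Localization.AtPrime P.asIdeal)
        (X.presheaf.stalk x)).toRingEquiv).symm
  have h1 : Function.Bijective (X.presheaf.map (homOfLE (le_top : V ≤ ⊤)).op) := by
    have key := Groth.L13.HartogsFF.res_bijective (𝟙 X) V hdepth (isAffineOpen_top X)
    have hle : V ≤ ⊤ ⊓ V := le_inf le_top le_rfl
    have hiso : Function.Bijective (X.presheaf.map (homOfLE (show V ≤ (𝟙 X) ⁻¹ᵁ (⊤ ⊓ V) from hle)).op) := by
      haveI : IsIso (homOfLE (show V ≤ (𝟙 X) ⁻¹ᵁ (⊤ ⊓ V) from hle)) :=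
        ⟨homOfLE (inf_le_right : (⊤ : X.Opens) ⊓ V ≤ V), Subsingleton.elim _ _, Subsingleton.elim _ _⟩
      exact ConcreteCategory.bijective_of_isIso _
    have hc := hiso.comp key
    exact (show Function.Bijective _ from by convert! hc using 1)
  have h2 : Function.Bijective (X.presheaf.map
      (homOfLE (le_top : V.ι ''ᵁ V.ι ⁻¹ᵁ (⊤ : X.Opens) ≤ ⊤)).op) := by
    have : ∀ {b : X.Opens}, V = b → ∀ h : b ≤ ⊤, Function.Bijective (X.presheaf.map (homOfLE h).op) := by
      intro b hb h
      subst hb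
      exact h1
    exact this (by rw [Scheme.Hom.preimage_top, V.ι_image_top]) _
  show Function.Bijective fun a : A => V.ι.app ⊤ ((Scheme.ΓSpecIso (CommRingCat.of A)).inv a)
  rw [Scheme.Opens.ι_app]
  exact h2.comp (ConcreteCategory.bijective_of_isIso (Scheme.ΓSpecIso (CommRingCat.of A)).inv)

variable (V : (Spec (CommRingCat.of A)).Opens) (J : Ideal A)

/-- The ideal of the special locus on the open. -/
abbrev Jc : (V : Scheme.{u}).IdealSheafData :=
  (Spec.map (CommRingCat.ofHom (Ideal.Quotient.mk J))).ker.comap V.ι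

/-- The functions on the thickenings of the special locus. -/
def rho (n : ℕ) : A →+* Γ((Jc V J ^ (n + 1)).subscheme, ⊤) :=
  ((Jc V J ^ (n + 1)).subschemeι ≫ V.ι).appTop.hom.comp (Scheme.ΓSpecIso (CommRingCat.of A)).inv.hom

theorem rho_spec (n : ℕ) (hdepth : ∀ r : PrimeSpectrum (A ⧸ J ^ (n + 1)),
      r ∉ Spec.map (CommRingCat.ofHom (Ideal.Quotient.mk (J ^ (n + 1)))) ⁻¹ᵁ V →
      (2 : ℕ∞) ≤ LocCoh.depth (Localization.AtPrime r.asIdeal) (Localization.AtPrime r.asIdeal)) :
    Function.Surjective (rho V J n) ∧ RingHom.ker (rho V J n) = J ^ (n + 1) := by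
  let K : Ideal A := J ^ (n + 1)
  let gK := Spec.map (CommRingCat.ofHom (Ideal.Quotient.mk K))
  have hcomap : gK.ker.comap V.ι = Jc V J ^ (n + 1) := by
    rw [← Groth.L17.Thick.comap_pow]
    exact congrArg (fun I : Scheme.IdealSheafData _ => I.comap V.ι) (Groth.L18.AlgebraizeH2.ker_specQuot J n)
  obtain ⟨ℓ, hℓ⟩ := Groth.L18.GrFreePic.exists_iso_subscheme K V
  have h1 : Function.Surjective (fun a : A => ((gK ⁻¹ᵁ V).ι ≫ gK).appTop ((Scheme.ΓSpecIso (CommRingCat.of A)).inv a)) ∧
      ∀ a : A, ((gK ⁻¹ᵁ V).ι ≫ gK).appTop ((Scheme.ΓSpecIso (CommRingCat.of A)).inv a) = 0 ↔ a ∈ K := by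
    have hnat : ∀ a : A, gK.appTop ((Scheme.ΓSpecIso (CommRingCat.of A)).inv a) =
        (Scheme.ΓSpecIso (CommRingCat.of (A ⧸ K))).inv (Ideal.Quotient.mk K a) := fun a =>
      (ConcreteCategory.congr_hom (Scheme.ΓSpecIso_inv_naturality (CommRingCat.ofHom (Ideal.Quotient.mk K))) a).symm
    have hb : Function.Bijective fun b : A ⧸ K =>
        (gK ⁻¹ᵁ V).ι.appTop ((Scheme.ΓSpecIso (CommRingCat.of (A ⧸ K))).inv b) :=
      bijective_open (gK ⁻¹ᵁ V) hdepth
    have he : ∀ a : A, ((gK ⁻¹ᵁ V).ι ≫ gK).appTop ((Scheme.ΓSpecIso (CommRingCat.of A)).inv a) =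
        (gK ⁻¹ᵁ V).ι.appTop ((Scheme.ΓSpecIso (CommRingCat.of (A ⧸ K))).inv (Ideal.Quotient.mk K a)) := fun a => by
      rw [Scheme.Hom.comp_appTop, ConcreteCategory.comp_apply, hnat]
    refine ⟨fun y => ?_, fun a => ?_⟩
    · obtain ⟨b, hb'⟩ := hb.2 y
      obtain ⟨a, rfl⟩ := Ideal.Quotient.mk_surjective b
      exact ⟨a, (he a).trans hb'⟩
    · rw [he, ← Ideal.Quotient.eq_zero_iff_mem]
      exact ⟨fun h => hb.1 (h.trans (by simp [map_zero])), fun h => by rw [h]; simp [map_zero]⟩
  suffices H : ∀ I : (V : Scheme.{u}).IdealSheafData, I = gK.ker.comap V.ι →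
      Function.Surjective (fun a : A => (I.subschemeι ≫ V.ι).appTop ((Scheme.ΓSpecIso (CommRingCat.of A)).inv a)) ∧
        ∀ a : A, (I.subschemeι ≫ V.ι).appTop ((Scheme.ΓSpecIso (CommRingCat.of A)).inv a) = 0 ↔ a ∈ K by
    obtain ⟨h2, h3⟩ := H _ hcomap.symm
    exact ⟨h2, Ideal.ext fun a => h3 a⟩
  rintro I rfl
  have hcomp : (gK ⁻¹ᵁ V).ι ≫ gK = ℓ.hom ≫ (gK.ker.comap V.ι).subschemeι ≫ V.ι := by
    rw [← Category.assoc, hℓ, morphismRestrict_ι]
  rw [hcomp, Scheme.Hom.comp_appTop] at h1
  have hbij : Function.Bijective ℓ.hom.appTop := ConcreteCategory.bijective_of_isIso _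
  refine ⟨fun y => ?_, fun a => ?_⟩
  · obtain ⟨a, ha⟩ := h1.1 (ℓ.hom.appTop y)
    exact ⟨a, hbij.1 ha⟩
  · rw [← h1.2 a]
    exact ⟨fun h => (congrArg ℓ.hom.appTop h).trans (map_zero _), fun h => hbij.1 (h.trans (map_zero _).symm)⟩

/-- Functions on the open are the compatible systems of functions on the thickenings. -/
theorem homToFormalBijective [IsAdicComplete J A]
    (hV : ∀ r : PrimeSpectrum A, r ∉ V →
      (2 : ℕ∞) ≤ LocCoh.depth (Localization.AtPrime r.asIdeal) (Localization.AtPrime r.asIdeal))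
    (hlev : ∀ n : ℕ, ∀ r : PrimeSpectrum (A ⧸ J ^ (n + 1)),
      r ∉ Spec.map (CommRingCat.ofHom (Ideal.Quotient.mk (J ^ (n + 1)))) ⁻¹ᵁ V →
      (2 : ℕ∞) ≤ LocCoh.depth (Localization.AtPrime r.asIdeal) (Localization.AtPrime r.asIdeal)) :
    Lef.HomToFormalBijective (Jc V J) (Coh.structureModule (V : Scheme.{u})) := by
  let X : Scheme.{u} := V
  let θ : A → Γ(X, ⊤) := fun a => V.ι.appTop ((Scheme.ΓSpecIso (CommRingCat.of A)).inv a)
  have hθ : Function.Bijective θ := bijective_open V hV
  have hrho : ∀ n a, (Jc V J ^ (n + 1)).subschemeι.appTop (θ a) = rho V J n a := fun n a => by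
    show _ = ((Jc V J ^ (n + 1)).subschemeι ≫ V.ι).appTop _
    rw [Scheme.Hom.comp_appTop]
    rfl
  have hsec : ∀ (n : ℕ) (φ : Coh.structureModule X ⟶ Coh.structureModule X),
      secOf (φ ≫ ClSub.toSubscheme (Jc V J ^ (n + 1))) = (Jc V J ^ (n + 1)).subschemeι.appTop (secOf φ) :=
    fun n φ => rfl
  refine ⟨fun φ ψ h => ?_, fun y hy => ?_⟩
  · refine Groth.L18.LefConnected.hom_ext_secOf ?_
    obtain ⟨a, ha⟩ := hθ.2 (secOf φ)
    obtain ⟨b, hb⟩ := hθ.2 (secOf ψ)
    rw [← ha, ← hb]
    refine congrArg θ (sub_eq_zero.1 (IsHausdorff.haus (I := J) inferInstance (a - b) fun n => ?_))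
    rw [SModEq.zero, smul_eq_mul, Ideal.mul_top]
    rcases n with - | n
    · simp
    · rw [← (rho_spec V J n (hlev n)).2, RingHom.mem_ker, map_sub, sub_eq_zero, ← hrho, ← hrho, ha, hb, ← hsec,
        ← hsec, h]
  · choose a ha using fun n => (rho_spec V J n (hlev n)).1
      (show Γ((Jc V J ^ (n + 1)).subscheme, ⊤) from secOf (y n))
    have hcompat : ∀ n, a (n + 1) - a n ∈ J ^ (n + 1) := by
      intro n
      rw [← (rho_spec V J n (hlev n)).2, RingHom.mem_ker, map_sub, sub_eq_zero, ha]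
      have h1 : rho V J n (a (n + 1)) = secOf ((Groth.L16.homOfSection (Coh.structureModule X) (θ (a (n + 1))) ≫
          ClSub.toSubscheme (Jc V J ^ (n + 1 + 1))) ≫ Lef.quotMap (Lef.pow_succ_le (Jc V J) n)) := by
        rw [Category.assoc, Groth.L18.LefConnected.toSubscheme_quotMap, hsec, secOf_homOfSection, hrho]
      have h2 : Groth.L16.homOfSection (Coh.structureModule X) (θ (a (n + 1))) ≫
          ClSub.toSubscheme (Jc V J ^ (n + 1 + 1)) = y (n + 1) := by
        refine Groth.L18.LefConnected.hom_ext_secOf ?_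
        rw [hsec, secOf_homOfSection, hrho, ha]
      rw [h1, h2, hy n]
    obtain ⟨L, hL⟩ := IsPrecomplete.prec (I := J) (M := A) inferInstance (f := fun n => a n) (by
      intro m n hmn
      rw [SModEq.sub_mem, smul_eq_mul, Ideal.mul_top]
      induction n, hmn using Nat.le_induction with
      | base => simp
      | succ n hn ih =>
        rw [show a m - a (n + 1) = (a m - a n) - (a (n + 1) - a n) by ring]
        exact sub_mem ih (Ideal.pow_le_pow_right (by omega) (hcompat n)))
    refine ⟨Groth.L16.homOfSection (Coh.structureModule X) (θ L), fun n => Groth.L18.LefConnected.hom_ext_secOf ?_⟩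
    rw [hsec, secOf_homOfSection, hrho]
    refine Eq.trans ?_ (ha n)
    show rho V J n L = rho V J n (a n)
    rw [← sub_eq_zero, ← map_sub, ← RingHom.mem_ker, (rho_spec V J n (hlev n)).2]
    have h1 := SModEq.sub_mem.1 (hL (n + 1))
    rw [smul_eq_mul, Ideal.mul_top] at h1
    rw [show L - a n = (a (n + 1) - a n) - (a (n + 1) - L) by ring]
    exact sub_mem (hcompat n) h1

/-- Restriction of covers from the open to the trace of the closed subscheme is fully faithful. -/
theorem fullyFaithful_restrict [IsAdicComplete J A]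
    (hV : ∀ r : PrimeSpectrum A, r ∉ V →
      (2 : ℕ∞) ≤ LocCoh.depth (Localization.AtPrime r.asIdeal) (Localization.AtPrime r.asIdeal))
    (hlev : ∀ n : ℕ, ∀ r : PrimeSpectrum (A ⧸ J ^ (n + 1)),
      r ∉ Spec.map (CommRingCat.ofHom (Ideal.Quotient.mk (J ^ (n + 1)))) ⁻¹ᵁ V →
      (2 : ℕ∞) ≤ LocCoh.depth (Localization.AtPrime r.asIdeal) (Localization.AtPrime r.asIdeal))
    {B : Type u} [CommRing B] (g : A →+* B) (hg : Function.Surjective g) (hker : RingHom.ker g = J) :
    (FEt.restrict (pullback.fst V.ι (Spec.map (CommRingCat.ofHom g)))).Full ∧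
      (FEt.restrict (pullback.fst V.ι (Spec.map (CommRingCat.ofHom g)))).Faithful := by
  haveI : CompactSpace ↥(V : Scheme.{u}) :=
    isCompact_iff_compactSpace.1 (NoetherianSpace.isCompact (α := PrimeSpectrum A) _)
  haveI : (V : Scheme.{u}).IsQuasiAffine := Scheme.IsQuasiAffine.of_isImmersion V.ι
  haveI : AlgebraicGeometry.IsNoetherian (V : Scheme.{u}) := { }
  obtain ⟨h1, h2⟩ := Groth.Agent.S9489.result _ (Jc V J)
    (Or.inl ⟨inferInstance, homToFormalBijective V J hV hlev⟩)
  let q := Spec.map (CommRingCat.ofHom g)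
  haveI : IsClosedImmersion q := IsClosedImmersion.spec_of_surjective _ hg
  let p := pullback.fst V.ι q
  have hk : p.ker = Jc V J := by
    refine (Scheme.IdealSheafData.ker_fst_of_isClosedImmersion _ _).trans (congrArg (fun I => Scheme.IdealSheafData.comap I V.ι) ?_)
    subst hker
    let ε := RingHom.quotientKerEquivOfSurjective hg
    have hfac : Spec.map (CommRingCat.ofHom ε.toRingHom) ≫ Spec.map (CommRingCat.ofHom (Ideal.Quotient.mk (RingHom.ker g))) = q := by
      rw [← Spec.map_comp]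
      congr 1
    haveI : IsIso (Spec.map (CommRingCat.ofHom ε.toRingHom)) := by
      show IsIso (Spec.map ε.toCommRingCatIso.hom)
      infer_instance
    rw [← hfac, Scheme.Hom.ker_comp_of_isIso]
  rw [← hk] at h1 h2
  haveI := Groth.L16.PureQuot.isEquivalence_of_isIso p.toImage
  haveI := h1
  haveI := h2
  let e := restrictFacIso (show p.toImage ≫ p.ker.subschemeι = p from p.toImage_imageι)
  exact ⟨Functor.Full.of_iso e.symm, Functor.Faithful.of_iso e.symm⟩

end Groth.L13.FEtLeff.QALef
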