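import Groth.Agent.L13.FEtLeff.Alg
import Groth.Agent.L12.FinCov.Spec
import Groth.Agent.L16.QAffFactor.Basic
import Mathlib.RingTheory.Unramified.Finite

/-!
# The finite étale cover algebraizing a formal one
-/

set_option autoImplicit false
set_option linter.style.haveILetI false
set_option linter.unusedSectionVars false
set_option backward.isDefEq.respectTransparency false
set_option backward.isDefEq.respectTransparency.types false

universe u

open CategoryTheory CategoryTheory.Limits AlgebraicGeometry TopologicalSpace Opposite TensorProduct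
open Groth.L18.Frame (rs ro rs_rs ro_ro rs_smul rs_self ro_self)
open Groth.L19.ProjBdl (IsBasisOn lc coord lc_coord app_rs app_lc)
open Groth.L16.HomSh (ev secEquiv sec_ext_basis)

noncomputable section

namespace Groth.L13.FEtLeff

/-- A finite free algebra with perfect trace form is étale. -/
theorem etale_of_traceForm_bijective {R S : Type u} [CommRing R] [CommRing S] [Algebra R S] {ι : Type}
    [Fintype ι] (b : Module.Basis ι R S) (h : Function.Bijective (Algebra.traceForm R S)) :
    Algebra.Etale R S := by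
  classical
  haveI : Module.Free R S := Module.Free.of_basis b
  haveI : Module.Finite R S := Module.Finite.of_basis b
  haveI : Module.FinitePresentation R S := Module.finitePresentation_of_projective R S
  haveI : Algebra.FinitePresentation R S := inferInstance
  choose d hd using fun i => h.2 (b.coord i)
  have hd' : ∀ i x, Algebra.trace R S (d i * x) = b.repr x i := fun i x => by
    rw [← Algebra.traceForm_apply, hd, Module.Basis.coord_apply]
  have hexp : ∀ x, x = ∑ j, Algebra.trace R S (x * b j) • d j := fun x => h.1 (b.ext fun k => by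
    rw [map_sum, LinearMap.sum_apply, Finset.sum_eq_single k]
    · rw [map_smul, LinearMap.smul_apply, hd, Module.Basis.coord_apply, Module.Basis.repr_self,
        Finsupp.single_eq_same, smul_eq_mul, mul_one, Algebra.traceForm_apply]
    · intro j _ hj
      rw [map_smul, LinearMap.smul_apply, hd, Module.Basis.coord_apply, Module.Basis.repr_self,
        Finsupp.single_eq_of_ne hj, smul_zero]
    · exact fun hk => (hk (Finset.mem_univ k)).elim)
  have hone : ∑ i, b i * d i = 1 := h.1 (LinearMap.ext fun a => by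
    rw [Algebra.traceForm_apply, Algebra.traceForm_apply, one_mul, Finset.sum_mul, map_sum,
      Algebra.trace_eq_matrix_trace b a, Matrix.trace]
    refine Finset.sum_congr rfl fun i _ => ?_
    rw [Matrix.diag_apply, Algebra.leftMulMatrix_eq_repr_mul, ← hd', mul_comm (b i), mul_assoc, mul_comm (b i)])
  haveI : Algebra.FormallyUnramified R S := by
    refine Algebra.FormallyUnramified.iff_exists_tensorProduct.mpr ⟨∑ i, b i ⊗ₜ[R] d i, fun s => ?_, ?_⟩
    · rw [sub_mul, sub_eq_zero, Finset.mul_sum, Finset.mul_sum]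
      simp only [Algebra.TensorProduct.tmul_mul_tmul, one_mul]
      calc ∑ i, b i ⊗ₜ[R] (s * d i)
          = ∑ i, ∑ j, Algebra.trace R S (s * d i * b j) • (b i ⊗ₜ[R] d j) :=
            Finset.sum_congr rfl fun i _ => by
              conv_lhs => rw [hexp (s * d i), TensorProduct.tmul_sum]
              simp only [TensorProduct.tmul_smul]
        _ = ∑ j, ∑ i, Algebra.trace R S (s * d i * b j) • (b i ⊗ₜ[R] d j) := Finset.sum_comm
        _ = ∑ i, (s * b i) ⊗ₜ[R] d i := Finset.sum_congr rfl fun j _ => by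
            conv_rhs => rw [← b.sum_repr (s * b j), TensorProduct.sum_tmul]
            refine Finset.sum_congr rfl fun i _ => ?_
            rw [← hd', TensorProduct.smul_tmul', mul_comm (d i), mul_right_comm s]
    · simp only [map_sum, Algebra.TensorProduct.lmul'_apply_tmul, hone]
  exact Algebra.Etale.of_formallyUnramified_of_flat

/-- A map carrying a basis to a basis gives a pushout of algebras. -/
theorem isPushout_of_basis {R A S B : Type u} [CommRing R] [CommRing A] [CommRing S] [CommRing B] [Algebra R A]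
    [Algebra R S] [Algebra R B] [Algebra A B] [Algebra S B] [IsScalarTower R A B] [IsScalarTower R S B]
    {ι : Type} (c : Module.Basis ι R S) (c' : Module.Basis ι A B) (h : ∀ j, algebraMap S B (c j) = c' j) :
    Algebra.IsPushout R A S B := by
  let ω : A ⊗[R] S ≃ₗ[A] B := (c.baseChange A).equiv c' (Equiv.refl _)
  refine ⟨IsBaseChange.of_equiv ω fun x => ?_⟩
  have key : (ω.toLinearMap.restrictScalars R) ∘ₗ (TensorProduct.mk R A S 1) =
      (IsScalarTower.toAlgHom R S B).toLinearMap := c.ext fun j => by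
    show ω ((1 : A) ⊗ₜ[R] c j) = algebraMap S B (c j)
    rw [h, ← Module.Basis.baseChange_apply A c j]
    exact Module.Basis.equiv_apply _ _ _ _
  exact LinearMap.congr_fun key x

variable {U : Scheme.{u}} {𝓙 : U.IdealSheafData} {C : Cover 𝓙} {E : U.Modules}

namespace Pres

variable (P : Pres C E) (hE : FlatMod.IsFinLocFree E) (hD : HomBij 𝓙)

/-- The reduction as a ring map. -/
def vRing (n : ℕ) (W : U.Opens) : P.ASec hE hD W →+* C.B n W where
  toFun a := P.vS n W a
  map_one' := P.vS_oneS hE hD n W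
  map_mul' a b := P.vS_mulS hE hD n W a b
  map_zero' := map_zero ((P.v n).app W).hom
  map_add' a b := map_add ((P.v n).app W).hom a b

theorem vRing_str (n : ℕ) (W : U.Opens) (r : Γ(U, W)) :
    P.vRing hE hD n W (P.aStr hE hD W r) = C.qB n W r := by
  show P.vS n W (r • P.oneS hE hD W) = _
  rw [vS_smul, vS_oneS, mul_one]

/-- The basis of sections. -/
theorem goodB {m : ℕ} {V : U.Opens} {e : Fin m → Γ(E, V)} (he : IsBasisOn E V e) :
    Groth.L12.FinCov.GoodB (P.alg hE hD) V fun j => P.toA hE hD V (e j) := by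
  refine Groth.L12.FinCov.goodB_of_isBasisOn (P.alg hE hD) (b := fun j => e j) fun V' h => ?_
  have key : (fun c => (show Γ(E, V') from Groth.L12.FinCov.lc (P.alg hE hD).toModule (fun j => e j) h c)) =
      lc E e h := funext fun c => Finset.sum_congr rfl fun j _ => P.smul_alg hE hD V' (c j) _
  exact (key ▸ he V' h : Function.Bijective fun c =>
    (show Γ(E, V') from Groth.L12.FinCov.lc (P.alg hE hD).toModule (fun j => e j) h c))

/-- The algebra of sections. -/
abbrev algA (W : U.Opens) : Algebra Γ(U, W) (P.ASec hE hD W) := (P.aStr hE hD W).toAlgebra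

/-- The basis of a frame. -/
def basisA {m : ℕ} {V : U.Opens} {e : Fin m → Γ(E, V)} (he : IsBasisOn E V e) :
    letI := P.algA hE hD V
    Module.Basis (Fin m) Γ(U, V) (P.ASec hE hD V) :=
  (P.goodB hE hD he).basis le_rfl

theorem basisA_apply {m : ℕ} {V : U.Opens} {e : Fin m → Γ(E, V)} (he : IsBasisOn E V e) (j : Fin m) :
    letI := P.algA hE hD V
    P.basisA hE hD he j = P.toA hE hD V (e j) :=
  ((P.goodB hE hD he).basis_apply le_rfl j).trans (rs_self E _ _)

theorem trace_reduce {m : ℕ} {V : U.Opens} (hV : IsAffineOpen V) {e : Fin m → Γ(E, V)} (he : IsBasisOn E V e)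
    (n : ℕ) (a : P.ASec hE hD V) :
    letI := P.algA hE hD V
    C.qA n V (Algebra.trace Γ(U, V) (P.ASec hE hD V) a) = C.trB n V (P.vRing hE hD n V a) := by
  letI := P.algA hE hD V
  letI := C.algB n V
  have hf := P.v_frame n m V e he
  rw [C.trB_eq_trace n hV hf]
  refine (Groth.L12.FinCov.trace_map_of_basis (P.basisA hE hD he) hf.basis (C.qA n V) (P.vRing hE hD n V)
    (fun r => (P.vRing_str hE hD n V r).trans (C.qB_eq n V r)) (fun i => ?_) a).symm
  rw [basisA_apply, Cover.IsFrame.basis_apply]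
  rfl

include hE hD in
theorem exists_trace : ∃ τ : E ⟶ Coh.structureModule U,
    (∀ (V : U.Opens) (m : ℕ) (e : Fin m → Γ(E, V)), IsAffineOpen V → IsBasisOn E V e → ∀ a : P.ASec hE hD V,
      letI := P.algA hE hD V
      (show Γ(U, V) from τ.app V a) = Algebra.trace Γ(U, V) (P.ASec hE hD V) a) ∧
    ∀ (W : U.Opens) (a b : Γ(E, W)),
      (show Γ(U, W) from τ.app W (P.mulS hE hD W a b)) = P.beta hE hD W a b := by
  obtain ⟨τ', hτ'⟩ := Groth.L12.FinCov.exists_isTrace (P.isFinLocFree_alg hE hD)
  have h1 : ∀ (V : U.Opens) (m : ℕ) (e : Fin m → Γ(E, V)), IsAffineOpen V → IsBasisOn E V e →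
      ∀ a : P.ASec hE hD V, letI := P.algA hE hD V
      (show Γ(U, V) from ((P.algIso hE hD).inv ≫ τ').app V a) = Algebra.trace Γ(U, V) (P.ASec hE hD V) a :=
    fun V m e hV he a => Groth.L12.FinCov.isTrace_app hτ' hV ⟨m, _, P.goodB hE hD he⟩ a
  let τ : E ⟶ Coh.structureModule U := (P.algIso hE hD).inv ≫ τ'
  have hq : ∀ n (W : U.Opens) (a : Γ(E, W)), C.qA n W (τ.app W a) = C.trB n W (P.vS n W a) := fun n W a => by
    refine local_ext (ClSub.quotMod (𝓙 ^ (n + 1))) fun x hx => ?_
    obtain ⟨V, m, e, hV, hxV, hVW, he, -⟩ := P.exists_frames hE x W hx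
    refine ⟨V, hVW, hxV, ?_⟩
    show rf _ _ (C.qA n W _) = rf _ _ (C.trB n W _)
    rw [← C.qA_rf n hVW, ← C.trB_rf n hVW, ← P.vS_rs n hVW]
    refine (congrArg (C.qA n V) ?_).trans (P.trace_reduce hE hD hV he n (rs E hVW a))
    exact (app_rs τ hVW a).symm.trans (h1 V m e hV he _)
  refine ⟨τ, h1, fun W a b => ?_⟩
  have hm := P.isBil_mulS hE hD
  refine Pres.eq_of_formal (C := C) hD (Groth.L29.DC.isFinLocFree_tensor hE hE)
    (φ := fun W a b => (show Γ(U, W) from τ.app W (P.mulS hE hD W a b))) ?_ (P.isBil_beta hE hD)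
    (fun n W a b => ?_) W a b
  · exact ⟨fun W a a' b => (congrArg (τ.app W) (hm.add_left W a a' b)).trans (map_add _ _ _),
      fun W a b b' => (congrArg (τ.app W) (hm.add_right W a b b')).trans (map_add _ _ _),
      fun W r a b => (congrArg (τ.app W) (hm.smul_left W r a b)).trans (τ.app_smul r _),
      fun W r a b => (congrArg (τ.app W) (hm.smul_right W r a b)).trans (τ.app_smul r _),
      fun W V h a b => (congrArg (τ.app V) (hm.res W V h a b)).trans (app_rs τ h _)⟩
  · rw [hq, vS_mulS, qA_beta]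

include hE hD in
/-- The algebra is étale over framed affine opens. -/
theorem etale_sec {m : ℕ} {V : U.Opens} (hV : IsAffineOpen V) {e : Fin m → Γ(E, V)} (he : IsBasisOn E V e) :
    letI := P.algA hE hD V
    Algebra.Etale Γ(U, V) (P.ASec hE hD V) := by
  classical
  letI := P.algA hE hD V
  obtain ⟨τ, hτ, hτβ⟩ := P.exists_trace hE hD
  let c := P.basisA hE hD he
  have hform : ∀ x y : P.ASec hE hD V,
      Algebra.traceForm Γ(U, V) (P.ASec hE hD V) x y = P.beta hE hD V x y := fun x y => by
    rw [Algebra.traceForm_apply, ← hτ V m e hV he]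
    exact hτβ V x y
  refine etale_of_traceForm_bijective c ⟨fun x y hxy => ?_, fun f => ?_⟩
  · refine P.betaHom_injective hE hD V ?_
    refine (secEquiv V).injective (sec_ext_basis he le_rfl fun k => ?_)
    rw [ev_betaHom, ev_betaHom, rs_self E _ x, rs_self E _ y, rs_self E _ (e k)]
    exact (hform x (e k)).symm.trans ((LinearMap.congr_fun hxy (e k)).trans (hform y (e k)))
  · let μ : Γ(Ed E, V) := ∑ j, f (c j) • dualB he j
    refine ⟨P.toA hE hD V (P.gInv hE hD V μ), c.ext fun k => ?_⟩
    rw [hform]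
    show P.beta hE hD V (P.gInv hE hD V μ) (c k) = f (c k)
    rw [beta_gInv]
    conv_lhs => arg 3; rw [basisA_apply]
    have hd : ∀ j, evd V (dualB he j) (e k) = (Pi.single k 1 : Fin m → Γ(U, V)) j := fun j => by
      have := ev_dualB he j le_rfl (rs E le_rfl (e k))
      rw [Groth.L16.HomSh.coord_basis, rs_self, rs_self] at this
      exact this
    refine (map_sum (AddMonoidHom.mk' (fun ν => evd V ν (e k)) fun a b => isBil_evd.add_left V a b _) _ _).trans ?_
    rw [Finset.sum_eq_single k]
    · show evd V (f (c k) • dualB he k) (e k) = f (c k)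
      rw [isBil_evd.smul_left, hd, Pi.single_eq_same]
      exact mul_one _
    · intro j _ hj
      show evd V (f (c j) • dualB he j) (e k) = 0
      rw [isBil_evd.smul_left, hd, Pi.single_eq_of_ne hj]
      exact mul_zero _
    · exact fun hk => (hk (Finset.mem_univ k)).elim

theorem isPullback_chart {V : U.Opens} (hV : IsAffineOpen V) :
    IsPullback ((P.alg hE hD).ι V hV) (Spec.map (CommRingCat.ofHom (P.aStr hE hD V))) (P.alg hE hD).π
      hV.fromSpec := by
  refine (IsOpenImmersion.isPullback _ _ _ _ ((P.alg hE hD).ι_π V hV) ?_).flip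
  rw [hV.opensRange_fromSpec]
  exact (P.alg hE hD).π_preimage V hV

include hE hD in
/-- The relative spectrum is finite étale. -/
theorem finite_etale_π : IsFinite (P.alg hE hD).π ∧ AlgebraicGeometry.Etale (P.alg hE hD).π := by
  choose V m e hV hxV _ he using fun x : U => Groth.L19.ProjBdl.exists_basisOn hE x ⊤ trivial
  have hW : ∀ x, (FEt.prop : MorphismProperty Scheme.{u})
      (Spec.map (CommRingCat.ofHom (P.aStr hE hD (V x)))) := fun x => by
    letI := P.algA hE hD (V x)
    haveI := P.etale_sec hE hD (hV x) (he x)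
    haveI : Module.Finite Γ(U, V x) (P.ASec hE hD (V x)) := Module.Finite.of_basis (P.basisA hE hD (he x))
    exact ⟨(IsFinite.SpecMap_iff _).mpr (RingHom.finite_algebraMap.mpr inferInstance),
      (HasRingHomProperty.Spec_iff (P := @AlgebraicGeometry.Etale)).mpr
        (RingHom.etale_algebraMap.mpr inferInstance)⟩
  let 𝒰 : U.OpenCover := {
    I₀ := U
    X := fun x => Spec Γ(U, V x)
    f := fun x => (hV x).fromSpec
    mem₀ := by
      rw [Scheme.presieve₀_mem_precoverage_iff]
      exact ⟨fun z => ⟨z, by rw [← Scheme.Hom.coe_opensRange, (hV z).opensRange_fromSpec]; exact hxV z⟩,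
        fun x => inferInstance⟩ }
  constructor
  · refine IsZariskiLocalAtTarget.of_openCover (P := @IsFinite) 𝒰 fun x => ?_
    have h := P.isPullback_chart hE hD (hV x)
    refine (MorphismProperty.arrow_mk_iso_iff @IsFinite ?_).mp (hW x).1
    exact Arrow.isoMk h.isoPullback (Iso.refl _) (by exact h.isoPullback_hom_snd.trans (Category.comp_id _).symm)
  · refine IsZariskiLocalAtTarget.of_openCover (P := @AlgebraicGeometry.Etale) 𝒰 fun x => ?_
    have h := P.isPullback_chart hE hD (hV x)
    refine (MorphismProperty.arrow_mk_iso_iff @AlgebraicGeometry.Etale ?_).mp (hW x).2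
    exact Arrow.isoMk h.isoPullback (Iso.refl _) (by exact h.isoPullback_hom_snd.trans (Category.comp_id _).symm)

/-- The reduction as a map of algebras. -/
def redHom : P.alg hE hD ⟶ RelSpec.QCAlg.directImage (C.r 0) where
  hom :=
    { app := fun W => CommRingCat.ofHom (P.vRing hE hD 0 W.unop)
      naturality := fun W W' i => by
        refine CommRingCat.hom_ext (RingHom.ext fun a => ?_)
        exact P.vS_rs 0 i.unop.le a }
  comm := by
    ext W r
    exact P.vRing_str hE hD 0 W r

/-- The special fibre mapped into the cover. -/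
def q : C.R 0 ⟶ (P.alg hE hD).spec :=
  Groth.L16.QAffFactor.toHull (C.r 0) ≫ RelSpec.QCAlg.specMap (P.redHom hE hD)

theorem q_π : P.q hE hD ≫ (P.alg hE hD).π = C.r 0 := by
  rw [q, Category.assoc, RelSpec.QCAlg.specMap_π]
  exact Groth.L16.QAffFactor.toHull_π (C.r 0)

theorem fromSpec_q {V : U.Opens} (hV : IsAffineOpen V) (hR : IsAffineOpen (C.r 0 ⁻¹ᵁ V)) :
    hR.fromSpec ≫ P.q hE hD =
      Spec.map (CommRingCat.ofHom (P.vRing hE hD 0 V)) ≫ (P.alg hE hD).ι V hV := by
  have h : (C.r 0 ⁻¹ᵁ V).ι ≫ P.q hE hD =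
      (C.r 0 ⁻¹ᵁ V).toSpecΓ ≫ Spec.map (CommRingCat.ofHom (P.vRing hE hD 0 V)) ≫ (P.alg hE hD).ι V hV := by
    rw [q, ← Category.assoc, Groth.L16.QAffFactor.ι_toHull (C.r 0) ⟨V, hV⟩, Category.assoc,
      RelSpec.QCAlg.ι_specMap]
    rfl
  rw [← hR.toSpecΓ_fromSpec, Category.assoc] at h
  haveI : IsIso (C.r 0 ⁻¹ᵁ V).toSpecΓ := by rw [← hR.isoSpec_hom]; infer_instance
  exact (cancel_epi _).1 h

theorem isPushout_chart {m : ℕ} {V : U.Opens} {e : Fin m → Γ(E, V)} (he : IsBasisOn E V e) :
    IsPushout (CommRingCat.ofHom (P.aStr hE hD V)) (CommRingCat.ofHom (C.qA 0 V))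
      (CommRingCat.ofHom (P.vRing hE hD 0 V)) (CommRingCat.ofHom (C.pA 0 V)) := by
  letI := P.algA hE hD V
  letI := C.algB 0 V
  letI : Algebra Γ(U, V) (C.A 0 V) := (C.qA 0 V).toAlgebra
  letI : Algebra Γ(U, V) (C.B 0 V) := (C.qB 0 V).toAlgebra
  letI : Algebra (P.ASec hE hD V) (C.B 0 V) := (P.vRing hE hD 0 V).toAlgebra
  haveI : IsScalarTower Γ(U, V) (P.ASec hE hD V) (C.B 0 V) :=
    IsScalarTower.of_algebraMap_eq fun r => (P.vRing_str hE hD 0 V r).symm
  haveI : IsScalarTower Γ(U, V) (C.A 0 V) (C.B 0 V) := IsScalarTower.of_algebraMap_eq fun r => C.qB_eq 0 V r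
  have hf := P.v_frame 0 m V e he
  haveI : Algebra.IsPushout Γ(U, V) (C.A 0 V) (P.ASec hE hD V) (C.B 0 V) :=
    isPushout_of_basis (P.basisA hE hD he) (Cover.IsFrame.basis C 0 hf) fun j => by
      rw [Cover.IsFrame.basis_apply C 0 hf j, basisA_apply]
      rfl
  exact (CommRingCat.isPushout_of_isPushout Γ(U, V) (C.A 0 V) (P.ASec hE hD V) (C.B 0 V)).flip

include hE hD in
/-- The special fibre is the pullback of the cover. -/
theorem isPullback_q : IsPullback (P.q hE hD) (C.p 0) (P.alg hE hD).π (lι 𝓙 0) := by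
  let T := pullback (P.alg hE hD).π (lι 𝓙 0)
  let θ : C.R 0 ⟶ T := pullback.lift (P.q hE hD) (C.p 0) (P.q_π hE hD)
  suffices IsIso θ from IsPullback.of_iso_pullback ⟨P.q_π hE hD⟩ (asIso θ) (by simp [θ]) (by simp [θ])
  choose V m e hV hxV _ he using fun x : U => Groth.L19.ProjBdl.exists_basisOn hE x ⊤ trivial
  let hA := fun x => C.affine_pre 0 (hV x)
  have hR := fun x => (hA x).preimage (C.p 0)
  -- the pieces
  have hfac : ∀ x, Spec.map (CommRingCat.ofHom (C.qA 0 (V x))) ≫ (hV x).fromSpec = (hA x).fromSpec ≫ lι 𝓙 0 :=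
    fun x => by
      rw [← IsAffineOpen.SpecMap_appLE_fromSpec (lι 𝓙 0) (hV x) (hA x) le_rfl, ← Scheme.Hom.app_eq_appLE]
      rfl
  have hPsq : ∀ x, IsPullback (Spec.map (CommRingCat.ofHom (P.vRing hE hD 0 (V x))) ≫ (P.alg hE hD).ι (V x) (hV x))
      (Spec.map (CommRingCat.ofHom (C.pA 0 (V x)))) (P.alg hE hD).π ((hA x).fromSpec ≫ lι 𝓙 0) := fun x => by
    rw [← hfac]
    exact (isPullback_SpecMap_of_isPushout _ _ _ _ (P.isPushout_chart hE hD (he x))).paste_horiz
      (P.isPullback_chart hE hD (hV x))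
  have hRsq : ∀ x, IsPullback (hR x).fromSpec (Spec.map (CommRingCat.ofHom (C.pA 0 (V x)))) (C.p 0)
      (hA x).fromSpec := fun x => by
    refine (IsOpenImmersion.isPullback _ _ _ _ ?_ ?_).flip
    · rw [← IsAffineOpen.SpecMap_appLE_fromSpec (C.p 0) (hA x) (hR x) le_rfl, ← Scheme.Hom.app_eq_appLE]
      rfl
    · rw [(hA x).opensRange_fromSpec, (hR x).opensRange_fromSpec]
  let 𝒵 : (lvl 𝓙 0).OpenCover := {
    I₀ := U
    X := fun x => Spec Γ(lvl 𝓙 0, lι 𝓙 0 ⁻¹ᵁ V x)
    f := fun x => (hA x).fromSpec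
    mem₀ := by
      rw [Scheme.presieve₀_mem_precoverage_iff]
      refine ⟨fun z => ⟨lι 𝓙 0 z, ?_⟩, fun x => inferInstance⟩
      rw [← Scheme.Hom.coe_opensRange, (hA _).opensRange_fromSpec]
      exact hxV _ }
  refine IsZariskiLocalAtTarget.of_openCover (P := MorphismProperty.isomorphisms Scheme)
    (𝒵.pullback₁ (pullback.snd (P.alg hE hD).π (lι 𝓙 0))) fun x => ?_
  let s := pullback.snd (P.alg hE hD).π (lι 𝓙 0)
  let c := (hA x).fromSpec
  have hT : IsPullback (pullback.fst s c ≫ pullback.fst _ _) (pullback.snd s c) (P.alg hE hD).π (c ≫ lι 𝓙 0) :=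
    (IsPullback.of_hasPullback s c).paste_horiz (IsPullback.of_hasPullback (P.alg hE hD).π (lι 𝓙 0))
  let ω := (hPsq x).isoPullback ≪≫ hT.isoPullback.symm
  have hω1 : ω.hom ≫ pullback.fst s c ≫ pullback.fst _ _ =
      Spec.map (CommRingCat.ofHom (P.vRing hE hD 0 (V x))) ≫ (P.alg hE hD).ι (V x) (hV x) := by
    simp only [ω, Iso.trans_hom, Iso.symm_hom, Category.assoc, IsPullback.isoPullback_inv_fst]
    exact (hPsq x).isoPullback_hom_fst
  have hω2 : ω.hom ≫ pullback.snd s c = Spec.map (CommRingCat.ofHom (C.pA 0 (V x))) := by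
    simp only [ω, Iso.trans_hom, Iso.symm_hom, Category.assoc, IsPullback.isoPullback_inv_snd]
    exact (hPsq x).isoPullback_hom_snd
  have hcomm : (hR x).fromSpec ≫ θ = ω.hom ≫ pullback.fst s c := by
    apply pullback.hom_ext
    · rw [Category.assoc, pullback.lift_fst, Category.assoc, hω1]
      exact P.fromSpec_q hE hD (hV x) _
    · rw [Category.assoc, pullback.lift_snd, Category.assoc, (hRsq x).w,
        show pullback.fst s c ≫ pullback.snd (P.alg hE hD).π (lι 𝓙 0) = pullback.snd s c ≫ c from pullback.condition,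
        reassoc_of% hω2]
  have hsq : IsPullback (hR x).fromSpec ω.hom θ (pullback.fst s c) := by
    refine IsPullback.of_bot ?_ hcomm (IsPullback.of_hasPullback s c)
    rw [hω2, show θ ≫ s = C.p 0 from pullback.lift_snd _ _ _]
    exact hRsq x
  show IsIso (pullback.snd θ (pullback.fst s c))
  rw [← hsq.isoPullback_inv_snd]
  infer_instance

include P hE hD in
/-- The formal cover comes from a finite étale cover. -/
theorem exists_cover : ∃ (W : Scheme.{u}) (g : W ⟶ U) (q : C.R 0 ⟶ W),
    IsFinite g ∧ AlgebraicGeometry.Etale g ∧ IsPullback q (C.p 0) g (lι 𝓙 0) :=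
  ⟨_, (P.alg hE hD).π, P.q hE hD, (P.finite_etale_π hE hD).1, (P.finite_etale_π hE hD).2, P.isPullback_q hE hD⟩

end Pres

end Groth.L13.FEtLeff
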