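import Groth.Agent.L13.FEtLeff.Kills
import Groth.Agent.L13.FEtLeff.PushoutOpen
import Groth.Agent.L29.Dual.FiniteType
import Groth.Agent.S9405

/-! Covers near a hypersurface of a punctured spectrum, reducing to a nonzerodivisor. -/

set_option autoImplicit false
set_option linter.style.haveILetI false
set_option linter.unusedSectionVars false
set_option backward.isDefEq.respectTransparency false
set_option backward.isDefEq.respectTransparency.types false

universe u

open CategoryTheory CategoryTheory.Limits AlgebraicGeometry TopologicalSpace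
open IsLocalRing (maximalIdeal closedPoint)
open Groth.L09.Patch (sp)
open Groth.L20.Pinch (IsFib)

attribute [local instance] HasDerivedCategory.standard

noncomputable section

namespace Groth.L13.FEtLeff

/-- Extension on the fibre product gives extension on the closed subscheme of the open. -/
theorem exists_extension_subscheme {A : Type u} [CommRing A] (I : Ideal A) (U : (Spec (CommRingCat.of A)).Opens)
    (h : ∀ V₀ : FEt.Cat (pullback U.ι (Spec.map (CommRingCat.ofHom (Ideal.Quotient.mk I)))),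
      ∃ (U' : (Spec (CommRingCat.of A)).Opens) (_ : U' ≤ U)
        (u' : pullback U.ι (Spec.map (CommRingCat.ofHom (Ideal.Quotient.mk I))) ⟶ (U' : Scheme.{u}))
        (_ : u' ≫ U'.ι = pullback.fst U.ι (Spec.map (CommRingCat.ofHom (Ideal.Quotient.mk I))) ≫ U.ι)
        (V' : FEt.Cat (U' : Scheme.{u})), Nonempty ((FEt.restrict u').obj V' ≅ V₀))
    (R : FEt.Cat ((FSch.idealSpec A I).comap U.ι).subscheme) :
    ∃ (V : (U : Scheme.{u}).Opens) (W : FEt.Cat (V : Scheme.{u})),
      (((FSch.idealSpec A I).comap U.ι).support : Set (U : Scheme.{u})) ⊆ (V : Set (U : Scheme.{u})) ∧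
      ∀ i : ((FSch.idealSpec A I).comap U.ι).subscheme ⟶ (V : Scheme.{u}),
        i ≫ V.ι = ((FSch.idealSpec A I).comap U.ι).subschemeι → Nonempty ((FEt.restrict i).obj W ≅ R) := by
  let q := Spec.map (CommRingCat.ofHom (Ideal.Quotient.mk I))
  haveI : IsClosedImmersion q := IsClosedImmersion.spec_of_surjective _ Ideal.Quotient.mk_surjective
  let p := pullback.fst U.ι q
  have hk : p.ker = (FSch.idealSpec A I).comap U.ι := Scheme.IdealSheafData.ker_fst_of_isClosedImmersion _ _
  revert R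
  rw [← hk]
  intro R
  haveI := Groth.L16.PureQuot.isEquivalence_of_isIso p.toImage
  obtain ⟨U', hU', u', hu', V', ⟨e⟩⟩ := h ((FEt.restrict p.toImage).obj R)
  let V : (U : Scheme.{u}).Opens := U.ι ⁻¹ᵁ U'
  let j : (V : Scheme.{u}) ⟶ (U' : Scheme.{u}) := U.ι ∣_ U'
  refine ⟨V, (FEt.restrict j).obj V', ?_, fun i hi => ?_⟩
  · rw [Scheme.Hom.support_ker, p.isClosedEmbedding.isClosed_range.closure_eq]
    rintro _ ⟨z, rfl⟩
    show U.ι (p z) ∈ U'
    rw [← Scheme.Hom.comp_apply, ← hu', Scheme.Hom.comp_apply]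
    exact (u' z).2
  · have hfac : p.toImage ≫ (i ≫ j) = u' := by
      rw [← cancel_mono U'.ι, Category.assoc, Category.assoc, morphismRestrict_ι, reassoc_of% hi, hu', ← Category.assoc]
      exact congrArg (· ≫ U.ι) p.toImage_imageι
    exact ⟨(FEt.restrict p.toImage).preimageIso
      ((FEt.restrict p.toImage).mapIso ((restrictFacIso (rfl : i ≫ j = _)).app V').symm ≪≫
        ((restrictFacIso hfac).app V').symm ≪≫ e)⟩

/-- Extension near a hypersurface of the punctured spectrum under the depth condition off the hypersurface. -/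
theorem exists_extension_of_dualizing {A : Type u} [CommRing A] [IsNoetherianRing A] [IsLocalRing A] (f : A)
    (hf : f ∈ maximalIdeal A) (hd : ∃ ω : Dual.D A, Dual.IsDualizing A ω) [IsAdicComplete (Ideal.span {f}) A]
    (hc : ∀ p : Ideal A, ∀ _ : p.IsPrime, f ∉ p → (p ⊔ Ideal.span {f}).radical ≠ maximalIdeal A →
      (3 : WithBot ℕ∞) < (LocCoh.depth (Localization.AtPrime p) (Localization.AtPrime p) : WithBot ℕ∞) + ringKrullDim (A ⧸ p))
    (V₀ : FEt.Cat (pullback (FEt.puncturedSpec A).ι (Spec.map (CommRingCat.ofHom (Ideal.Quotient.mk (Ideal.span {f})))))) :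
    ∃ (U' : (Spec (CommRingCat.of A)).Opens) (_ : U' ≤ FEt.puncturedSpec A)
      (u' : pullback (FEt.puncturedSpec A).ι (Spec.map (CommRingCat.ofHom (Ideal.Quotient.mk (Ideal.span {f})))) ⟶ (U' : Scheme.{u}))
      (_ : u' ≫ U'.ι = pullback.fst (FEt.puncturedSpec A).ι (Spec.map (CommRingCat.ofHom (Ideal.Quotient.mk (Ideal.span {f})))) ≫ (FEt.puncturedSpec A).ι)
      (V' : FEt.Cat (U' : Scheme.{u})), Nonempty ((FEt.restrict u').obj V' ≅ V₀) := by
  -- the bounded torsion
  obtain ⟨N₀, hN₀⟩ := monotone_stabilizes_iff_noetherian.2 (inferInstance : IsNoetherian A A)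
    ⟨fun k => LinearMap.ker (f ^ k • (LinearMap.id : A →ₗ[A] A)), monotone_nat_of_le_succ fun k x hx => by
      change f ^ k • x = 0 at hx
      change f ^ (k + 1) • x = 0
      rw [pow_succ', mul_smul, hx, smul_zero]⟩
  let N := N₀ + 1
  have hN : ∀ (k : ℕ) (x : A), f ^ k * x = 0 → f ^ N * x = 0 := fun k x hx => by
    have hN' : ∀ k, N₀ ≤ k → ∀ y : A, f ^ k • y = 0 → f ^ N₀ • y = 0 := fun k hk y hy =>
      (SetLike.ext_iff.1 (hN₀ k hk) y).2 hy
    have h1 : f ^ (N₀ + k) • x = 0 := by rw [smul_eq_mul, pow_add, mul_assoc, hx, mul_zero]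
    have h2 := hN' _ (Nat.le_add_right _ _) x h1
    rw [smul_eq_mul] at h2
    rw [show N = N₀ + 1 from rfl, pow_succ', mul_assoc, h2, mul_zero]
  let T : Ideal A := LinearMap.ker (f ^ N • (LinearMap.id : A →ₗ[A] A))
  have hT : ∀ {x : A}, x ∈ T ↔ f ^ N * x = 0 := fun {x} => Iff.rfl
  rcases eq_or_ne T ⊤ with hTtop | hTtop
  · -- `f` is nilpotent: the trace is the whole open
    have hnil : Ideal.span {f} ≤ nilradical A := (Ideal.span_singleton_le_iff_mem _).2
      ⟨N, by simpa using hT.1 (hTtop ▸ trivial : (1 : A) ∈ T)⟩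
    let q := Spec.map (CommRingCat.ofHom (Ideal.Quotient.mk (Ideal.span {f})))
    haveI : IsClosedImmersion q := IsClosedImmersion.spec_of_surjective _ Ideal.Quotient.mk_surjective
    haveI : Surjective q := ⟨fun p => by
      have : (p : PrimeSpectrum A) ∈ Set.range (PrimeSpectrum.comap (Ideal.Quotient.mk (Ideal.span {f}))) := by
        rw [range_comap_of_surjective _ _ Ideal.Quotient.mk_surjective, Ideal.mk_ker]
        exact hnil.trans (nilradical_le_prime (p : PrimeSpectrum A).asIdeal)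
      exact this⟩
    haveI := Groth.Agent.S0238.result (pullback.fst (FEt.puncturedSpec A).ι q)
    obtain ⟨E, ⟨e⟩⟩ := Functor.EssSurj.mem_essImage (F := FEt.restrict (pullback.fst (FEt.puncturedSpec A).ι q)) V₀
    exact ⟨_, le_rfl, pullback.fst _ _, rfl, E, ⟨e⟩⟩
  let A' := A ⧸ T
  let mk : A →+* A' := Ideal.Quotient.mk T
  haveI : IsLocalRing A' := Groth.L01.isLocalRing_quotient hTtop
  have hmkm : (maximalIdeal A).map mk = maximalIdeal A' :=
    IsLocalRing.map_maximalIdeal_of_surjective _ Ideal.Quotient.mk_surjective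
  have hmem_of : ∀ p : PrimeSpectrum A', (PrimeSpectrum.comap mk p).asIdeal = maximalIdeal A ↔ p.asIdeal = maximalIdeal A' :=
    fun p => by
    refine ⟨fun h => ?_, fun h => ?_⟩
    · rw [← Ideal.map_comap_of_surjective mk Ideal.Quotient.mk_surjective p.asIdeal, ← hmkm]
      exact congrArg (Ideal.map mk) h
    · refine ((IsLocalRing.maximalIdeal.isMaximal A).eq_of_le (PrimeSpectrum.comap mk p).2.ne_top ?_).symm
      exact Ideal.map_le_iff_le_comap.1 (hmkm.trans h.symm).le
  let f' := mk f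
  -- the nonzerodivisor
  have hnzd : f' ∈ nonZeroDivisors A' := mem_nonZeroDivisors_iff_right.2 (fun x hx => by
    obtain ⟨x, rfl⟩ := Ideal.Quotient.mk_surjective x
    have h1 : f * x ∈ T := Ideal.Quotient.eq_zero_iff_mem.1 (by rw [map_mul, mul_comm]; exact hx)
    refine Ideal.Quotient.eq_zero_iff_mem.2 (hT.2 (hN (N + 1) x ?_))
    rw [pow_succ, mul_assoc]
    exact hT.1 h1)
  haveI : IsAdicComplete (Ideal.span {f'}) A' := by
    haveI : IsAdicComplete (Ideal.span {f}) A' := Groth.Agent.S9405.isAdicComplete_of_finite _ A'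
    have := (IsAdicComplete.map_algebraMap_iff (I := Ideal.span {f}) (S := A') (M := A')).mpr ‹_›
    rwa [Ideal.map_span, Set.image_singleton] at this
  have hd' : ∃ ω : Dual.D A', Dual.IsDualizing A' ω :=
    Groth.L29.FlatBC.exists_dualizing_of_surjective mk Ideal.Quotient.mk_surjective hd
  have h₆ : ∀ (p : Ideal A') [p.IsPrime], f' ∉ p →
      (∃ r : Ideal A', r.IsPrime ∧ p ≤ r ∧ f' ∈ r ∧ r ≠ maximalIdeal A') →
      (3 : WithBot ℕ∞) < ((LocCoh.depth (Localization.AtPrime p) (Localization.AtPrime p) : ℕ∞) : WithBot ℕ∞) +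
        ringKrullDim (A' ⧸ p) := by
    intro p hp hfp hr
    let P := p.comap mk
    have hfP : f ∉ P := hfp
    have hrad : (P ⊔ Ideal.span {f}).radical ≠ maximalIdeal A := by
      obtain ⟨r, hr1, hr2, hr3, hr4⟩ := hr
      exact (exists_prime_of_radical_ne (inferInstance : P.IsPrime) hf).2 ⟨r.comap mk, inferInstance,
        Ideal.comap_mono hr2, hr3, fun e => hr4 ((hmem_of ⟨r, hr1⟩).1 e)⟩
    have h3 := hc P inferInstance hfP hrad
    have hmk : Function.Surjective mk := Ideal.Quotient.mk_surjective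
    haveI : IsNoetherianRing (Localization.AtPrime P) := IsLocalization.isNoetherianRing P.primeCompl _ inferInstance
    let g : Localization.AtPrime P →+* Localization.AtPrime p := Localization.localRingHom P p mk rfl
    have hg : Function.Bijective g := by
      refine ⟨(injective_iff_map_eq_zero g).2 fun z hz => ?_, fun z => ?_⟩
      · obtain ⟨a, s, rfl⟩ := IsLocalization.exists_mk'_eq P.primeCompl z
        rw [Localization.localRingHom_mk', IsLocalization.mk'_eq_zero_iff] at hz
        obtain ⟨⟨t, ht⟩, hta⟩ := hz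
        obtain ⟨t, rfl⟩ := hmk t
        rw [← map_mul, Ideal.Quotient.eq_zero_iff_mem, hT] at hta
        exact IsLocalization.mk'_eq_zero_iff _ _ |>.2 ⟨⟨f ^ N * t, fun hm =>
          ((Ideal.IsPrime.mem_or_mem (inferInstance : P.IsPrime) hm).elim
            (fun h => hfP (Ideal.IsPrime.mem_of_pow_mem (inferInstance : P.IsPrime) N h)) (fun h => ht h))⟩,
          by rw [mul_assoc]; exact hta⟩
      · obtain ⟨a, ⟨s, hs⟩, rfl⟩ := IsLocalization.exists_mk'_eq p.primeCompl z
        obtain ⟨a, rfl⟩ := hmk a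
        obtain ⟨s, rfl⟩ := hmk s
        exact ⟨IsLocalization.mk' _ a (⟨s, hs⟩ : P.primeCompl), Localization.localRingHom_mk' _ _ _ _ _ _⟩
    rw [Groth.L06.FlatFibre.depth_eq_of_ringEquiv (RingEquiv.ofBijective g hg)]
    rw [ringKrullDim_eq_of_ringEquiv (RingEquiv.ofBijective (Ideal.quotientMap p mk le_rfl)
      ⟨Ideal.quotientMap_injective, Ideal.quotientMap_surjective hmk⟩)] at h3
    exact h3
  -- the square
  let J : Ideal A := Ideal.span {f ^ N}
  have hTJ : ∀ x, x ∈ T → x ∈ J → x = 0 := fun x hx hxJ => by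
    obtain ⟨y, rfl⟩ := Ideal.mem_span_singleton.1 hxJ
    have := hN (N + N) y (by rw [pow_add, mul_assoc]; exact hT.1 hx)
    exact this
  let K : Ideal A' := Ideal.span {f' ^ N}
  have hJK : J ≤ K.comap mk := (Ideal.span_singleton_le_iff_mem _).2 (by
    show mk (f ^ N) ∈ K
    rw [map_pow]; exact Ideal.mem_span_singleton_self _)
  have hfib : IsFib mk (Ideal.Quotient.mk J) (Ideal.Quotient.mk K) (Ideal.quotientMap K mk hJK) := by
    refine ⟨(Ideal.quotientMap_comp_mk hJK).symm, fun t h1 h2 =>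
      hTJ t (Ideal.Quotient.eq_zero_iff_mem.1 h1) (Ideal.Quotient.eq_zero_iff_mem.1 h2), fun x y hxy => ?_, fun z => ?_⟩
    · obtain ⟨a, rfl⟩ := Ideal.Quotient.mk_surjective x
      obtain ⟨b, rfl⟩ := Ideal.Quotient.mk_surjective y
      rw [Ideal.quotientMap_mk, Ideal.Quotient.eq] at hxy
      obtain ⟨c, hc⟩ := Ideal.mem_span_singleton.1 hxy
      obtain ⟨c, rfl⟩ := Ideal.Quotient.mk_surjective c
      refine ⟨b + f ^ N * c, ?_, ?_⟩
      · rw [map_add, map_mul, map_pow, ← hc, add_sub_cancel]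
      · rw [map_add, Ideal.Quotient.eq_zero_iff_mem.2 (Ideal.mul_mem_right c J (Ideal.mem_span_singleton_self _)), add_zero]
    · obtain ⟨z, rfl⟩ := Ideal.Quotient.mk_surjective z
      obtain ⟨z, rfl⟩ := Ideal.Quotient.mk_surjective z
      exact ⟨Ideal.Quotient.mk J z, Ideal.quotientMap_mk⟩
  have hnil : ∀ {B : Type u} [CommRing B] (b : B) (n : ℕ) (h : Ideal.span {b ^ n} ≤ Ideal.span {b}),
      RingHom.ker (Ideal.Quotient.factor h) ≤ nilradical (B ⧸ Ideal.span {b ^ n}) := by
    intro B _ b n h z hz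
    obtain ⟨z, rfl⟩ := Ideal.Quotient.mk_surjective z
    rw [RingHom.mem_ker, Ideal.Quotient.factor_mk, Ideal.Quotient.eq_zero_iff_mem, Ideal.mem_span_singleton] at hz
    obtain ⟨c, rfl⟩ := hz
    refine ⟨n, ?_⟩
    show _ = (0 : B ⧸ Ideal.span {b ^ n})
    rw [← map_pow, Ideal.Quotient.eq_zero_iff_mem, mul_pow]
    exact Ideal.mul_mem_right _ _ (Ideal.mem_span_singleton_self _)
  have hle : J ≤ Ideal.span {f} := (Ideal.span_singleton_le_span_singleton).2 (dvd_pow_self f (Nat.succ_ne_zero _))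
  have hle' : K ≤ Ideal.span {f'} := (Ideal.span_singleton_le_span_singleton).2 (dvd_pow_self f' (Nat.succ_ne_zero _))
  have hU1 : sp mk ⁻¹ᵁ FEt.puncturedSpec A = FEt.puncturedSpec A' := by
    refine TopologicalSpace.Opens.ext (Set.ext fun p => not_congr ?_)
    exact ⟨fun h => PrimeSpectrum.ext ((hmem_of p).1 (congrArg PrimeSpectrum.asIdeal h)),
      fun h => PrimeSpectrum.ext ((hmem_of p).2 (congrArg PrimeSpectrum.asIdeal h))⟩
  refine exists_extension_glue hfib Ideal.Quotient.mk_surjective (Ideal.Quotient.mk (Ideal.span {f}))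
    (Ideal.Quotient.factor hle) (Ideal.Quotient.factor_surjective hle) (hnil f N hle) (Ideal.Quotient.factor_comp_mk hle)
    (Ideal.Quotient.mk (Ideal.span {f'})) (Ideal.Quotient.factor hle') (Ideal.Quotient.factor_surjective hle')
    (hnil f' N hle') (Ideal.Quotient.factor_comp_mk hle') (FEt.puncturedSpec A) ?_ V₀
  exact exists_extension_pullback (Ideal.span {f'}) (sp mk ⁻¹ᵁ FEt.puncturedSpec A) fun R =>
    exists_extension_of_hSix (A := A') (f := f') hd' hnzd _ (hU1.trans (eq_puncturedOpen A')) h₆ R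

/-- Either form of the hypothesis gives the depth condition. -/
theorem depth_condition {A : Type u} [CommRing A] [IsNoetherianRing A] [IsLocalRing A] (f : A)
    (hf : f ∈ maximalIdeal A) (hd : ∃ ω : Dual.D A, Dual.IsDualizing A ω)
    (hc : ((LocCoh.HasSk 2 (Localization.Away f) (Localization.Away f) ∧
        ∀ p : Ideal A, p ∈ minimalPrimes A → f ∉ p → (4 : WithBot ℕ∞) ≤ ringKrullDim (A ⧸ p)) ∨
      (∀ p : Ideal A, ∀ _ : p.IsPrime, f ∉ p → (p ⊔ Ideal.span {f}).radical ≠ maximalIdeal A →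
        (3 : WithBot ℕ∞) < (LocCoh.depth (Localization.AtPrime p) (Localization.AtPrime p) : WithBot ℕ∞) + ringKrullDim (A ⧸ p)))) :
    ∀ p : Ideal A, ∀ _ : p.IsPrime, f ∉ p → (p ⊔ Ideal.span {f}).radical ≠ maximalIdeal A →
      (3 : WithBot ℕ∞) < (LocCoh.depth (Localization.AtPrime p) (Localization.AtPrime p) : WithBot ℕ∞) + ringKrullDim (A ⧸ p) :=
  hc.elim (fun h p hp hfp hr => depth_add_dim_gt_three f hf hd h.1 h.2 p hp hfp
    ((exists_prime_of_radical_ne hp hf).1 hr)) id

end Groth.L13.FEtLeff
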