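import Groth.Agent.S3362
import Groth.Agent.L01.CompletionReg
import Groth.Agent.L01.Regular
import Groth.Agent.L21.Smooth.EtaleRegular
import Groth.Agent.L27.EtaleLift
import Groth.Agent.L04.LC.Codim
import Groth.Agent.L27.PuncExtend.Dense
import Groth.Prelude.Def_FEt
import Mathlib.RingTheory.Localization.Algebra
import Mathlib.RingTheory.RingHom.Surjective
import Mathlib.RingTheory.AdicCompletion.AsTensorProduct

/-! Connectedness of punctured spectra of etale algebras over rings of virtual dimension at least two. -/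

set_option autoImplicit false
set_option maxSynthPendingDepth 3
set_option linter.style.haveILetI false

universe u

open IsLocalRing TensorProduct PrimeSpectrum Groth.L04.Canon Groth.L10.FormCat

noncomputable section

namespace Groth.L13.FEtLeff

/-- A punctured spectrum is connected if it is the image of a connected one. -/
theorem isConnected_punctured_of_map {B C : Type u} [CommRing B] [IsLocalRing B] [CommRing C] [IsLocalRing C]
    (g : B →+* C) [IsLocalHom g] (hmax : (maximalIdeal B).map g = maximalIdeal C)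
    (hsurj : Function.Surjective (PrimeSpectrum.comap g))
    (hC : _root_.IsConnected ({closedPoint C}ᶜ : Set (PrimeSpectrum C))) :
    _root_.IsConnected ({closedPoint B}ᶜ : Set (PrimeSpectrum B)) := by
  have h := hC.image (PrimeSpectrum.comap g) (PrimeSpectrum.continuous_comap g).continuousOn
  suffices he : PrimeSpectrum.comap g '' ({closedPoint C}ᶜ : Set (PrimeSpectrum C)) =
      ({closedPoint B}ᶜ : Set (PrimeSpectrum B)) by rwa [he] at h
  refine Set.Subset.antisymm ?_ fun p hp => ?_
  · rintro _ ⟨Q, hQ, rfl⟩ he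
    refine hQ (PrimeSpectrum.ext ((maximalIdeal.isMaximal C).eq_of_le Q.2.ne_top ?_).symm)
    rw [← hmax, Ideal.map_le_iff_le_comap]
    exact (congrArg PrimeSpectrum.asIdeal (Set.mem_singleton_iff.1 he)).ge
  · obtain ⟨Q, rfl⟩ := hsurj p
    refine ⟨Q, fun hQ => hp ?_, rfl⟩
    rw [Set.mem_singleton_iff.1 hQ]
    exact IsLocalRing.comap_closedPoint g

/-- The punctured spectrum of a quotient of a complete local domain of dimension `d` by at most
`d - 2` elements is connected. -/
theorem isConnected_punctured_quot_of_domain (S : Type u) [CommRing S] [IsDomain S] [IsNoetherianRing S]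
    [IsLocalRing S]
    [IsAdicComplete (maximalIdeal S) S] {d m : ℕ} (hd : ringKrullDim S = d) (hm : m + 2 ≤ d) (f : Fin m → S)
    (hf : ∀ i, f i ∈ maximalIdeal S) [IsLocalRing (S ⧸ Ideal.span (Set.range f))] :
    _root_.IsConnected ({closedPoint (S ⧸ Ideal.span (Set.range f))}ᶜ :
      Set (PrimeSpectrum (S ⧸ Ideal.span (Set.range f)))) := by
  let η : PrimeSpectrum S := ⟨⊥, Ideal.bot_prime⟩
  have hqd : qd η = d := by
    have h := dim_quot η
    rw [show ringKrullDim (S ⧸ η.asIdeal) = d from
      (ringKrullDim_eq_of_ringEquiv (RingEquiv.quotientBot S)).trans hd] at h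
    exact_mod_cast h.symm
  have hη : η ≠ closedPoint S := fun e => by
    rw [e, qd_closedPoint] at hqd
    omega
  have hgen : ∀ z : PrimeSpectrum S, η ⤳ z := fun z => (le_iff_specializes η z).1 bot_le
  have hpre : ∀ V : Set ↥(FEt.puncturedSpec S), IsOpen V → V.Nonempty → IsIrreducible V ∧
      (⟨η, hη⟩ : ↥(FEt.puncturedSpec S)) ∈ V := fun V hV ⟨z, hz⟩ => by
    have hspec : ∀ z : ↥(FEt.puncturedSpec S), (⟨η, hη⟩ : ↥(FEt.puncturedSpec S)) ⤳ z := fun z =>
      ((isEmbedding_puncVal S).isInducing.specializes_iff).1 (hgen z.1)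
    have hmem : (⟨η, hη⟩ : ↥(FEt.puncturedSpec S)) ∈ V := (hspec z).mem_open hV hz
    refine ⟨⟨⟨z, hz⟩, fun U U' hU hU' ⟨a, _, ha⟩ ⟨b, _, hb⟩ =>
      ⟨_, hmem, (hspec a).mem_open hU ha, (hspec b).mem_open hU' hb⟩⟩, hmem⟩
  have hirr := (hpre Set.univ isOpen_univ ⟨⟨η, hη⟩, trivial⟩).1
  have hconn : _root_.IsConnected (Set.univ : Set ↥(FEt.puncturedSpec (S ⧸ Ideal.span (Set.range f)))) := by
    rcases Nat.eq_zero_or_pos (d - 2) with hk | hk
    · obtain rfl : m = 0 := by omega
      have hI : Ideal.span (Set.range f) = ⊥ := by simp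
      haveI : IsDomain (S ⧸ Ideal.span (Set.range f)) := by
        rw [hI]
        exact (RingEquiv.quotientBot S).toMulEquiv.isDomain
      have hne : (⊥ : Ideal (S ⧸ Ideal.span (Set.range f))) ≠ maximalIdeal _ := fun e => by
        have h0 := maximalIdeal_height_eq_ringKrullDim (R := S ⧸ Ideal.span (Set.range f))
        rw [← e, Ideal.height_bot] at h0
        have h2 : ringKrullDim (S ⧸ Ideal.span (Set.range f)) = d := by
          rw [ringKrullDim_eq_of_ringEquiv ((Ideal.quotEquivOfEq hI).trans (RingEquiv.quotientBot S))]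
          exact hd
        rw [h2] at h0
        have : (0 : ℕ) = d := by exact_mod_cast h0
        omega
      let η' : ↥(FEt.puncturedSpec (S ⧸ Ideal.span (Set.range f))) :=
        ⟨⟨⊥, Ideal.bot_prime⟩, fun e => hne (congrArg PrimeSpectrum.asIdeal e)⟩
      exact ⟨⟨η', trivial⟩, isPreconnected_singleton.subset_closure (Set.subset_univ _) fun z _ =>
        specializes_iff_mem_closure.1 ((Topology.IsEmbedding.subtypeVal.isInducing.specializes_iff).1
          ((le_iff_specializes η'.1 z.1).1 bot_le))⟩
    · have hdim : ((d - 2 + 1 : ℕ) : WithBot ℕ∞) ≤ topologicalKrullDim ↥(FEt.puncturedSpec S) := by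
        rw [← (Homeomorph.Set.univ ↥(FEt.puncturedSpec S)).isHomeomorph.topologicalKrullDim_eq,
          ← dim_image_puncVal, Set.image_univ, range_puncVal]
        have he : ({closedPoint S}ᶜ : Set (PrimeSpectrum S)) = punct (⊥ : Ideal S) := by
          simp [punct, Set.compl_eq_univ_sdiff, PrimeSpectrum.zeroLocus_bot]
        rw [he]
        exact le_dim_punct (x := η) ⟨by simp [PrimeSpectrum.zeroLocus_bot], hη⟩ (by omega)
      have hb : LefX.ConnectedInDim ↥(FEt.puncturedSpec S) (d - 2) := fun Z hZ hdZ => by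
        refine (hpre Zᶜ hZ.isOpen_compl ?_).1.isConnected
        rw [Set.nonempty_compl]
        rintro rfl
        rw [(Homeomorph.Set.univ ↥(FEt.puncturedSpec S)).isHomeomorph.topologicalKrullDim_eq] at hdZ
        have := (hdim.trans hdZ.le)
        have : (d - 2 + 1 : ℕ) ≤ d - 2 := by exact_mod_cast this
        omega
      have h := (Groth.Agent.S3362.result S (d - 2) hk (fun Z hZ => by
        obtain rfl : Z = Set.univ := Set.Subset.antisymm (Set.subset_univ _) (hZ.2 hirr (Set.subset_univ _))
        rwa [(Homeomorph.Set.univ ↥(FEt.puncturedSpec S)).isHomeomorph.topologicalKrullDim_eq])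
        hb m (by omega) f hf).2 ∅ isClosed_empty (by
          haveI : IsEmpty (TopologicalSpace.IrreducibleCloseds
              ↥(∅ : Set ↥(FEt.puncturedSpec (S ⧸ Ideal.span (Set.range f))))) :=
            ⟨fun s => s.isIrreducible.nonempty.elim fun y _ => y.2⟩
          rw [topologicalKrullDim, Order.krullDim_eq_bot]
          exact WithBot.bot_lt_coe _)
      rwa [Set.compl_empty] at h
  have := hconn.image (puncVal _) (isEmbedding_puncVal _).continuous.continuousOn
  rwa [Set.image_univ, range_puncVal] at this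

/-- The punctured spectrum of a quotient of a complete regular local ring of dimension `d` by at most
`d - 2` elements is connected. -/
theorem isConnected_punctured_quot_of_complete (S : Type u) [CommRing S] [IsRegularLocalRing S]
    [IsAdicComplete (maximalIdeal S) S] {d m : ℕ} (hd : ringKrullDim S = d) (hm : m + 2 ≤ d) (f : Fin m → S)
    (hf : ∀ i, f i ∈ maximalIdeal S) [IsLocalRing (S ⧸ Ideal.span (Set.range f))] :
    _root_.IsConnected ({closedPoint (S ⧸ Ideal.span (Set.range f))}ᶜ :
      Set (PrimeSpectrum (S ⧸ Ideal.span (Set.range f)))) := by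
  haveI := Groth.L01.isDomain_of_regular S
  exact isConnected_punctured_quot_of_domain S hd hm f hf

/-- The punctured spectrum of a quotient of a regular local ring of dimension `d` by at most `d - 2`
elements is connected. -/
theorem isConnected_punctured_of_surjective {S C : Type u} [CommRing S] [IsRegularLocalRing S]
    [CommRing C] [IsLocalRing C] {d : ℕ} (hd : ringKrullDim S = d) (s : Finset S) (hs : s.card + 2 ≤ d)
    (q : S →+* C) (hq : Function.Surjective q) (hker : RingHom.ker q = Ideal.span (s : Set S)) :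
    _root_.IsConnected ({closedPoint C}ᶜ : Set (PrimeSpectrum C)) := by
  let Sh := AdicCompletion (maximalIdeal S) S
  haveI : IsNoetherianRing Sh := Groth.L01.AnalUnram.isNoetherianRing_completion S
  haveI : IsRegularLocalRing Sh := (Groth.L01.CompletionReg.isRegularLocalRing_iff_completion S).1 inferInstance
  haveI : IsAdicComplete (maximalIdeal Sh) Sh := inferInstance
  haveI hF : Module.FaithfullyFlat S Sh := Groth.L01.CompletionExt.faithfullyFlat S
  let j := algebraMap S Sh
  have hjm : (maximalIdeal S).map j = maximalIdeal Sh := Groth.L01.AnalUnram.completion_map_maximalIdeal S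
  have hdh : ringKrullDim Sh = d := (Groth.L01.CompletionReg.ringKrullDim_completion S).trans hd
  have hsm : ∀ x ∈ s, x ∈ maximalIdeal S := fun x hx => IsLocalRing.le_maximalIdeal (RingHom.ker_ne_top q)
    (hker.ge (Ideal.subset_span hx))
  let f : Fin s.card → Sh := fun i => j (s.equivFin.symm i : S)
  have hf : ∀ i, f i ∈ maximalIdeal Sh := fun i => hjm.le (Ideal.mem_map_of_mem j (hsm _ (Subtype.prop _)))
  have hspan : Ideal.span (Set.range f) = (RingHom.ker q).map j := by
    rw [hker, Ideal.map_span]
    congr 1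
    ext z
    exact ⟨fun ⟨i, hi⟩ => ⟨_, Subtype.prop _, hi⟩, fun ⟨x, hx, hz⟩ => ⟨s.equivFin ⟨x, hx⟩, by simp [f, hz]⟩⟩
  let C' := Sh ⧸ Ideal.span (Set.range f)
  have hne : Ideal.span (Set.range f) ≠ ⊤ := fun h => (maximalIdeal.isMaximal Sh).ne_top (top_le_iff.1
    (h.ge.trans (Ideal.span_le.2 (Set.range_subset_iff.2 hf))))
  haveI : Nontrivial C' := Ideal.Quotient.nontrivial_iff.2 hne
  haveI : IsLocalRing C' := IsLocalRing.of_surjective' (Ideal.Quotient.mk _) Ideal.Quotient.mk_surjective
  let π : Sh →+* C' := Ideal.Quotient.mk _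
  let g : C →+* C' := q.liftOfSurjective hq ⟨π.comp j, fun x hx => by
    show π (j x) = 0
    rw [Ideal.Quotient.eq_zero_iff_mem, hspan]
    exact Ideal.mem_map_of_mem j hx⟩
  have hg : g.comp q = π.comp j := q.liftOfRightInverse_comp _ _ _
  haveI := IsLocalHom.of_surjective q hq
  haveI : IsLocalHom π := IsLocalHom.of_surjective π Ideal.Quotient.mk_surjective
  have hgm : (maximalIdeal C).map g = maximalIdeal C' := by
    rw [← IsLocalRing.map_maximalIdeal_of_surjective q hq, Ideal.map_map, hg, ← Ideal.map_map, hjm,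
      IsLocalRing.map_maximalIdeal_of_surjective π Ideal.Quotient.mk_surjective]
  haveI : IsLocalHom g := by
    refine ((IsLocalRing.local_hom_TFAE g).out 2 0 (by rfl) (by rfl)).1 ?_
    rw [hgm]
  refine isConnected_punctured_of_map g hgm (fun p => ?_)
    (isConnected_punctured_quot_of_complete Sh hdh hs f hf)
  haveI := hF
  obtain ⟨Q, hQ⟩ := PrimeSpectrum.comap_surjective_of_faithfullyFlat (B := Sh) (PrimeSpectrum.comap q p)
  have hQk : Ideal.span (Set.range f) ≤ Q.asIdeal := by
    rw [hspan, Ideal.map_le_iff_le_comap]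
    intro x hx
    show x ∈ (PrimeSpectrum.comap j Q).asIdeal
    rw [hQ]
    show q x ∈ p.asIdeal
    rw [RingHom.mem_ker.1 hx]
    exact zero_mem _
  obtain ⟨Q', rfl⟩ : Q ∈ Set.range (PrimeSpectrum.comap π) := by
    rw [range_comap_of_surjective _ _ Ideal.Quotient.mk_surjective, Ideal.mk_ker]
    exact hQk
  refine ⟨Q', PrimeSpectrum.comap_injective_of_surjective q hq ?_⟩
  rw [← hQ, ← PrimeSpectrum.comap_comp_apply, ← PrimeSpectrum.comap_comp_apply, hg]

variable {A : Type u} [CommRing A] [IsLocalRing A]

/-- A ring over a Noetherian local ring of virtual dimension at least two: generizations of a point over the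
closed point cannot be separated by two disjoint opens of the punctured preimage. -/
theorem not_mem_closure_both (A' : Type u) [CommRing A'] [IsLocalRing A'] [Algebra A A'] [Module.FaithfullyFlat A A']
    (hmax : (maximalIdeal A).map (algebraMap A A') = maximalIdeal A')
    {S : Type u} [CommRing S] [IsRegularLocalRing S] {d : ℕ} (hd : ringKrullDim S = d) (s : Finset S)
    (hs : s.card + 2 ≤ d) (e : A' ≃+* S ⧸ Ideal.span (s : Set S))
    (B : Type u) [CommRing B] [Algebra A B] [Algebra.Etale A B]
    (x : PrimeSpectrum B) (hx : x.asIdeal.comap (algebraMap A B) = maximalIdeal A)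
    {C C' : Set (PrimeSpectrum B)} (hC : IsOpen C) (hC' : IsOpen C')
    (hcov : ∀ y, y.asIdeal.comap (algebraMap A B) ≠ maximalIdeal A → y ∈ C ∪ C')
    (hsub : ∀ y ∈ C ∪ C', y.asIdeal.comap (algebraMap A B) ≠ maximalIdeal A)
    (hdis : Disjoint C C') (η η' : PrimeSpectrum B) (hη : η ∈ C) (hη' : η' ∈ C')
    (hle : η.asIdeal ≤ x.asIdeal) (hle' : η'.asIdeal ≤ x.asIdeal) : False := by
  classical
  letI : Algebra (S ⧸ Ideal.span (s : Set S)) A' := e.symm.toRingHom.toAlgebra
  letI : Algebra S A' := (e.symm.toRingHom.comp (Ideal.Quotient.mk _)).toAlgebra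
  haveI : IsScalarTower S (S ⧸ Ideal.span (s : Set S)) A' := .of_algebraMap_eq' rfl
  have hSA : Function.Surjective (algebraMap S A') := e.symm.surjective.comp Ideal.Quotient.mk_surjective
  let e' : (S ⧸ Ideal.span (s : Set S)) ≃ₐ[S ⧸ Ideal.span (s : Set S)] A' :=
    AlgEquiv.ofRingEquiv (f := e.symm) fun _ => rfl
  let Bh := A' ⊗[A] B
  haveI : Algebra.Etale A' Bh := Algebra.Etale.baseChange A B A'
  haveI : IsScalarTower (S ⧸ Ideal.span (s : Set S)) A' Bh := TensorProduct.isScalarTower_left
  haveI : Algebra.Etale (S ⧸ Ideal.span (s : Set S)) A' :=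
    Algebra.Etale.of_equiv e'
  haveI : Algebra.Etale (S ⧸ Ideal.span (s : Set S)) Bh := Algebra.Etale.comp _ A' Bh
  obtain ⟨S', _, _, _, ⟨θ⟩⟩ := Groth.L27.EtaleLift.exists_lift S (Ideal.span (s : Set S)) Bh
  let π : S' →+* Bh := θ.toRingHom.comp Algebra.TensorProduct.includeRight.toRingHom
  have hπ : Function.Surjective π := θ.surjective.comp fun z => by
    induction z using TensorProduct.induction_on with
    | zero => exact ⟨0, map_zero _⟩
    | add a b ha hb =>
      obtain ⟨u, hu⟩ := ha
      obtain ⟨v, hv⟩ := hb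
      exact ⟨u + v, by rw [map_add, hu, hv]⟩
    | tmul r c =>
      obtain ⟨r, rfl⟩ := Ideal.Quotient.mk_surjective r
      exact ⟨r • c, by
        show (1 : S ⧸ Ideal.span (s : Set S)) ⊗ₜ[S] (r • c) = _
        rw [← TensorProduct.smul_tmul, Algebra.smul_def, mul_one]
        rfl⟩
  have hkerπ : RingHom.ker π = (Ideal.span (s : Set S)).map (algebraMap S S') := by
    ext z
    have hz : π z = 0 ↔ (1 : S ⧸ Ideal.span (s : Set S)) ⊗ₜ[S] z = 0 := map_eq_zero_iff _ θ.injective
    let Q := Algebra.TensorProduct.quotIdealMapEquivQuotTensor S' (Ideal.span (s : Set S))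
    rw [RingHom.mem_ker, hz, ← Ideal.Quotient.eq_zero_iff_mem, ← map_eq_zero_iff _ Q.injective]
    simp [Q]
  -- a point over `x` and the closed point
  let ι : B →+* Bh := (Algebra.TensorProduct.includeRight (R := A) (A := A') (B := B)).toRingHom
  letI : Algebra B Bh := Algebra.TensorProduct.rightAlgebra
  haveI hBflat : Module.FaithfullyFlat B Bh :=
    Module.FaithfullyFlat.of_linearEquiv _ _ (Algebra.TensorProduct.commRight A B A').symm.toLinearEquiv
  obtain ⟨P, hP⟩ := PrimeSpectrum.comap_surjective_of_faithfullyFlat (B := Bh) x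
  have hPA : P.asIdeal.comap (algebraMap A' Bh) = maximalIdeal A' := by
    refine ((maximalIdeal.isMaximal A').eq_of_le (Ideal.comap_ne_top _ P.2.ne_top) ?_).symm
    rw [← hmax, Ideal.map_le_iff_le_comap, Ideal.comap_comap]
    intro a ha
    show algebraMap A' Bh (algebraMap A A' a) ∈ P.asIdeal
    rw [← IsScalarTower.algebraMap_apply A A' Bh, IsScalarTower.algebraMap_apply A B Bh]
    have : algebraMap A B a ∈ x.asIdeal := hx.ge ha
    rw [← hP] at this
    exact this
  -- the regular local ring upstairs
  let n : Ideal S' := P.asIdeal.comap π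
  have hπalg : π.comp (algebraMap S S') = (algebraMap A' Bh).comp (algebraMap S A') := by
    ext z
    show θ ((1 : S ⧸ Ideal.span (s : Set S)) ⊗ₜ[S] algebraMap S S' z) = _
    rw [Algebra.algebraMap_eq_smul_one, ← TensorProduct.smul_tmul, Algebra.smul_def, mul_one]
    exact θ.commutes (algebraMap S _ z)
  have hnS : n.under S = maximalIdeal S := by
    show (P.asIdeal.comap π).comap (algebraMap S S') = _
    rw [Ideal.comap_comap, hπalg, ← Ideal.comap_comap, hPA]
    haveI := IsLocalHom.of_surjective _ hSA
    exact ((IsLocalRing.local_hom_TFAE (algebraMap S A')).out 0 4 (by rfl) (by rfl) :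
      IsLocalHom (algebraMap S A') ↔ Ideal.comap (algebraMap S A') (maximalIdeal A') = maximalIdeal S).1 inferInstance
  haveI : IsRegularRing S := Groth.L04.LC.isRegularRing_of_regularLocal S
  haveI hn : n.IsPrime := Ideal.IsPrime.comap π
  obtain ⟨hreg, hdim⟩ := Groth.L21.Smooth.regular_localization_of_etale S S' n
  let R'' := Localization.AtPrime n
  haveI : IsRegularLocalRing R'' := hreg
  have hdim' : ringKrullDim R'' = d := by
    refine hdim.trans ?_
    rw [IsLocalization.AtPrime.ringKrullDim_eq_height (n.under S), hnS, maximalIdeal_height_eq_ringKrullDim, hd]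
  let Cl := Localization.AtPrime P.asIdeal
  let q : R'' →+* Cl := Localization.localRingHom n P.asIdeal π rfl
  have hq : Function.Surjective q := RingHom.surjective_localRingHom_of_surjective π hπ P.asIdeal
  let s'' : Finset R'' := s.image fun a => algebraMap S' R'' (algebraMap S S' a)
  have hkq : RingHom.ker q = Ideal.span (s'' : Set R'') := by
    have h := IsLocalization.ker_map (S := R'') Cl π
      (M := n.primeCompl) (T := P.asIdeal.primeCompl)
      (by exact Submonoid.map_comap_eq_of_surjective hπ P.asIdeal.primeCompl)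
    refine h.trans ?_
    rw [hkerπ, Ideal.map_map, Ideal.map_span]
    congr 1
    simp [s'']
  have hconn := isConnected_punctured_of_surjective hdim' s''
    ((Nat.add_le_add_right Finset.card_image_le _).trans hs) q hq hkq
  -- maximal ideal of `Cl` comes from `A`
  have hClm : ∀ Q : PrimeSpectrum Cl, Q ≠ closedPoint Cl →
      (Q.asIdeal.comap ((algebraMap Bh Cl).comp (algebraMap B Bh))).comap (algebraMap A B) ≠ maximalIdeal A := by
    intro Q hQ he
    apply hQ
    apply PrimeSpectrum.ext
    refine le_antisymm (le_maximalIdeal Q.2.ne_top) ?_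
    have hun : Algebra.IsUnramifiedAt S n := inferInstance
    haveI : n.LiesOver (maximalIdeal S) := ⟨hnS.symm⟩
    letI := Localization.AtPrime.algebraOfLiesOver (maximalIdeal S) n
    have hm := ((Algebra.isUnramifiedAt_iff_map_eq S (maximalIdeal S) n).mp hun).2
    show maximalIdeal Cl ≤ Q.asIdeal
    rw [← IsLocalRing.map_maximalIdeal_of_surjective q hq, ← hm, Ideal.map_map, Ideal.map_le_iff_le_comap]
    intro z hz
    have h1 : q (algebraMap S R'' z) = algebraMap Bh Cl (algebraMap A' Bh (algebraMap S A' z)) := by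
      rw [IsScalarTower.algebraMap_apply S S' R'']
      rw [show q (algebraMap S' R'' (algebraMap S S' z)) = algebraMap Bh Cl (π (algebraMap S S' z)) from
        Localization.localRingHom_to_map _ _ _ _ _]
      exact congrArg _ (RingHom.congr_fun hπalg z)
    show q (algebraMap S R'' z) ∈ Q.asIdeal
    rw [h1]
    have h2 : algebraMap S A' z ∈ (maximalIdeal A).map (algebraMap A A') := by
      haveI := IsLocalHom.of_surjective _ hSA
      rw [hmax, ← IsLocalRing.map_maximalIdeal_of_surjective _ hSA]
      exact Ideal.mem_map_of_mem _ hz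
    have h3 : (maximalIdeal A).map (algebraMap A A') ≤ Q.asIdeal.comap ((algebraMap Bh Cl).comp (algebraMap A' Bh)) := by
      rw [Ideal.map_le_iff_le_comap]
      intro a ha
      show algebraMap Bh Cl (algebraMap A' Bh (algebraMap A A' a)) ∈ Q.asIdeal
      rw [← IsScalarTower.algebraMap_apply A A' Bh, IsScalarTower.algebraMap_apply A B Bh]
      exact he.ge ha
    exact h3 h2
  let φ : PrimeSpectrum Cl → PrimeSpectrum B := PrimeSpectrum.comap ((algebraMap Bh Cl).comp (algebraMap B Bh))
  have himg := hconn.image φ (PrimeSpectrum.continuous_comap _).continuousOn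
  have hlift : ∀ y : PrimeSpectrum B, y.asIdeal ≤ x.asIdeal → y ∈ C ∪ C' →
      y ∈ φ '' ({closedPoint Cl}ᶜ : Set (PrimeSpectrum Cl)) := by
    intro y hy hyC
    haveI : P.asIdeal.LiesOver x.asIdeal := ⟨(congrArg PrimeSpectrum.asIdeal hP).symm⟩
    obtain ⟨Q, hQP, hQ, hQy⟩ := Ideal.exists_ideal_le_liesOver_of_le (S := Bh) (p := y.asIdeal) (q := x.asIdeal) P.asIdeal hy
    obtain ⟨R₀, hR₀⟩ : (⟨Q, hQ⟩ : PrimeSpectrum Bh) ∈ Set.range (PrimeSpectrum.comap (algebraMap Bh Cl)) := by
      rw [PrimeSpectrum.localization_comap_range Cl P.asIdeal.primeCompl]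
      exact Set.disjoint_left.2 fun z hz hzQ => hz (hQP hzQ)
    have hφ : φ R₀ = y := by
      apply PrimeSpectrum.ext
      show (PrimeSpectrum.comap (algebraMap Bh Cl) R₀).asIdeal.comap (algebraMap B Bh) = y.asIdeal
      rw [hR₀]
      exact hQy.over.symm
    refine ⟨R₀, fun hc => hsub y hyC ?_, hφ⟩
    rw [Set.mem_singleton_iff.1 hc] at hφ
    have hx' : y = x := by
      rw [← hφ, ← hP]
      apply PrimeSpectrum.ext
      show (Ideal.comap (algebraMap Bh Cl) (maximalIdeal Cl)).comap (algebraMap B Bh) = _
      rw [show Ideal.comap (algebraMap Bh Cl) (maximalIdeal Cl) = P.asIdeal from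
        IsLocalization.AtPrime.under_maximalIdeal Cl P.asIdeal]
      rfl
    rw [hx']
    exact hx
  obtain ⟨z, -, hz, hz'⟩ := himg.isPreconnected C C' hC hC'
    (by
      rintro _ ⟨Q, hQ, rfl⟩
      exact hcov _ (hClm Q hQ))
    ⟨η, hlift η hle (Or.inl hη), hη⟩ ⟨η', hlift η' hle' (Or.inr hη'), hη'⟩
  exact Set.disjoint_left.1 hdis hz hz'

end Groth.L13.FEtLeff
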