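import Groth.Agent.L13.FEtLeff.VDimConn
import Groth.Agent.L27.PuncExtend.FullFaithful
import Groth.Agent.L27.PuncExtend.Dense
import Mathlib.AlgebraicGeometry.Morphisms.Etale

/-! Full faithfulness of restriction to the punctured spectrum in virtual dimension at least two. -/

set_option autoImplicit false
set_option maxSynthPendingDepth 3
set_option linter.style.haveILetI false
set_option backward.isDefEq.respectTransparency.types false

universe u

open CategoryTheory CategoryTheory.Limits AlgebraicGeometry IsLocalRing TopologicalSpace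

noncomputable section

namespace Groth.L13.FEtLeff

variable (A : Type u) [CommRing A] [IsNoetherianRing A] [IsLocalRing A]
    (S : Type u) [CommRing S] [IsRegularLocalRing S] {d : ℕ} (hd : ringKrullDim S = d) (s : Finset S)
    (hs : s.card + 2 ≤ d)
    (e : AdicCompletion (maximalIdeal A) A ≃+* S ⧸ Ideal.span (s : Set S))

include hd hs e in
theorem isConnected_punctured_of_vdim :
    _root_.IsConnected ({closedPoint A}ᶜ : Set (PrimeSpectrum A)) := by
  let Ah := AdicCompletion (maximalIdeal A) A
  haveI := Groth.L01.CompletionExt.faithfullyFlat A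
  refine isConnected_punctured_of_map (algebraMap A Ah) (Groth.L01.AnalUnram.completion_map_maximalIdeal A)
    PrimeSpectrum.comap_surjective_of_faithfullyFlat ?_
  refine isConnected_punctured_of_surjective hd s hs (e.symm.toRingHom.comp (Ideal.Quotient.mk _))
    (e.symm.surjective.comp Ideal.Quotient.mk_surjective) ?_
  rw [← RingHom.comap_ker, (RingHom.injective_iff_ker_eq_bot e.symm.toRingHom).1 e.symm.injective,
    ← RingHom.ker_eq_comap_bot, Ideal.mk_ker]

omit [IsNoetherianRing A] in
/-- points of the punctured spectrum of `A` -/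
theorem mem_puncturedSpec_comap {B : Type u} [CommRing B] (φ : A →+* B) (y : PrimeSpectrum B) :
    Spec.map (CommRingCat.ofHom φ) y ∈ FEt.puncturedSpec A ↔ y.asIdeal.comap φ ≠ maximalIdeal A :=
  ⟨fun h e => h (PrimeSpectrum.ext e), fun h e => h (congrArg PrimeSpectrum.asIdeal e)⟩

include hd hs e in
/-- over a ring of virtual dimension at least two, clopens of punctured etale schemes extend -/
theorem exists_clopen_of_vdim (R : Scheme.{u}) (r : R ⟶ Spec (CommRingCat.of A)) [Etale r]
    (hdense : ∀ O : R.Opens, (O : Set R).Nonempty → ∃ x ∈ O, r x ∈ FEt.puncturedSpec A)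
    (C C' : R.Opens) (hcov : C ⊔ C' = r ⁻¹ᵁ FEt.puncturedSpec A) (hdis : C ⊓ C' = ⊥) :
    ∃ D : Set R, IsClopen D ∧ D ∩ (r ⁻¹ᵁ FEt.puncturedSpec A : Set R) = C := by
  have hdj : Disjoint (C : Set R) C' := Set.disjoint_iff_inter_eq_empty.2 (by
    rw [← TopologicalSpace.Opens.coe_inf, hdis]; rfl)
  have hU : (C : Set R) ∪ C' = (r ⁻¹ᵁ FEt.puncturedSpec A : Set R) := by
    rw [← TopologicalSpace.Opens.coe_sup, hcov]
  have key : Disjoint (closure (C : Set R)) (closure (C' : Set R)) := by
    rw [Set.disjoint_left]
    intro x hx hx'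
    by_cases hxU : x ∈ r ⁻¹ᵁ FEt.puncturedSpec A
    · rcases (hU.ge hxU : x ∈ (C : Set R) ∪ C') with h | h
      · exact Set.disjoint_left.1 (hdj.closure_right C.2) h hx'
      · exact Set.disjoint_left.1 (hdj.closure_left C'.2) hx h
    obtain ⟨W, hW, hxW, -⟩ := exists_isAffineOpen_mem_and_subset (X := R) (x := x) (U := ⊤) trivial
    let B := Γ(R, W)
    let j : Spec B ⟶ R := hW.fromSpec
    obtain ⟨φ, hφ⟩ := Spec.map_surjective (j ≫ r)
    haveI hφet : Etale (Spec.map φ) := by rw [hφ]; infer_instance
    letI : Algebra A B := φ.hom.toAlgebra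
    haveI : Algebra.Etale A B := by
      have := (HasRingHomProperty.Spec_iff (P := @Etale)).1 hφet
      exact RingHom.etale_algebraMap.1 this
    haveI : IsNoetherianRing B := Algebra.FiniteType.isNoetherianRing A B
    obtain ⟨x₀, rfl⟩ : x ∈ Set.range j := by rw [hW.range_fromSpec]; exact hxW
    have hj := j.isOpenEmbedding
    have hmem : ∀ y : PrimeSpectrum B, j y ∈ r ⁻¹ᵁ FEt.puncturedSpec A ↔
        y.asIdeal.comap (algebraMap A B) ≠ maximalIdeal A := fun y => by
      refine Iff.trans ?_ (mem_puncturedSpec_comap A φ.hom y)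
      show (j ≫ r) y ∈ FEt.puncturedSpec A ↔ _
      rw [← hφ]
      rfl
    have hclC : x₀ ∈ closure (j ⁻¹' (C : Set R)) := by
      rw [← hj.isOpenMap.preimage_closure_eq_closure_preimage hj.continuous]; exact hx
    have hclC' : x₀ ∈ closure (j ⁻¹' (C' : Set R)) := by
      rw [← hj.isOpenMap.preimage_closure_eq_closure_preimage hj.continuous]; exact hx'
    have hoC : IsOpen (j ⁻¹' (C : Set R) : Set (PrimeSpectrum B)) := C.2.preimage hj.continuous
    have hoC' : IsOpen (j ⁻¹' (C' : Set R) : Set (PrimeSpectrum B)) := C'.2.preimage hj.continuous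
    obtain ⟨η, hη, hle⟩ := Groth.L27.PuncExtend.exists_le_of_mem_closure (B := B)
      (NoetherianSpace.isCompact (α := PrimeSpectrum B) _) hoC hclC
    obtain ⟨η', hη', hle'⟩ := Groth.L27.PuncExtend.exists_le_of_mem_closure (B := B)
      (NoetherianSpace.isCompact (α := PrimeSpectrum B) _) hoC' hclC'
    haveI := Groth.L01.CompletionExt.faithfullyFlat A
    refine not_mem_closure_both (AdicCompletion (maximalIdeal A) A)
      (Groth.L01.AnalUnram.completion_map_maximalIdeal A) hd s hs e B x₀
      (not_not.1 fun h => hxU ((hmem x₀).2 h)) hoC hoC' (fun y hy => ?_) (fun y hy => ?_)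
      (Disjoint.preimage _ hdj) η η' hη hη' hle hle'
    · exact (hU.ge ((hmem y).2 hy) : j y ∈ (C : Set R) ∪ C')
    · exact (hmem y).1 (hU.le hy)
  have huniv : closure (C : Set R) ∪ closure (C' : Set R) = Set.univ := by
    rw [← closure_union, hU]
    refine Dense.closure_eq (dense_iff_inter_open.2 fun O hO hne => ?_)
    obtain ⟨y, hy, hyU⟩ := hdense ⟨O, hO⟩ hne
    exact ⟨y, hy, hyU⟩
  have hcompl : closure (C : Set R) = (closure (C' : Set R))ᶜ := by
    refine Set.Subset.antisymm key.subset_compl_right fun z hz => ?_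
    exact ((huniv.ge (Set.mem_univ z)) : z ∈ closure (C : Set R) ∪ closure (C' : Set R)).resolve_right hz
  refine ⟨closure (C : Set R), ⟨isClosed_closure, hcompl ▸ isClosed_closure.isOpen_compl⟩, ?_⟩
  refine Set.Subset.antisymm (fun z hz => ?_) fun z hz => ⟨subset_closure hz, hU.le (Or.inl hz)⟩
  exact ((hU.ge hz.2 : z ∈ (C : Set R) ∪ C')).resolve_right fun h =>
    Set.disjoint_left.1 key hz.1 (subset_closure h)

include hd hs e in
/-- restriction to the punctured spectrum is fully faithful, and the punctured spectrum is connected -/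
theorem fullyFaithful_of_vdim :
    ((FEt.restrict (FEt.puncturedSpec A).ι).Full ∧ (FEt.restrict (FEt.puncturedSpec A).ι).Faithful) ∧
      ConnectedSpace ↥(FEt.puncturedSpec A : Scheme.{u}) := by
  have hc := isConnected_punctured_of_vdim A S hd s hs e
  refine ⟨?_, isConnected_iff_connectedSpace.1 hc⟩
  have hdU : Dense (FEt.puncturedSpec A : Set (Spec (CommRingCat.of A))) := fun x => by
    by_cases hx : x = closedPoint A
    · obtain ⟨y, hy⟩ := hc.nonempty
      subst hx
      exact closure_mono (Set.singleton_subset_iff.2 hy) (specializes_iff_mem_closure.1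
        ((PrimeSpectrum.le_iff_specializes y (closedPoint A)).1 (le_maximalIdeal y.2.ne_top)))
    · exact subset_closure hx
  have hd' := fun R r (hr : Etale r) => Groth.L27.PuncExtend.dense_etale (FEt.puncturedSpec A) hdU R r hr
  exact Groth.L27.PuncExtend.restrict_fullyFaithful (FEt.puncturedSpec A) hd'
    fun R r hr => exists_clopen_of_vdim A S hd s hs e R r (hd' R r hr)

end Groth.L13.FEtLeff
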