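import Groth.Agent.L13.FEtLeff.CI
import Groth.Agent.S1142
import Groth.Agent.L29.Dual.CompleteDual
import Groth.Agent.L07.Ferrand
import Groth.Agent.L20.QfCurve
import Groth.Agent.L04.Canon.Connected
import Mathlib.RingTheory.Ideal.AssociatedPrime.Localization

/-! Purity for complete local rings of virtual dimension at least three. -/

set_option autoImplicit false
set_option maxSynthPendingDepth 3
set_option linter.style.haveILetI false
set_option backward.isDefEq.respectTransparency false
set_option backward.isDefEq.respectTransparency.types false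

universe u

open IsLocalRing RingTheory.Sequence
open Groth.L18.LocPic (dim_depth le_depth_of_le_dim)
open scoped Pointwise

noncomputable section

namespace Groth.L13.FEtLeff

/-- Avoidance in a coset (Davis). -/
theorem exists_coset_avoid {S : Type u} [CommRing S] (T : Set (Ideal S)) (hT : T.Finite)
    (hprime : ∀ q ∈ T, q.IsPrime) (x : S) (J : Ideal S) (h : ∀ q ∈ T, x ∈ q → ¬ J ≤ q) :
    ∃ a ∈ J, ∀ q ∈ T, x + a ∉ q := by
  obtain ⟨a, ha, h'⟩ := Groth.L07.Ferrand.exists_coset_notMem {q ∈ T | ¬ J ≤ q} (hT.subset fun q hq => hq.1)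
    (fun q hq => hprime q hq.1) x J fun q hq => hq.2
  refine ⟨a, ha, fun q hq hxa => ?_⟩
  by_cases hJ : J ≤ q
  · exact h q hq (by simpa using sub_mem hxa (hJ ha)) hJ
  · exact h' q ⟨hq, hJ⟩ hxa

/-- An element avoiding the associated primes below `P` is regular on the localized quotient. -/
theorem isSMulRegular_localized {S : Type u} [CommRing S] [IsNoetherianRing S] (K : Ideal S) (P : Ideal S)
    [P.IsPrime] (g : S) (h : ∀ q ∈ associatedPrimes S (S ⧸ K), q ≤ P → g ∉ q) (z : Localization.AtPrime P)
    (hz : algebraMap S _ g * z ∈ K.map (algebraMap S (Localization.AtPrime P))) :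
    z ∈ K.map (algebraMap S (Localization.AtPrime P)) := by
  obtain ⟨c, s, rfl⟩ := IsLocalization.exists_mk'_eq P.primeCompl z
  rw [← IsLocalization.mk'_one (M := P.primeCompl) (Localization.AtPrime P) g, ← IsLocalization.mk'_mul,
    IsLocalization.mk'_mem_map_algebraMap_iff P.primeCompl] at hz
  obtain ⟨t, ht, htc⟩ := hz
  rw [IsLocalization.mk'_mem_map_algebraMap_iff P.primeCompl]
  by_contra hc
  let N : Submodule S (S ⧸ K) := S ∙ Ideal.Quotient.mk K (t * c)
  have hle : Module.annihilator S N ≤ P := fun a ha => by
    by_contra haP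
    refine hc ⟨a * t, mul_mem (s := P.primeCompl) haP ht, ?_⟩
    have h0 := congrArg Subtype.val (Module.mem_annihilator.1 ha ⟨_, Submodule.mem_span_singleton_self _⟩)
    rw [← Ideal.Quotient.eq_zero_iff_mem, mul_assoc, map_mul]
    exact h0
  obtain ⟨q, hq, hqP⟩ := Ideal.exists_minimalPrimes_le hle
  have hgq : g ∈ q := hq.1.2 (by
    refine Module.mem_annihilator.2 fun m => ?_
    obtain ⟨b, hb⟩ := Submodule.mem_span_singleton.1 m.2
    refine Subtype.ext ?_
    show g • (m : S ⧸ K) = 0
    rw [← hb, smul_comm]
    have : g • Ideal.Quotient.mk K (t * c) = 0 := by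
      show Ideal.Quotient.mk K (g * (t * c)) = 0
      rw [Ideal.Quotient.eq_zero_iff_mem, show g * (t * c) = t * (g * c) by ring]
      exact htc
    rw [this, smul_zero])
  haveI : Module.Finite S N := Module.Finite.span_singleton S _
  exact h q (associatedPrimes.subset_of_injective N.injective_subtype
    (Module.associatedPrimes.minimalPrimes_annihilator_subset_associatedPrimes S N hq)) hqP hgq

variable {S : Type u} [CommRing S] [IsRegularLocalRing S]

/-- Localization of a quotient of a regular local ring where the equations form a regular sequence. -/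
theorem ci_at {B : Type u} [CommRing B] [IsLocalRing B] (gs : List S) (π : S →+* B)
    (hπ : Function.Surjective π) (hker : RingHom.ker π = Ideal.ofList gs) (p : Ideal B) [p.IsPrime]
    (hreg : IsWeaklyRegular (Localization.AtPrime (p.comap π))
      (gs.map (algebraMap S (Localization.AtPrime (p.comap π)))))
    {d : ℕ} (hd : ringKrullDim S = d) {c : ℕ} (hc : ringKrullDim (B ⧸ p) = c) (k : ℕ)
    (hk : gs.length + c + k ≤ d) :
    (k : ℕ∞) ≤ LocCoh.depth (Localization.AtPrime p) (Localization.AtPrime p) ∧
      (3 ≤ k → FEt.PurityHolds (Localization.AtPrime p)) := by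
  let Q := p.comap π
  haveI : IsNoetherianRing B := isNoetherianRing_of_surjective S B π hπ
  haveI : IsNoetherianRing (Localization.AtPrime p) :=
    IsLocalization.isNoetherianRing p.primeCompl _ inferInstance
  haveI : IsRegularLocalRing (Localization.AtPrime Q) := Groth.Agent.S0564.result S Q
  let g : Localization.AtPrime Q →+* Localization.AtPrime p := Localization.localRingHom Q p π rfl
  have hg : Function.Surjective g := RingHom.surjective_localRingHom_of_surjective π hπ p
  have hgker : RingHom.ker g = Ideal.ofList (gs.map (algebraMap S (Localization.AtPrime Q))) := by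
    rw [← Ideal.map_ofList, ← hker]
    exact IsLocalization.ker_map (S := Localization.AtPrime Q) (Localization.AtPrime p) π
      (M := Q.primeCompl) (T := p.primeCompl) (by exact Submonoid.map_comap_eq_of_surjective hπ p.primeCompl)
  have hmQ : ∀ x ∈ gs.map (algebraMap S (Localization.AtPrime Q)), x ∈ maximalIdeal (Localization.AtPrime Q) :=
    fun x hx => by
      obtain ⟨y, hy, rfl⟩ := List.mem_map.1 hx
      refine (IsLocalization.AtPrime.to_map_mem_maximal_iff _ Q y).2 ?_
      show π y ∈ p
      rw [RingHom.mem_ker.1 (hker.ge (Ideal.subset_span hy) : y ∈ RingHom.ker π)]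
      exact zero_mem _
  obtain ⟨hdq, -⟩ := dim_depth gs.length _ (List.length_map _) hmQ hreg g hg hgker
  have hcat := Groth.L04.height_add_ringKrullDim_quotient (R := S) Q
  have e : (S ⧸ Q) ≃+* B ⧸ p := RingEquiv.ofBijective (Ideal.quotientMap p π le_rfl)
    ⟨Ideal.quotientMap_injective, Ideal.quotientMap_surjective hπ⟩
  rw [← IsLocalization.AtPrime.ringKrullDim_eq_height Q (Localization.AtPrime Q), ← hdq,
    ringKrullDim_eq_of_ringEquiv e, hc, hd] at hcat
  have hkdim : (k : WithBot ℕ∞) ≤ ringKrullDim (Localization.AtPrime p) := by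
    revert hcat
    generalize ringKrullDim (Localization.AtPrime p) = a
    intro h
    cases a with
    | bot => simp at h
    | coe a =>
      cases a with
      | top => exact WithBot.coe_le_coe.2 le_top
      | coe a =>
        have h' : c + (a + gs.length) = d := by exact_mod_cast h
        exact_mod_cast (by omega : k ≤ a)
  refine ⟨le_depth_of_le_dim _ hmQ hreg g hg hgker hkdim, fun h3 => ?_⟩
  exact purityHolds_ci gs.length _ _ _ (List.length_map _) hmQ hreg g hg hgker
    (le_trans (by exact_mod_cast h3) hkdim)

variable [IsAdicComplete (maximalIdeal S) S]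

/-- Purity descends along one more equation which is regular wherever it does not vanish. -/
theorem purity_step {d : ℕ} (hd : ringKrullDim S = d) (gs : List S) (g : S)
    (hlen : gs.length + 4 ≤ d) (hg : g ∈ maximalIdeal S)
    (hinv : ∀ P : Ideal S, ∀ _ : P.IsPrime, Ideal.ofList gs ≤ P → g ∉ P →
      IsWeaklyRegular (Localization.AtPrime P) (gs.map (algebraMap S (Localization.AtPrime P))))
    (B' : Type u) [CommRing B'] [IsLocalRing B'] (π' : S →+* B') (hπ' : Function.Surjective π')
    (hker' : RingHom.ker π' = Ideal.ofList gs) (hB' : FEt.PurityHolds B')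
    (C : Type u) [CommRing C] [IsLocalRing C] (ρ : S →+* C) (hρ : Function.Surjective ρ)
    (hkρ : RingHom.ker ρ = Ideal.ofList (gs ++ [g])) : FEt.PurityHolds C := by
  classical
  let B := S ⧸ Ideal.ofList gs
  let π : S →+* B := Ideal.Quotient.mk _
  have hπ : Function.Surjective π := Ideal.Quotient.mk_surjective
  have hker : RingHom.ker π = Ideal.ofList gs := Ideal.mk_ker
  let e₀ : B' ≃+* B :=
    (RingHom.quotientKerEquivOfSurjective hπ').symm.trans (Ideal.quotEquivOfEq hker')
  haveI : IsLocalRing B := e₀.isLocalRing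
  have hB : FEt.PurityHolds B := purityHolds_of_ringEquiv e₀ hB'
  haveI : IsNoetherianRing B := isNoetherianRing_of_surjective S B π hπ
  let f := π g
  have hf : f ∈ maximalIdeal B := by
    rw [← IsLocalRing.map_maximalIdeal_of_surjective π hπ]
    exact Ideal.mem_map_of_mem π hg
  haveI : IsAdicComplete (maximalIdeal B) B := Groth.L01.NagataComplete.isAdicComplete_quotient _
  haveI := Groth.L18.LocPic.isAdicComplete_span (maximalIdeal B) hf
  have hkerφ : RingHom.ker π ≤ RingHom.ker ρ := by
    rw [hker, hkρ, Ideal.ofList_append]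
    exact le_sup_left
  let φ : B →+* C := π.liftOfSurjective hπ ⟨ρ, hkerφ⟩
  have hφπ : φ.comp π = ρ := π.liftOfRightInverse_comp _ _ _
  have hφ : Function.Surjective φ := fun c => by
    obtain ⟨a, rfl⟩ := hρ c
    exact ⟨π a, RingHom.congr_fun hφπ a⟩
  have hkφ : RingHom.ker φ = Ideal.span {f} := by
    rw [← Ideal.map_comap_of_surjective π hπ (RingHom.ker φ), RingHom.comap_ker, hφπ, hkρ, Ideal.map_ofList,
      List.map_append, Ideal.ofList_append, ← Ideal.map_ofList]
    rw [(Ideal.map_eq_bot_iff_le_ker π).2 hker.ge, bot_sup_eq]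
    simp [f]
  let ψ : B ⧸ Ideal.span {f} ≃+* C :=
    (Ideal.quotEquivOfEq hkφ.symm).trans (RingHom.quotientKerEquivOfSurjective hφ)
  haveI : IsLocalRing (B ⧸ Ideal.span {f}) := ψ.symm.isLocalRing
  refine purityHolds_of_ringEquiv ψ (Groth.Agent.S1142.result B f hf
    (Groth.L29.CompleteDual.exists_dualizing_of_complete B) (Or.inr fun p hp hfp _ => ?_) (fun P hP => ?_) hB)
  · haveI := hp
    have hle : Ideal.ofList gs ≤ p.comap π := fun x hx =>
      show π x ∈ p by rw [RingHom.mem_ker.1 (hker.ge hx)]; exact zero_mem _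
    obtain ⟨c, hc⟩ := Groth.L04.Canon.exists_quotDim_eq (K := p) hp.ne_top
    have hcd : gs.length + c ≤ d ∨ d < gs.length + c := le_or_gt _ _
    rcases hcd with hcd | hcd
    · obtain ⟨h1, -⟩ := ci_at gs π hπ hker p (hinv _ inferInstance hle hfp) hd hc (d - gs.length - c) (by omega)
      rw [hc]
      have h2 : ((d - gs.length - c : ℕ) : WithBot ℕ∞) ≤
          (LocCoh.depth (Localization.AtPrime p) (Localization.AtPrime p) : WithBot ℕ∞) := WithBot.coe_le_coe.2 h1
      exact lt_of_lt_of_le (by exact_mod_cast (by omega : 3 < (d - gs.length - c) + c)) (add_le_add_left h2 _)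
    · rw [hc]
      refine lt_of_lt_of_le (by exact_mod_cast (by omega : 3 < c) : (3 : WithBot ℕ∞) < (c : WithBot ℕ∞)) ?_
      exact le_add_of_nonneg_left (WithBot.coe_le_coe.2 zero_le)
  · haveI := hP
    let p := P.comap (algebraMap B (Localization.Away f))
    haveI : p.IsPrime := Ideal.IsPrime.comap _
    have hfp : f ∉ p := fun h =>
      hP.ne_top (P.eq_top_of_isUnit_mem h (IsLocalization.Away.algebraMap_isUnit f))
    have hp1 : ringKrullDim (B ⧸ p) = 1 := by
      refine ringKrullDim_quot_eq_one hf ⟨p, inferInstance⟩ (fun h => hfp (h.ge hf)) hfp fun r hpr hfr => ?_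
      obtain ⟨z, hz, hpz, hfz, hzmax⟩ := Groth.L20.QfCurve.exists_coheight_one hf p hfp
      haveI := hz
      have hdisj : Disjoint (Submonoid.powers f : Set B) (z : Set B) :=
        Set.disjoint_left.2 fun a ⟨n, hn⟩ haz => hfz (hz.mem_of_pow_mem n (by rw [← hn] at haz; exact haz))
      haveI hzp := IsLocalization.isPrime_of_isPrime_disjoint (Submonoid.powers f) (Localization.Away f) z hz hdisj
      have hPz : P ≤ z.map (algebraMap B (Localization.Away f)) := by
        rw [← IsLocalization.map_comap (Submonoid.powers f) (Localization.Away f) P]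
        exact Ideal.map_mono hpz
      have hzp : z = p := by
        rw [← IsLocalization.comap_map_of_isPrime_disjoint (Submonoid.powers f) (Localization.Away f) hz hdisj,
          ← hP.eq_of_le hzp.ne_top hPz]
      exact hzmax r.asIdeal r.2 (lt_of_le_of_ne (hzp ▸ hpr) fun h => hfz (h ▸ hfr))
    haveI : IsNoetherianRing (Localization.Away f) := IsLocalization.isNoetherianRing (Submonoid.powers f) _ inferInstance
    have hle : Ideal.ofList gs ≤ p.comap π := fun x hx =>
      show π x ∈ p by rw [RingHom.mem_ker.1 (hker.ge hx)]; exact zero_mem _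
    obtain ⟨-, h2⟩ := ci_at gs π hπ hker p (hinv _ inferInstance hle hfp) hd
      (c := 1) (by rw [hp1]; norm_num) 3 (by omega)
    exact purityHolds_of_ringEquiv
      (IsLocalization.localizationLocalizationAtPrimeIsoLocalization (Submonoid.powers f) P).toRingEquiv (h2 le_rfl)

end Groth.L13.FEtLeff
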